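import Mathlib
import Cfsg.Prelude.Def_HallClasses

/-!
# Criteria for pronormality of subgroups containing a Sylow subgroup
-/

set_option autoImplicit false

namespace Cfsg.Agent.Pronormal

variable {G : Type*} [Group G]

/-- The conjugate subgroup. -/
abbrev cj (g : G) (H : Subgroup G) : Subgroup G := H.map (MulAut.conj g).toMonoidHom

theorem cj_mul (g h : G) (H : Subgroup G) : cj (g * h) H = cj g (cj h H) := by
  simp only [cj, Subgroup.map_map]
  congr 1
  ext y
  simp [mul_assoc]

theorem mem_cj {g x : G} {H : Subgroup G} : x ∈ cj g H ↔ g⁻¹ * x * g ∈ H := by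
  simp only [cj, Subgroup.mem_map, MulEquiv.coe_toMonoidHom, MulAut.conj_apply]
  constructor
  · rintro ⟨y, hy, rfl⟩; simpa [mul_assoc] using hy
  · intro h; exact ⟨_, h, by group⟩

theorem cj_one (H : Subgroup G) : cj 1 H = H := by
  ext x; simp [mem_cj]

theorem cj_eq_self {n : G} {H : Subgroup G} (hn : n ∈ H) : cj n H = H := by
  ext x
  rw [mem_cj]
  constructor
  · intro h
    have := mul_mem (mul_mem hn h) (inv_mem hn)
    simpa [mul_assoc] using this
  · intro h; exact mul_mem (mul_mem (inv_mem hn) h) hn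

theorem cj_le_cj {g : G} {H K : Subgroup G} (h : H ≤ K) : cj g H ≤ cj g K := Subgroup.map_mono h

variable [Finite G] {p : ℕ} [Fact p.Prime]

/-- A subgroup containing a Sylow subgroup is pronormal once the condition holds on the normaliser. -/
theorem isPronormal_of_normalizer {H : Subgroup G} (S : Sylow p G) (hS : (S : Subgroup G) ≤ H)
    (hN : ∀ n ∈ Subgroup.normalizer ((S : Subgroup G) : Set G), ∃ x ∈ H ⊔ cj n H, cj n H = cj x H) :
    Cfsg.IsPronormal H := by
  intro g
  set K := H ⊔ cj g H with hK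
  have h1 : ((g • S : Sylow p G) : Subgroup G) ≤ K := by
    rw [Sylow.coe_subgroup_smul]
    exact le_trans (Subgroup.map_mono hS) le_sup_right
  obtain ⟨k, hk⟩ := MulAction.exists_smul_eq K ((g • S).subtype h1) (S.subtype (hS.trans le_sup_left))
  rw [Sylow.smul_subtype] at hk
  have e : (k : G) • g • S = S := Sylow.subtype_injective hk
  rw [smul_smul] at e
  obtain ⟨x, hx, hxe⟩ := hN _ (Sylow.smul_eq_iff_mem_normalizer.1 e)
  have hle : cj ((k : G) * g) H ≤ K := by
    intro y hy
    rw [cj_mul, mem_cj] at hy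
    have h2 : (k : G)⁻¹ * y * k ∈ K := le_sup_right (a := H) hy
    have := mul_mem (mul_mem k.2 h2) (inv_mem k.2)
    simpa [mul_assoc] using this
  have hxK : x ∈ K := sup_le le_sup_left hle hx
  refine ⟨(k : G)⁻¹ * x, mul_mem (inv_mem k.2) hxK, ?_⟩
  show cj g H = cj ((k : G)⁻¹ * x) H
  rw [cj_mul, ← hxe, ← cj_mul, inv_mul_cancel_left]

/-- Self-normalising Sylow subgroup. -/
theorem isPronormal_of_selfNormalizing {H : Subgroup G} (S : Sylow p G) (hS : (S : Subgroup G) ≤ H)
    (hN : Subgroup.normalizer ((S : Subgroup G) : Set G) ≤ (S : Subgroup G)) :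
    Cfsg.IsPronormal H :=
  isPronormal_of_normalizer S hS fun n hn =>
    ⟨1, one_mem _, by rw [cj_eq_self (hS (hN hn)), cj_one]⟩

/-- A subgroup of index prime to `p` contains a Sylow `p`-subgroup. -/
theorem exists_sylow_le {H : Subgroup G} (h : ¬ p ∣ H.index) :
    ∃ S : Sylow p G, (S : Subgroup G) ≤ H := by
  obtain ⟨P⟩ : Nonempty (Sylow p H) := inferInstance
  obtain ⟨S, hS⟩ := (P.isPGroup'.map H.subtype).exists_le_sylow
  have hPle : (P : Subgroup H).map H.subtype ≤ H := Subgroup.map_subtype_le _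
  have hc : Nat.card ((P : Subgroup H).map H.subtype) = Nat.card (S : Subgroup G) := by
    rw [Nat.card_congr ((P : Subgroup H).equivMapOfInjective _ H.subtype_injective).toEquiv.symm]
    rw [P.card_eq_multiplicity, S.card_eq_multiplicity, ← H.card_mul_index,
      Nat.factorization_mul Nat.card_pos.ne' Subgroup.index_ne_zero_of_finite]
    simp [Nat.factorization_eq_zero_of_not_dvd h]
  exact ⟨S, (Subgroup.eq_of_le_of_card_ge hS hc.ge) ▸ hPle⟩

end Cfsg.Agent.Pronormal
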