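import Cfsg.Agent.Lib.Pronormal.Criterion
import Cfsg.Agent.Lib.AutPSL.Sylow

/-!
# Overgroups of the unitriangular group in `SL_n`, and pronormality in the defining characteristic
-/

set_option autoImplicit false

namespace Cfsg.Agent.Pronormal

open Matrix Cfsg.Agent.AutPSL

universe u
variable {n : ℕ} {F : Type u} [Field F]

local notation "SLn" => Matrix.SpecialLinearGroup (Fin n) F
local notation "PSLn" => Matrix.ProjectiveSpecialLinearGroup (Fin n) F
local notation "Mat" => Matrix (Fin n) (Fin n) F

/-- Upper triangular. -/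
def UT (g : SLn) : Prop := ∀ k j : Fin n, j < k → (g : Mat) k j = 0

theorem UT.blockTri {g : SLn} (h : UT g) : (g : Mat).BlockTriangular id := fun a b hab => h a b hab

theorem UT.mul {g h : SLn} (hg : UT g) (hh : UT h) : UT (g * h) := fun k j hjk => by
  rw [Matrix.SpecialLinearGroup.coe_mul]; exact (hg.blockTri.mul hh.blockTri) hjk

theorem UT.inv {g : SLn} (hg : UT g) : UT g⁻¹ := fun k j hjk => by
  haveI : Invertible (g : Mat) := (Matrix.SpecialLinearGroup.toGL g).invertible
  have h1 := Matrix.blockTriangular_inv_of_blockTriangular hg.blockTri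
  rw [Matrix.inv_eq_right_inv (show (g : Mat) * ((g⁻¹ : SLn) : Mat) = 1 by
      rw [← Matrix.SpecialLinearGroup.coe_mul, mul_inv_cancel]; rfl)] at h1
  exact h1 hjk

theorem UT.mul_diag {g h : SLn} (hg : UT g) (hh : UT h) (a : Fin n) :
    ((g * h : SLn) : Mat) a a = (g : Mat) a a * (h : Mat) a a := by
  rw [Matrix.SpecialLinearGroup.coe_mul, Matrix.mul_apply, Finset.sum_eq_single a]
  · intro c _ hc
    rcases lt_or_gt_of_ne hc with h' | h'
    · rw [hg _ _ h', zero_mul]
    · rw [hh _ _ h', mul_zero]
  · simp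

theorem comm_mem_upperU {g h : SLn} (hg : UT g) (hh : UT h) : g * h * g⁻¹ * h⁻¹ ∈ upperU n F := by
  have h1 := ((hg.mul hh).mul hg.inv).mul hh.inv
  refine mem_upperU.2 ⟨fun i j hji => h1 i j hji, fun a => ?_⟩
  rw [((hg.mul hh).mul hg.inv).mul_diag hh.inv, (hg.mul hh).mul_diag hg.inv, hg.mul_diag hh]
  have e1 := hg.mul_diag hg.inv a
  have e2 := hh.mul_diag hh.inv a
  rw [mul_inv_cancel, Matrix.SpecialLinearGroup.coe_one, Matrix.one_apply_eq] at e1 e2
  calc (g : Mat) a a * (h : Mat) a a * ((g⁻¹ : SLn) : Mat) a a * ((h⁻¹ : SLn) : Mat) a a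
      = ((g : Mat) a a * ((g⁻¹ : SLn) : Mat) a a) * ((h : Mat) a a * ((h⁻¹ : SLn) : Mat) a a) := by ring
    _ = 1 := by rw [← e1, ← e2, one_mul]

theorem upperU_UT {g : SLn} (hg : g ∈ upperU n F) : UT g := fun k j h => (mem_upperU.1 hg).1 k j h

/-- The clearing element: kills the column entries above the pivot. -/
def clearMat (r : Fin n) (v : Fin n → F) : Mat :=
  Matrix.of fun i j => if i = j then 1 else if j = r ∧ i < r then -(v i) else 0

theorem clear_isUni (r : Fin n) (v : Fin n → F) : IsUni (clearMat r v) := by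
  refine ⟨fun i j hji => ?_, fun i => by simp [clearMat]⟩
  simp only [clearMat, Matrix.of_apply, if_neg hji.ne']
  rw [if_neg]
  rintro ⟨rfl, h⟩
  exact absurd hji (not_lt.2 h.le)

def clearElt (r : Fin n) (v : Fin n → F) : SLn :=
  ⟨clearMat r v, by
    rw [Matrix.det_of_upperTriangular (fun a b h => (clear_isUni r v).1 a b h)]
    simp [(clear_isUni r v).2]⟩

theorem clear_mul_apply (r : Fin n) (v : Fin n → F) (h : SLn) (i j : Fin n) :
    ((clearElt r v * h : SLn) : Mat) i j =
      (h : Mat) i j - (if i < r then v i * (h : Mat) r j else 0) := by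
  rw [Matrix.SpecialLinearGroup.coe_mul, Matrix.mul_apply]
  show ∑ l, clearMat r v i l * (h : Mat) l j = _
  rcases lt_or_ge i r with hir | hir
  · rw [if_pos hir, Finset.sum_eq_add i r hir.ne]
    · simp only [clearMat, Matrix.of_apply, if_pos, if_neg hir.ne, true_and, hir]
      ring
    · intro l _ hl
      simp [clearMat, Ne.symm hl.1, hl.2]
    · simp
    · simp
  · rw [if_neg (not_lt.2 hir), Finset.sum_eq_single i]
    · simp [clearMat]
    · intro l _ hl
      simp [clearMat, Ne.symm hl, not_lt.2 hir]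
    · simp

theorem swapElt_mul_apply (i j : Fin n) (hij : i ≠ j) (h : SLn) (a b : Fin n) :
    ((swapElt i j hij * h : SLn) : Mat) a b =
      if a = i then (h : Mat) j b else if a = j then -(h : Mat) i b else (h : Mat) a b := by
  rw [Matrix.SpecialLinearGroup.coe_mul, swapElt_coe, Matrix.sub_mul, Matrix.add_mul, Matrix.sub_mul,
    Matrix.sub_mul, one_mul]
  simp only [Matrix.sub_apply, Matrix.add_apply]
  by_cases hai : a = i
  · subst hai; simp [hij]
  · by_cases haj : a = j
    · subst haj; simp [hai]
    · simp [hai, haj]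

/-- The elements of `H` whose conjugate by `g` stays in `H`. -/
def stayIn (g : SLn) (H : Subgroup SLn) : Subgroup SLn := H ⊓ H.comap (MulAut.conj g).toMonoidHom

theorem mem_stayIn {H : Subgroup SLn} {g x : SLn} : x ∈ stayIn g H ↔ x ∈ H ∧ g * x * g⁻¹ ∈ H := Iff.rfl

/-- Diagonal elements. -/
def IsDg (g : SLn) : Prop := ∀ a b : Fin n, a ≠ b → (g : Mat) a b = 0

theorem IsDg.ut {g : SLn} (h : IsDg g) : UT g := fun k j hjk => h k j hjk.ne'

theorem IsDg.conj_tv {g : SLn} (hg : IsDg g) {i j : Fin n} (hij : i ≠ j) (a : F) :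
    ∃ b : F, g * tv i j hij a * g⁻¹ = tv i j hij b := by
  have hii : (g : Mat) j j ≠ 0 := by
    intro h0
    have hd := g.det_coe
    rw [Matrix.det_eq_zero_of_row_eq_zero j (fun l => by
      by_cases hl : l = j
      · rw [hl, h0]
      · exact hg _ _ (Ne.symm hl))] at hd
    exact zero_ne_one hd
  refine ⟨(g : Mat) i i * a * ((g : Mat) j j)⁻¹, mul_inv_eq_iff_eq_mul.2 ?_⟩
  apply Subtype.ext
  simp only [Matrix.SpecialLinearGroup.coe_mul, tv_coe, Matrix.mul_add, Matrix.add_mul, mul_one, one_mul]
  congr 1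
  ext x y
  rw [Matrix.mul_apply, Matrix.mul_apply, Finset.sum_eq_single x, Finset.sum_eq_single y]
  · by_cases hx : i = x
    · by_cases hy : j = y
      · subst hx; subst hy
        simp only [Matrix.single_apply_same]
        field_simp
      · simp [Matrix.single_apply, hx, hy]
    · simp [Matrix.single_apply, hx]
  · intro l _ hl; rw [hg l y hl, mul_zero]
  · simp
  · intro l _ hl; rw [hg x l hl.symm, zero_mul]
  · simp


theorem upperU_le_stayIn {H : Subgroup SLn} (hU : upperU n F ≤ H) {g : SLn} (hg : UT g) : upperU n F ≤ stayIn g H :=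
  fun _ hu => mem_stayIn.2 ⟨hU hu, hU (normalizes_of_upper g hg hu)⟩

/-- An overgroup of `U` is normalised by diagonal elements. -/
theorem stayIn_of_isDg {H : Subgroup SLn} (hU : upperU n F ≤ H) {g : SLn} (hg : IsDg g) : ∀ (k : ℕ) (r : ℕ) (c : ℕ), n ≤ c + k → ∀ h : SLn, h ∈ H →
    (∀ a b : Fin n, b.val < c → b < a → (h : Mat) a b = 0) →
    (∀ a b : Fin n, b.val = c → b < a → r < a.val → (h : Mat) a b = 0) → h ∈ stayIn g H := by
  intro k
  induction k with
  | zero =>
    intro r c hc h hh h1 _
    refine mem_stayIn.2 ⟨hh, ?_⟩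
    have hut : UT h := fun a b hba => h1 a b (by omega) hba
    have := mul_mem (hU (comm_mem_upperU hg.ut hut)) hh
    rwa [inv_mul_cancel_right] at this
  | succ k ihk =>
    intro r
    induction r with
    | zero =>
      intro c hc h hh h1 h2
      refine ihk n (c + 1) (by omega) h hh (fun a b hb hba => ?_) (fun a b _ _ ha => absurd ha (by omega))
      rcases Nat.lt_or_eq_of_le (Nat.le_of_lt_succ hb) with hb' | hb'
      · exact h1 a b hb' hba
      · refine h2 a b hb' hba ?_
        have := Fin.lt_def.1 hba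
        omega
    | succ r ihr =>
      intro c hc h hh h1 h2
      by_cases hbad : c < n ∧ r + 1 < n ∧ c < r + 1
      swap
      · refine ihr c hc h hh h1 fun a b hb hba har => ?_
        refine h2 a b hb hba ?_
        have := Fin.lt_def.1 hba
        have := a.isLt
        omega
      obtain ⟨hcn, hrn, hcr⟩ := hbad
      set C : Fin n := ⟨c, hcn⟩
      set R : Fin n := ⟨r + 1, hrn⟩
      set I : Fin n := ⟨r, by omega⟩
      by_cases hz : (h : Mat) R C = 0
      · refine ihr c hc h hh h1 fun a b hb hba har => ?_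
        rcases Nat.lt_or_eq_of_le (Nat.succ_le_of_lt har) with ha | ha
        · exact h2 a b hb hba ha
        · rw [show a = R from Fin.ext ha.symm, show b = C from Fin.ext hb]; exact hz
      -- clear the column above the pivot
      set v : Fin n → F := fun i => (h : Mat) i C / (h : Mat) R C
      set u := clearElt R v
      have hu : u ∈ upperU n F := mem_upperU.2 (clear_isUni R v)
      set h' := u * h with hh'
      have hh'H := mul_mem (hU hu) hh
      have hrowR : ∀ b : Fin n, b.val < c → (h : Mat) R b = 0 := fun b hb =>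
        h1 R b hb (Fin.lt_def.2 (show b.val < r + 1 by omega))
      have hlow : ∀ a b : Fin n, b.val < c → (h' : Mat) a b = (h : Mat) a b := fun a b hb => by
        rw [hh', clear_mul_apply, hrowR b hb, mul_zero, ite_self, sub_zero]
      have hcol : ∀ a : Fin n, a ≠ R → (h' : Mat) a C = 0 := by
        intro a ha
        rw [hh', clear_mul_apply]
        rcases lt_or_gt_of_ne ha with h' | h'
        · rw [if_pos h', div_mul_cancel₀ _ hz, sub_self]
        · rw [if_neg (not_lt.2 h'.le), sub_zero]
          exact h2 a C rfl (Fin.lt_def.2 (lt_trans (show C.val < R.val from hcr) (Fin.lt_def.1 h')))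
            (Fin.lt_def.1 h')
      have hRC : (h' : Mat) R C = (h : Mat) R C := by
        rw [hh', clear_mul_apply, if_neg (lt_irrefl R), sub_zero]
      have hIR : I ≠ R := fun e => by simpa [I, R] using congrArg Fin.val e
      -- the negative root group lies in `H`
      have hroot : ∀ a : F, tv R I hIR.symm a ∈ H := by
        intro a
        set x := h'⁻¹ * tv R I hIR.symm a * h' with hx
        have hinv : ∀ l : Fin n, ((h'⁻¹ : SLn) : Mat) l R = if l = C then ((h : Mat) R C)⁻¹ else 0 := by
          intro l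
          have e := congrFun (congrFun (show ((h'⁻¹ : SLn) : Mat) * (h' : Mat) = 1 by
            rw [← Matrix.SpecialLinearGroup.coe_mul, inv_mul_cancel]; rfl) l) C
          rw [Matrix.mul_apply, Finset.sum_eq_single R, hRC, Matrix.one_apply] at e
          · split_ifs at e ⊢ with hl
            · exact eq_inv_of_mul_eq_one_left e
            · exact (mul_eq_zero.1 e).resolve_right hz
          · intro m _ hm; rw [hcol m hm, mul_zero]
          · simp
        have hxe : ∀ l m : Fin n, (x : Mat) l m =
            (1 : Mat) l m + (if l = C then ((h : Mat) R C)⁻¹ * a * (h' : Mat) I m else 0) := by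
          intro l m
          rw [hx, Matrix.SpecialLinearGroup.coe_mul, Matrix.SpecialLinearGroup.coe_mul, tv_coe,
            Matrix.mul_add, Matrix.add_mul, mul_one, ← Matrix.SpecialLinearGroup.coe_mul, inv_mul_cancel,
            Matrix.SpecialLinearGroup.coe_one, Matrix.add_apply]
          congr 1
          rw [Matrix.mul_assoc, Matrix.mul_apply, Finset.sum_eq_single R, hinv,
            Matrix.single_mul_apply_same]
          · split_ifs
            · ring
            · rw [zero_mul]
          · intro p _ hp; rw [Matrix.single_mul_apply_of_ne _ _ _ _ _ hp, mul_zero]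
          · simp
        have hI0 : ∀ m : Fin n, m.val ≤ c → (h' : Mat) I m = 0 := by
          intro m hm
          rcases Nat.lt_or_eq_of_le hm with hm | hm
          · rw [hlow I m hm]
            exact h1 I m hm (Fin.lt_def.2 (show m.val < r by omega))
          · rw [show m = C from Fin.ext hm]; exact hcol I hIR
        have hxU : x ∈ upperU n F := by
          refine mem_upperU.2 ⟨fun l m hml => ?_, fun l => ?_⟩
          · rw [hxe, Matrix.one_apply_ne hml.ne', zero_add]
            split_ifs with hl
            · rw [hI0 m (by subst hl; exact (Fin.lt_def.1 hml).le), mul_zero]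
            · rfl
          · rw [hxe, Matrix.one_apply_eq]
            split_ifs with hl
            · rw [hI0 l (by subst hl; exact le_rfl), mul_zero, add_zero]
            · rw [add_zero]
        have h6 : h' * x * h'⁻¹ ∈ H := mul_mem (mul_mem hh'H (hU hxU)) (inv_mem hh'H)
        have e : h' * x * h'⁻¹ = tv R I hIR.symm a := by rw [hx]; group
        rw [← e]; exact h6
      have hI : I < R := Fin.lt_def.2 (Nat.lt_succ_self r)
      have hswap : swapElt (F := F) I R hIR ∈ stayIn g H := by
        have h3 : tv R I hIR.symm (-1 : F) ∈ stayIn g H := by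
          obtain ⟨b, hb⟩ := hg.conj_tv hIR.symm (-1 : F)
          exact mem_stayIn.2 ⟨hroot _, hb ▸ hroot b⟩
        exact mul_mem (mul_mem (upperU_le_stayIn hU hg.ut (tv_mem_upperU I R hI 1)) h3)
          (upperU_le_stayIn hU hg.ut (tv_mem_upperU I R hI 1))
      have key : swapElt I R hIR * h' ∈ stayIn g H := by
        refine ihr c hc _ (mul_mem (mem_stayIn.1 hswap).1 hh'H) (fun a b hb hba => ?_) fun a b hb hba har => ?_
        · rw [swapElt_mul_apply, hlow R b hb, hlow I b hb, hlow a b hb, hrowR b hb,
            h1 I b hb (Fin.lt_def.2 (show b.val < r by omega)), h1 a b hb hba, neg_zero]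
          simp
        · rw [show b = C from Fin.ext hb, swapElt_mul_apply,
            if_neg (fun e => by subst e; exact absurd har (lt_irrefl r))]
          split_ifs with he
          · rw [hcol I hIR, neg_zero]
          · exact hcol a he
      have h4 := mul_mem (inv_mem hswap) key
      rw [inv_mul_cancel_left] at h4
      have h5 := mul_mem (inv_mem (upperU_le_stayIn hU hg.ut hu)) h4
      rwa [hh', inv_mul_cancel_left] at h5

theorem conj_mem_of_UT {H : Subgroup SLn} (hU : upperU n F ≤ H) {g : SLn} (hg : UT g) {h : SLn} (hh : h ∈ H) : g * h * g⁻¹ ∈ H := by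
  classical
  obtain ⟨d, hd⟩ : ∃ d : SLn, (d : Mat) = Matrix.diagonal fun a => (g : Mat) a a :=
    ⟨⟨Matrix.diagonal fun a => (g : Mat) a a, by
      rw [Matrix.det_diagonal, ← Matrix.det_of_isUpperTriangular hg.blockTri]; exact g.det_coe⟩, rfl⟩
  have hdg : IsDg d := fun a b hab => by rw [hd]; exact Matrix.diagonal_apply_ne _ hab
  have hu : d⁻¹ * g ∈ upperU n F := by
    refine mem_upperU.2 ⟨fun a b hba => (hdg.ut.inv.mul hg) a b hba, fun a => ?_⟩
    rw [hdg.ut.inv.mul_diag hg]
    have := hdg.ut.inv.mul_diag hdg.ut a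
    rw [inv_mul_cancel, Matrix.SpecialLinearGroup.coe_one, Matrix.one_apply_eq] at this
    rw [hd, Matrix.diagonal_apply_eq] at this; exact this.symm
  have h1 := stayIn_of_isDg hU hdg n n 0 (by omega) (d⁻¹ * g * h * (d⁻¹ * g)⁻¹)
    (mul_mem (mul_mem (hU hu) hh) (inv_mem (hU hu))) (fun _ b hb => absurd hb (by omega))
    (fun a _ _ _ ha => absurd a.isLt (by omega))
  have h2 := (mem_stayIn.1 h1).2
  convert h2 using 1
  group


/-- In characteristic `2` every subgroup of odd index of `PSL_n` is pronormal. -/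
theorem isPronormal_even [Finite F] [CharP F 2] (H : Subgroup PSLn) (hH : Odd H.index) :
    Cfsg.IsPronormal H := by
  haveI : Fact (Nat.Prime 2) := ⟨Nat.prime_two⟩
  haveI : Finite PSLn := Finite.of_surjective _ proj_surjective
  obtain ⟨S, hS⟩ := exists_sylow_le (p := 2) (H := H) (fun h => (Nat.not_even_iff_odd.2 hH) (even_iff_two_dvd.2 h))
  obtain ⟨g₀, hg₀⟩ := exists_conj_eq 2 S
  refine isPronormal_of_normalizer S hS fun m hm => ⟨1, one_mem _, ?_⟩
  rw [cj_one]
  obtain ⟨m₀, rfl⟩ := proj_surjective m
  set K := (cj (proj n F g₀)⁻¹ H).comap (proj n F)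
  have hUK : upperU n F ≤ K := fun u hu => by
    show proj n F u ∈ cj (proj n F g₀)⁻¹ H
    rw [mem_cj, inv_inv]
    refine hS ?_
    rw [hg₀]
    exact ⟨proj n F u, ⟨u, hu, rfl⟩, by simp⟩
  have hut : UT (g₀⁻¹ * m₀ * g₀) := by
    refine upper_of_normalizes _ fun u hu => mem_conj_iff 2 hu ?_
    show proj n F u ∈ cj (proj n F (g₀⁻¹ * m₀ * g₀)) (projU n F)
    have h1 : proj n F g₀ * proj n F u * (proj n F g₀)⁻¹ ∈ (S : Subgroup PSLn) := by
      rw [hg₀]; exact ⟨proj n F u, ⟨u, hu, rfl⟩, by simp⟩
    have h2 := (Subgroup.mem_normalizer_iff.1 (inv_mem hm) _).1 h1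
    rw [hg₀] at h2
    have h3 : (proj n F g₀)⁻¹ * ((proj n F m₀)⁻¹ * (proj n F g₀ * proj n F u * (proj n F g₀)⁻¹) *
        (proj n F m₀)⁻¹⁻¹) * proj n F g₀ ∈ projU n F := mem_cj.1 h2
    rw [mem_cj]
    convert h3 using 1
    simp only [map_mul, map_inv]
    group
  have hsub : ∀ y ∈ H, proj n F m₀ * y * (proj n F m₀)⁻¹ ∈ H := by
    intro y hy
    obtain ⟨y₀, rfl⟩ := proj_surjective y
    have hy' : g₀⁻¹ * y₀ * g₀ ∈ K := by
      show proj n F (g₀⁻¹ * y₀ * g₀) ∈ cj (proj n F g₀)⁻¹ H
      rw [mem_cj]; simpa [mul_assoc] using hy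
    have := conj_mem_of_UT hUK hut hy'
    rw [Subgroup.mem_comap, mem_cj] at this
    convert this using 1
    simp only [map_mul, map_inv]
    group
  refine Subgroup.eq_of_le_of_card_ge (fun y hy => ?_) ?_
  · have := hsub _ (mem_cj.1 hy)
    simpa [mul_assoc] using this
  · exact (Nat.card_congr ((H.equivMapOfInjective _ (MulAut.conj (proj n F m₀)).injective).toEquiv)).le

end Cfsg.Agent.Pronormal
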