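import Cfsg.Agent.Lib.Fusion.PSUSimple
import Cfsg.Agent.Lib.Pronormal.Criterion

/-!
# Overgroups of the unipotent stabiliser of a flag in `SU_{2m}` are normalised by the flag stabiliser

Two maximal totally isotropic flags have a common hyperbolic frame; the diagonal isometries of that
frame fix both flags and realise every eigenvalue pattern on the first one.
-/

set_option autoImplicit false
set_option linter.unusedSectionVars false
set_option linter.style.haveILetI false

namespace Cfsg.Agent.Pronormal.HermEven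

open Matrix Cfsg.Agent.AutPSU
open Cfsg.Agent.Fusion.PSUSimple (low e_mem_low low_mono Frame exists_frame exists_sylow)

universe u

variable {F : Type u} [Field F] {q : ℕ} [hQ : QField F q] {n m k : ℕ}

local notation "σ" => qb (F := F) q
local notation "V" => Fin n → F
set_option quotPrecheck false in
local notation "SUn" => ↥(Cfsg.SU n F q)
local notation "PSUn" => Cfsg.PSU n F q
local notation "H" => Cfsg.hermForm n F q

include hQ

/-! ### The span of the first vectors of a family -/

omit hQ in
theorem map_low_le {e : Fin k → V} {i : ℕ} {S : Submodule F V} (L : V →ₗ[F] V)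
    (h : ∀ l : Fin k, l.val < i → L (e l) ∈ S) {v : V} (hv : v ∈ low e i) : L v ∈ S := by
  have hle : low e i ≤ S.comap L := Submodule.span_le.2 (Set.image_subset_iff.2 fun l hl => h l hl)
  exact hle hv

omit hQ in
theorem low_le {e : Fin k → V} {i : ℕ} {S : Submodule F V}
    (h : ∀ l : Fin k, l.val < i → e l ∈ S) : low e i ≤ S :=
  Submodule.span_le.2 (Set.image_subset_iff.2 fun l hl => h l hl)

theorem H_low_zero {e : Fin k → V} {i : ℕ} {w : V} (h : ∀ l : Fin k, l.val < i → H (e l) w = 0)
    {v : V} (hv : v ∈ low e i) : H v w = 0 := by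
  have hle : low e i ≤ LinearMap.ker (Hl (q := q) w) := low_le fun l hl => h l hl
  exact hle hv

omit hQ in
theorem low_eq_range (e : Fin k → V) {i : ℕ} (hi : i ≤ k) :
    low e i = Submodule.span F (Set.range (e ∘ Fin.castLE hi)) := by
  unfold low
  congr 1
  ext v
  constructor
  · rintro ⟨l, hl, rfl⟩
    exact ⟨⟨l.val, hl⟩, rfl⟩
  · rintro ⟨l, rfl⟩
    exact ⟨Fin.castLE hi l, l.2, rfl⟩

omit hQ in
theorem low_eq {e x : Fin k → V} (he : LinearIndependent F e) (hx : LinearIndependent F x)
    (h : ∀ j : Fin k, x j ∈ low e (j.val + 1)) (i : ℕ) : low x i = low e i := by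
  have main : ∀ i, i ≤ k → low x i = low e i := by
    intro i hi
    have hle : low x i ≤ low e i := low_le fun l hl => low_mono e hl (h l)
    refine Submodule.eq_of_le_of_finrank_eq hle ?_
    rw [low_eq_range x hi, low_eq_range e hi,
      finrank_span_eq_card (hx.comp _ (Fin.castLE_injective hi)),
      finrank_span_eq_card (he.comp _ (Fin.castLE_injective hi))]
  rcases le_total i k with hi | hi
  · exact main i hi
  · have e1 : ∀ v : Fin k → V, low v i = low v k := fun v =>
      le_antisymm (low_le fun l _ => e_mem_low v l.2) (low_mono v hi)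
    rw [e1, e1, main k le_rfl]

omit hQ in
theorem exists_coeff {e : Fin k → V} {j : Fin k} {v : V} (hv : v ∈ low e (j.val + 1)) :
    ∃ c : F, v - c • e j ∈ low e j.val := by
  have hle : low e (j.val + 1) ≤ Submodule.span F {e j} ⊔ low e j.val := by
    refine low_le fun l hl => ?_
    rcases Nat.lt_succ_iff_lt_or_eq.1 hl with h | h
    · exact Submodule.mem_sup_right (e_mem_low e h)
    · rw [Fin.ext h]; exact Submodule.mem_sup_left (Submodule.mem_span_singleton_self _)
  obtain ⟨y, hy, z, hz, rfl⟩ := Submodule.mem_sup.1 (hle hv)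
  obtain ⟨c, rfl⟩ := Submodule.mem_span_singleton.1 hy
  exact ⟨c, by rwa [add_sub_cancel_left]⟩

theorem indep_of_dual {ι : Type*} [Fintype ι] [DecidableEq ι] (v w : ι → V)
    (h : ∀ i j, H (v i) (w j) = if i = j then 1 else 0) : LinearIndependent F v := by
  refine Fintype.linearIndependent_iff.2 fun c hc j => ?_
  have h1 : Hl (q := q) (w j) (∑ i, c i • v i) = 0 := by rw [hc, map_zero]
  simp only [map_sum, map_smul, Hl_apply, h, smul_eq_mul, mul_ite, mul_one, mul_zero,
    Finset.sum_ite_eq', Finset.mem_univ, if_true] at h1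
  exact h1

/-! ### Hyperbolic frames of a subspace -/

/-- A hyperbolic frame of a subspace. -/
structure Hyp (q : ℕ) [QField F q] (W : Submodule F (Fin n → F)) (e f : Fin k → Fin n → F) :
    Prop where
  ee : ∀ i j, Cfsg.hermForm n F q (e i) (e j) = 0
  ff : ∀ i j, Cfsg.hermForm n F q (f i) (f j) = 0
  fe : ∀ i j, Cfsg.hermForm n F q (f i) (e j) = if i = j then 1 else 0
  em : ∀ i, e i ∈ W
  fm : ∀ i, f i ∈ W
  nd : ∀ v ∈ W, (∀ j, Cfsg.hermForm n F q v (e j) = 0) →
    (∀ j, Cfsg.hermForm n F q v (f j) = 0) → v = 0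

section

variable {W : Submodule F (Fin n → F)} {e f : Fin k → Fin n → F} (hf : Hyp q W e f)
include hf

theorem Hyp.ef (i j : Fin k) : H (e i) (f j) = if i = j then 1 else 0 := by
  rw [← H_flip, hf.fe]
  by_cases h : i = j
  · rw [if_pos h, if_pos h.symm, map_one]
  · rw [if_neg h, if_neg (Ne.symm h), map_zero]

theorem Hyp.indep : LinearIndependent F e := indep_of_dual e f hf.ef

theorem Hyp.expand {v : V} (hv : v ∈ W) :
    v = (∑ j, H v (f j) • e j) + ∑ j, H v (e j) • f j := by
  refine sub_eq_zero.1 (hf.nd _ (sub_mem hv (add_mem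
    (sum_mem fun j _ => Submodule.smul_mem _ _ (hf.em j))
    (sum_mem fun j _ => Submodule.smul_mem _ _ (hf.fm j)))) ?_ ?_) <;> intro i <;>
  · rw [← Hl_apply, map_sub, map_add, map_sum, map_sum]
    simp [hf.ee, hf.ff, hf.fe, hf.ef]

theorem Hyp.H_expand_right {v w : V} (hv : v ∈ W) :
    H w v = (∑ j, σ (H v (f j)) * H w (e j)) + ∑ j, σ (H v (e j)) * H w (f j) := by
  have h1 : Hl (q := q) w v = Hl (q := q) w ((∑ j, H v (f j) • e j) + ∑ j, H v (e j) • f j) :=
    congrArg _ (hf.expand hv)
  simp only [map_add, map_sum, map_smul, Hl_apply, smul_eq_mul] at h1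
  rw [← H_flip v w, h1]
  simp [map_sum, map_mul, H_flip]

end

/-- Two maximal totally isotropic flags have a common hyperbolic frame. -/
theorem exists_common : ∀ (k : ℕ) (W : Submodule F (Fin n → F)) (e f g : Fin k → Fin n → F),
    Hyp q W e f → (∀ j, g j ∈ W) → (∀ i j, H (g i) (g j) = 0) → LinearIndependent F g →
    ∃ (x y z : Fin k → Fin n → F) (π : Equiv.Perm (Fin k)), Hyp q W x y ∧
      (∀ j : Fin k, x j ∈ low e (j.val + 1)) ∧ (∀ j, z j = x (π j) ∨ z j = y (π j)) ∧
      ∀ j : Fin k, z j ∈ low g (j.val + 1) := by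
  intro k
  induction k with
  | zero => exact fun W e f g he _ _ _ => ⟨e, f, g, 1, he, fun j => j.elim0, fun j => j.elim0, fun j => j.elim0⟩
  | succ k ih =>
    intro W e f g he hgW hgg hgi
    have hx0 : g 0 ≠ 0 := hgi.ne_zero 0
    have data : ∃ (s : Fin (k + 1)) (a b : V), (g 0 = a ∨ g 0 = b) ∧ a ∈ W ∧ b ∈ W ∧ H a a = 0 ∧
        H b b = 0 ∧ H b a = 1 ∧ a ∈ low e (s.val + 1) ∧ (∀ j, j < s → H b (e j) = 0) ∧
        (∀ D ∈ W, H D a = 0 → H D b = 0 → (∀ j, j ≠ s → H D (e j) = 0 ∧ H D (f j) = 0) → D = 0) ∧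
        ((∀ j, j ≠ s → H (f j) b = 0 ∧ H b (e j) = 0) ∨ ∀ j, j ≠ s → H (f j) a = 0) := by
      classical
      by_cases hβ : ∀ j, H (g 0) (e j) = 0
      · have hne : (Finset.univ.filter fun j => H (g 0) (f j) ≠ 0).Nonempty := by
          by_contra h
          refine hx0 (he.nd _ (hgW 0) hβ fun j => ?_)
          by_contra hj
          exact h ⟨j, Finset.mem_filter.2 ⟨Finset.mem_univ _, hj⟩⟩
        obtain ⟨s, hs, hmax⟩ := Finset.exists_max_image _ id hne
        have hsne : H (g 0) (f s) ≠ 0 := (Finset.mem_filter.1 hs).2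
        have hσ : σ (H (g 0) (f s)) ≠ 0 := (map_ne_zero _).2 hsne
        refine ⟨s, g 0, (σ (H (g 0) (f s)))⁻¹ • f s, .inl rfl, hgW 0,
          Submodule.smul_mem _ _ (he.fm s), hgg 0 0, by simp [he.ff], ?_, ?_,
          fun j hj => by simp [he.fe, hj.ne'], ?_, .inl fun j hj => ⟨by simp [he.ff],
            by simp [he.fe, Ne.symm hj]⟩⟩
        · rw [H_smul_left, ← H_flip (g 0) (f s), inv_mul_cancel₀ hσ]
        · rw [he.expand (hgW 0)]
          simp only [hβ, zero_smul, Finset.sum_const_zero, add_zero]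
          refine sum_mem fun j _ => ?_
          by_cases hj : H (g 0) (f j) = 0
          · rw [hj, zero_smul]; exact zero_mem _
          · exact Submodule.smul_mem _ _ (e_mem_low e
              (Nat.lt_succ_of_le (hmax j (Finset.mem_filter.2 ⟨Finset.mem_univ _, hj⟩))))
        · intro D hD hDa hDb hoth
          refine he.nd D hD (fun j => ?_) fun j => ?_
          · by_cases hj : j = s
            · subst hj
              rw [he.H_expand_right (hgW 0)] at hDa
              simp only [hβ, map_zero, zero_mul, Finset.sum_const_zero, add_zero] at hDa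
              rw [Finset.sum_eq_single j (fun i _ hi => by rw [(hoth i hi).1, mul_zero]) (by simp)] at hDa
              exact (mul_eq_zero.1 hDa).resolve_left hσ
            · exact (hoth j hj).1
          · by_cases hj : j = s
            · subst hj
              simpa [hsne] using hDb
            · exact (hoth j hj).2
      · push Not at hβ
        obtain ⟨j₀, hj₀⟩ := hβ
        obtain ⟨s, hs, hmin⟩ := Finset.exists_min_image
          (Finset.univ.filter fun j => H (g 0) (e j) ≠ 0) id
          ⟨j₀, Finset.mem_filter.2 ⟨Finset.mem_univ _, hj₀⟩⟩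
        have hsne : H (g 0) (e s) ≠ 0 := (Finset.mem_filter.1 hs).2
        have hσ : σ (H (g 0) (e s)) ≠ 0 := (map_ne_zero _).2 hsne
        refine ⟨s, (σ (H (g 0) (e s)))⁻¹ • e s, g 0, .inr rfl,
          Submodule.smul_mem _ _ (he.em s), hgW 0, by simp [he.ee], hgg 0 0, ?_,
          Submodule.smul_mem _ _ (e_mem_low e (Nat.lt_succ_self _)), fun j hj => ?_, ?_,
          .inr fun j hj => by simp [he.fe, hj]⟩
        · rw [H_smul_right, map_inv₀, qb_qb, inv_mul_cancel₀ hsne]
        · by_contra h
          exact absurd (hmin j (Finset.mem_filter.2 ⟨Finset.mem_univ _, h⟩)) (not_le.2 hj)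
        · intro D hD hDa hDb hoth
          have hDs : H D (e s) = 0 := by simpa [hsne] using hDa
          have hDe : ∀ j, H D (e j) = 0 := fun j => by
            by_cases hj : j = s
            · subst hj; exact hDs
            · exact (hoth j hj).1
          refine he.nd D hD hDe fun j => ?_
          by_cases hj : j = s
          · subst hj
            rw [he.H_expand_right (hgW 0)] at hDb
            simp only [hDe, mul_zero, Finset.sum_const_zero, zero_add] at hDb
            rw [Finset.sum_eq_single j (fun i _ hi => by rw [(hoth i hi).2, mul_zero]) (by simp)] at hDb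
            exact (mul_eq_zero.1 hDb).resolve_left hσ
          · exact (hoth j hj).2
    obtain ⟨s, a, b, hg0, haW, hbW, haa, hbb, hba, halow, hbe, hnd, hff⟩ := data
    have hab : H a b = 1 := by rw [← H_flip, hba, map_one]
    have hae : ∀ j, H a (e j) = 0 := fun j => H_low_zero (fun l _ => he.ee l j) halow
    have hea : ∀ j, H (e j) a = 0 := fun j => H_eq_zero_comm.1 (hae j)
    set W' : Submodule F V :=
      W ⊓ (LinearMap.ker (Hl (q := q) a) ⊓ LinearMap.ker (Hl (q := q) b)) with hW'
    set e' : Fin k → V := fun j => e (s.succAbove j) - H (e (s.succAbove j)) b • a with he'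
    set f' : Fin k → V := fun j =>
      f (s.succAbove j) - H (f (s.succAbove j)) b • a - H (f (s.succAbove j)) a • b with hf'
    set g' : Fin k → V := fun j => g j.succ - H (g j.succ) b • a - H (g j.succ) a • b with hg'
    have hmW' : ∀ {v : V}, v ∈ W' ↔ v ∈ W ∧ H v a = 0 ∧ H v b = 0 := Iff.rfl
    have hWproj : ∀ v ∈ W, v - H v b • a - H v a • b ∈ W' := fun v hv => hmW'.2
      ⟨sub_mem (sub_mem hv (Submodule.smul_mem _ _ haW)) (Submodule.smul_mem _ _ hbW),
        by simp [haa, hba], by simp [hbb, hab]⟩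
    have he'W : ∀ j, e' j ∈ W' := fun j => by
      have := hWproj _ (he.em (s.succAbove j))
      rwa [hea, zero_smul, sub_zero] at this
    have hf'W : ∀ j, f' j ∈ W' := fun j => hWproj _ (he.fm _)
    have hne : ∀ j, s.succAbove j ≠ s := fun j => Fin.succAbove_ne s j
    have hyp' : Hyp q W' e' f' := by
      refine ⟨fun i j => ?_, fun i j => ?_, fun i j => ?_, he'W, hf'W, fun v hv h1 h2 => ?_⟩
      · simp [he', he.ee, hae, hea, haa]
      · show H (f' i) (f (s.succAbove j) - _ • a - _ • b) = 0
        obtain ⟨-, ha', hb'⟩ := hmW'.1 (hf'W i)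
        rw [H_sub_right, H_sub_right, H_smul_right, H_smul_right, ha', hb', mul_zero, mul_zero,
          sub_zero, sub_zero]
        simp only [hf', H_sub_left, H_smul_left, he.ff]
        rcases hff with h | h
        · rw [(h _ (hne i)).1, H_eq_zero_comm.1 (h _ (hne j)).1]; ring
        · rw [h _ (hne i), H_eq_zero_comm.1 (h _ (hne j))]; ring
      · show H (f' i) (e (s.succAbove j) - _ • a) = _
        obtain ⟨-, ha', hb'⟩ := hmW'.1 (hf'W i)
        rw [H_sub_right, H_smul_right, ha', mul_zero, sub_zero]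
        simp only [hf', H_sub_left, H_smul_left, he.fe, hae, mul_zero, sub_zero]
        have : H (f (s.succAbove i)) a * H b (e (s.succAbove j)) = 0 := by
          rcases hff with h | h
          · rw [(h _ (hne j)).2, mul_zero]
          · rw [h _ (hne i), zero_mul]
        rw [this, sub_zero]
        simp [Fin.succAbove_right_inj]
      · obtain ⟨hvW, hva, hvb⟩ := hmW'.1 hv
        refine hnd v hvW hva hvb fun j hj => ?_
        obtain ⟨j', rfl⟩ := Fin.exists_succAbove_eq hj
        have e1 := h1 j'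
        have e2 := h2 j'
        simp only [he', hf', H_sub_right, H_smul_right, hva, hvb, mul_zero, sub_zero] at e1 e2
        exact ⟨e1, e2⟩
    -- the second family
    have hg'r : ∀ j, ∃ r : F, g' j = g j.succ - r • g 0 := by
      intro j
      rcases hg0 with h | h
      · refine ⟨H (g j.succ) b, ?_⟩
        rw [h, hg']
        dsimp only
        rw [show H (g j.succ) a = 0 by rw [← h]; exact hgg _ _, zero_smul, sub_zero]
      · refine ⟨H (g j.succ) a, ?_⟩
        rw [h, hg']
        dsimp only
        rw [show H (g j.succ) b = 0 by rw [← h]; exact hgg _ _, zero_smul, sub_zero]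
    choose r hr using hg'r
    have hg'i : LinearIndependent F g' := by
      refine Fintype.linearIndependent_iff.2 fun c hc j => ?_
      have h1 := Fintype.linearIndependent_iff.1 hgi (Fin.cons (-∑ i, c i * r i) c) ?_ j.succ
      · simpa using h1
      · rw [Fin.sum_univ_succ]
        simp only [Fin.cons_zero, Fin.cons_succ]
        simp only [hr, smul_sub, Finset.sum_sub_distrib, smul_smul] at hc
        rw [← Finset.sum_smul] at hc
        rw [neg_smul, neg_add_eq_sub, hc]
    obtain ⟨x', y', z', π', hxy, hx', hz', hzg⟩ := ih W' e' f' g' hyp' (fun j => hWproj _ (hgW _))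
      (fun i j => by simp [hr, hgg]) hg'i
    have hx'W := fun j => hmW'.1 (hxy.em j)
    have hy'W := fun j => hmW'.1 (hxy.fm j)
    refine ⟨Fin.insertNth s a x', Fin.insertNth s b y', Fin.cons (g 0) z',
      ((finSuccEquiv' 0).trans (Equiv.optionCongr π')).trans (finSuccEquiv' s).symm, ?_, ?_, ?_, ?_⟩
    · refine ⟨fun i j => ?_, fun i j => ?_, fun i j => ?_, fun i => ?_, fun i => ?_,
        fun v hv h1 h2 => ?_⟩
      · refine Fin.succAboveCases s ?_ (fun i => ?_) i <;>
          refine Fin.succAboveCases s ?_ (fun j => ?_) j <;>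
          simp [haa, hxy.ee, (hx'W _).2.1, H_eq_zero_comm.1 (hx'W _).2.1]
      · refine Fin.succAboveCases s ?_ (fun i => ?_) i <;>
          refine Fin.succAboveCases s ?_ (fun j => ?_) j <;>
          simp [hbb, hxy.ff, (hy'W _).2.2, H_eq_zero_comm.1 (hy'W _).2.2]
      · refine Fin.succAboveCases s ?_ (fun i => ?_) i <;>
          refine Fin.succAboveCases s ?_ (fun j => ?_) j <;>
          simp [hba, hxy.fe, (hy'W _).2.1, H_eq_zero_comm.1 (hx'W _).2.2, Fin.succAbove_right_inj,
            Fin.succAbove_ne, (Fin.succAbove_ne s _).symm]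
      · refine Fin.succAboveCases s ?_ (fun i => ?_) i <;> simp [haW, (hx'W _).1]
      · refine Fin.succAboveCases s ?_ (fun i => ?_) i <;> simp [hbW, (hy'W _).1]
      · refine hxy.nd v (hmW'.2 ⟨hv, by simpa using h1 s, by simpa using h2 s⟩) (fun j => ?_)
          fun j => ?_
        · simpa using h1 (s.succAbove j)
        · simpa using h2 (s.succAbove j)
    · intro i
      refine Fin.succAboveCases s ?_ (fun i => ?_) i
      · simpa using halow
      · rw [Fin.insertNth_apply_succAbove]
        refine (show low e' (i.val + 1) ≤ low e ((s.succAbove i).val + 1) from low_le fun l hl => ?_)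
          (hx' i)
        have hle : s.succAbove l ≤ s.succAbove i :=
          (Fin.strictMono_succAbove s).monotone (Nat.lt_succ_iff.1 hl)
        have hle' : (s.succAbove l).val < (s.succAbove i).val + 1 := Nat.lt_succ_of_le hle
        show e (s.succAbove l) - _ ∈ _
        rcases lt_or_gt_of_ne (hne l) with h | h
        · rw [H_eq_zero_comm.1 (hbe _ h), zero_smul, sub_zero]
          exact e_mem_low e hle'
        · exact sub_mem (e_mem_low e hle') (Submodule.smul_mem _ _ (low_mono e
            (Nat.succ_le_succ (Nat.le_of_lt (lt_of_lt_of_le (Fin.lt_def.1 h) hle))) halow))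
    · intro j
      refine Fin.cases ?_ (fun j => ?_) j
      · simpa using hg0
      · simpa [finSuccEquiv'_zero] using hz' j
    · intro j
      refine Fin.cases ?_ (fun j => ?_) j
      · simpa using e_mem_low g (l := (0 : Fin (k + 1))) Nat.zero_lt_one
      · rw [Fin.cons_succ]
        refine (show low g' (j.val + 1) ≤ low g (j.succ.val + 1) from low_le fun l hl => ?_) (hzg j)
        rw [hr]
        exact sub_mem (e_mem_low g (by simp; omega))
          (Submodule.smul_mem _ _ (e_mem_low g (by simp)))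

/-! ### The flag stabiliser -/

variable (q) in
/-- The stabiliser of the flag of `e`. -/
def B (e : Fin m → Fin n → F) : Subgroup ↥(Cfsg.SU n F q) :=
  haveI := finite_field (F := F) (q := q)
  { carrier := {g | ∀ j : Fin m, app g (e j) ∈ low e (j.val + 1)}
    mul_mem' := fun {a b} ha hb j => by
      show app (a * b) (e j) ∈ _
      rw [app_mul]
      exact Fusion.PSUSimple.map_low e (fun l hl => low_mono e hl (ha l)) (hb j)
    one_mem' := fun j => by
      show app 1 (e j) ∈ _
      rw [app_one]; exact e_mem_low e (Nat.lt_succ_self _)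
    inv_mem' := fun {a} ha => by
      intro j
      show app a⁻¹ (e j) ∈ _
      have hpow : ∀ N : ℕ, app (a ^ N) (e j) ∈ low e (j.val + 1) := by
        intro N
        induction N with
        | zero => rw [pow_zero, app_one]; exact e_mem_low e (Nat.lt_succ_self _)
        | succ N ih =>
          rw [pow_succ', app_mul]
          exact Fusion.PSUSimple.map_low e (fun l hl => low_mono e hl (ha l)) ih
      have h1 := hpow (orderOf a - 1)
      rwa [show a ^ (orderOf a - 1) = a⁻¹ from eq_inv_of_mul_eq_one_left (by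
        rw [← pow_succ, Nat.sub_add_cancel (orderOf_pos a), pow_orderOf_eq_one])] at h1 }

theorem mem_B {e : Fin m → V} {g : SUn} : g ∈ B q e ↔ ∀ j : Fin m, app g (e j) ∈ low e (j.val + 1) :=
  Iff.rfl

theorem B_low {e : Fin m → V} {g : SUn} (hg : g ∈ B q e) {i : ℕ} {v : V} (hv : v ∈ low e i) :
    app g v ∈ low e i :=
  Fusion.PSUSimple.map_low e (fun l hl => low_mono e hl (mem_B.1 hg l)) hv

variable (q) in
/-- The flag-unipotent elements. -/
abbrev U (e : Fin m → Fin n → F) : Subgroup ↥(Cfsg.SU n F q) := Fusion.PSUSimple.U q e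

theorem mem_U {e : Fin m → V} {g : SUn} :
    g ∈ U q e ↔ ∀ j : Fin m, app g (e j) - e j ∈ low e j.val := Iff.rfl

/-- Being flag-unipotent only depends on the flag. -/
theorem mem_U_of_low_eq {e x : Fin m → V} (hl : ∀ i, low x i = low e i) {g : SUn}
    (hg : ∀ j : Fin m, app g (x j) - x j ∈ low x j.val) : g ∈ U q e := by
  refine mem_U.2 fun j => ?_
  rw [← hl]
  have hej : e j ∈ low x (j.val + 1) := by rw [hl]; exact e_mem_low e (Nat.lt_succ_self _)
  exact map_low_le (Matrix.mulVecLin ((g : Matrix.SpecialLinearGroup (Fin n) F) :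
    Matrix (Fin n) (Fin n) F) - LinearMap.id)
    (fun l hl' => low_mono x (Nat.lt_succ_iff.1 hl') (hg l)) hej

section

variable {e f : Fin m → Fin n → F} (hf : Hyp q (⊤ : Submodule F (Fin n → F)) e f)
include hf

theorem image_data (h : SUn) :
    (∀ i j, H (app h (e i)) (app h (e j)) = 0) ∧ LinearIndependent F fun j => app h (e j) :=
  ⟨fun i j => by rw [app_H, hf.ee], indep_of_dual _ (fun j => app h (f j)) fun i j => by
    rw [app_H, hf.ef]⟩

omit hf in
theorem exists_z {x y z : Fin m → V} (hxy : Hyp q (⊤ : Submodule F V) x y) (π : Equiv.Perm (Fin m))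
    (hz : ∀ j, z j = x (π j) ∨ z j = y (π j)) : LinearIndependent F z := by
  classical
  refine indep_of_dual (q := q) z (fun j => if z j = x (π j) then y (π j) else x (π j)) fun i j => ?_
  have key : ∀ v, (v = x (π i) ∨ v = y (π i)) → ∀ w, (w = x (π j) ∨ w = y (π j)) → i ≠ j →
      H v w = 0 := by
    rintro v (rfl | rfl) w (rfl | rfl) hij <;>
      simp [hxy.ee, hxy.ff, hxy.fe, hxy.ef, π.injective.ne hij]
  by_cases hij : i = j
  · subst hij
    rw [if_pos rfl]
    by_cases h : z i = x (π i)
    · simp only [if_pos h]; rw [h, hxy.ef, if_pos rfl]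
    · simp only [if_neg h]; rw [(hz i).resolve_left h, hxy.fe, if_pos rfl]
  · rw [if_neg hij]
    refine key _ (hz i) _ ?_ hij
    split_ifs
    · exact .inr rfl
    · exact .inl rfl

/-- An element normalising `U` stabilises the flag. -/
theorem normalizer_le_B : Subgroup.normalizer (U q e : Set SUn) ≤ B q e := by
  intro a ha
  obtain ⟨hgg, hgi⟩ := image_data hf a
  obtain ⟨x, y, z, π, hxy, hxe, hzx, hzg⟩ :=
    exists_common m ⊤ e f _ hf (fun _ => Submodule.mem_top) hgg hgi
  have hlx := low_eq hf.indep hxy.indep hxe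
  have hlz := low_eq hgi (exists_z hxy π hzx) hzg
  have hfix : ∀ u ∈ U q e, ∀ j : Fin m, app u (z j) - z j ∈ low z j.val := by
    intro u hu j
    have hu' := mem_U.1 ((Subgroup.mem_normalizer_iff''.1 ha u).1 hu)
    have h1 : ∀ l : Fin m, app u (app a (e l)) - app a (e l) ∈ low (fun j => app a (e j)) l.val := by
      intro l
      have h2 : app a (app (a⁻¹ * u * a) (e l) - e l) ∈ low (fun j => app a (e j)) l.val :=
        map_low_le (Matrix.mulVecLin ((a : Matrix.SpecialLinearGroup (Fin n) F) :
          Matrix (Fin n) (Fin n) F))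
          (fun i hi => e_mem_low (fun j => app a (e j)) hi) (hu' l)
      rwa [app_sub, app_mul, app_mul, app_inv'] at h2
    rw [hlz]
    exact map_low_le (Matrix.mulVecLin ((u : Matrix.SpecialLinearGroup (Fin n) F) :
      Matrix (Fin n) (Fin n) F) - LinearMap.id)
      (fun l hl => low_mono _ (Nat.lt_succ_iff.1 hl) (h1 l)) (hzg j)
  have hzero : ∀ (j : Fin m) (w : V), (∀ l : Fin m, l.val < j.val → H (z l) w = 0) →
      ∀ v ∈ low z j.val, H v w = 0 := fun j w h v hv => H_low_zero h hv
  -- no member of the second flag lies outside the first subspace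
  have hzx' : ∀ j, z j = x (π j) := by
    intro j
    refine (hzx j).resolve_right fun hj => ?_
    obtain ⟨c, hc0, hc⟩ := exists_skew (F := F) (q := q)
    have hT : IsT q (x (π j)) c := ⟨hxy.ee _ _, hc⟩
    have hu : tr (x (π j)) c hT ∈ U q e := mem_U_of_low_eq hlx fun l => by
      rw [tr_apply, hxy.ee, mul_zero, zero_smul, add_zero, sub_self]; exact zero_mem _
    have h1 := hfix _ hu j
    rw [hj, tr_apply, hxy.fe, if_pos rfl, mul_one, add_sub_cancel_left] at h1
    have h2 := hzero j (y (π j)) (fun l hl => ?_) _ h1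
    · rw [H_smul_left, hxy.ef, if_pos rfl, mul_one] at h2
      exact hc0 h2
    · have hne : π l ≠ π j := π.injective.ne (fun e => hl.ne (congrArg Fin.val e))
      rcases hzx l with h | h <;> simp [h, hxy.ef, hxy.ff, hne]
  have hmono : StrictMono π := by
    intro l j hlj
    rcases lt_trichotomy (π l) (π j) with h | h | h
    · exact h
    · exact absurd (π.injective h) hlj.ne
    exfalso
    have hQ : IsQ q (x (π j)) (y (π l)) 0 :=
      ⟨hxy.ee _ _, by simp [hxy.fe, h.ne'], by simp [hxy.ff]⟩
    have hu : qE (x (π j)) (y (π l)) 0 hQ ∈ U q e := mem_U_of_low_eq hlx fun i => by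
      rw [qE_apply, hxy.ee, zero_smul, add_zero, mul_zero, zero_smul, add_zero, hxy.ef,
        sub_sub_cancel_left]
      by_cases hi : i = π l
      · subst hi
        rw [if_pos rfl, one_smul]
        exact neg_mem (e_mem_low x h)
      · rw [if_neg hi, zero_smul, neg_zero]; exact zero_mem _
    have h1 := hfix _ hu l
    rw [hzx' l, qE_apply, hxy.ee, zero_smul, add_zero, mul_zero, zero_smul, add_zero, hxy.ef,
      if_pos rfl, one_smul, sub_sub_cancel_left] at h1
    have h2 := hzero l (y (π j)) (fun i hi => ?_) _ h1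
    · simp [hxy.ef] at h2
    · rw [hzx' i, hxy.ef, if_neg]
      intro e1
      have := π.injective e1
      subst this
      exact absurd (Fin.lt_def.1 hlj) (by omega)
  have hπ : π = 1 := by
    ext j
    exact congrArg Fin.val (congrFun ((hmono.id_le).antisymm' fun i => hmono.le_id i) j)
  have hzx'' : z = x := funext fun j => by rw [hzx', hπ]; rfl
  intro j
  rw [← hlx, ← hzx'', hlz]
  exact e_mem_low (fun j => app a (e j)) (Nat.lt_succ_self _)

/-- A flag-unipotent isometry has determinant one in characteristic two. -/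
theorem det_eq_one_of_unipotent [CharP F 2] (M : Matrix (Fin n) (Fin n) F)
    (hM : ∀ u v : V, H (M *ᵥ u) (M *ᵥ v) = H u v)
    (hu : ∀ j : Fin m, M *ᵥ e j - e j ∈ low e j.val) : M.det = 1 := by
  haveI : Fact (Nat.Prime 2) := ⟨Nat.prime_two⟩
  set N : V →ₗ[F] V := Matrix.mulVecLin M - LinearMap.id with hN
  have hNv : ∀ v, N v = M *ᵥ v - v := fun v => rfl
  have hlow : ∀ i : ℕ, ∀ v ∈ low e (i + 1), N v ∈ low e i := fun i v hv =>
    map_low_le N (fun l hl => low_mono e (Nat.lt_succ_iff.1 hl) (hu l)) hv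
  have hkill : ∀ i : ℕ, ∀ v ∈ low e i, (N ^ i) v = 0 := by
    intro i
    induction i with
    | zero => intro v hv; simpa [low] using hv
    | succ i ih =>
      intro v hv
      rw [pow_succ, Module.End.mul_apply]
      exact ih _ (hlow i v hv)
  have hskew : ∀ v w, H (N v) (M *ᵥ w) = - H v (N w) := fun v w => by
    rw [hNv, hNv, H_sub_left, hM, H_sub_right]; ring
  have hpres : ∀ l, l ∈ low e m → M *ᵥ l ∈ low e m := fun l hl => by
    have h1 : N l ∈ low e m := by
      cases m with
      | zero =>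
        have : l = 0 := by simpa [low] using hl
        simp [this]
      | succ m => exact low_mono e (Nat.le_succ m) (hlow m l hl)
    simpa [hNv] using add_mem h1 hl
  -- iterates land in the isotropic subspace
  have hiter : ∀ (i : ℕ) (v : V), ∀ l ∈ low e i, H ((N ^ i) v) ((M ^ i) *ᵥ l) = 0 := by
    intro i
    induction i with
    | zero =>
      intro v l hl
      simp only [low, Nat.not_lt_zero, Set.setOf_false, Set.image_empty, Submodule.span_empty,
        Submodule.mem_bot] at hl
      simp [hl]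
    | succ i ih =>
      intro v l hl
      rw [pow_succ', pow_succ', Module.End.mul_apply, ← Matrix.mulVec_mulVec, hskew]
      have h2 : N ((M ^ i) *ᵥ l) = (M ^ i) *ᵥ N l := by
        rw [hNv, hNv, Matrix.mulVec_sub, Matrix.mulVec_mulVec, Matrix.mulVec_mulVec, ← pow_succ',
          ← pow_succ]
      rw [h2, ih v _ (hlow i l hl), neg_zero]
  have htot : ∀ v, (N ^ m) v ∈ low e m := by
    intro v
    rw [hf.expand (Submodule.mem_top : (N ^ m) v ∈ (⊤ : Submodule F V))]
    have hz : ∀ j, H ((N ^ m) v) (e j) = 0 := fun j => by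
      -- `M ^ m` maps the subspace onto itself
      have hsur : ∃ l ∈ low e m, (M ^ m) *ᵥ l = e j := by
        have hp : ∀ l ∈ low e m, (M ^ m) *ᵥ l ∈ low e m := by
          intro l hl
          have : ∀ i : ℕ, (M ^ i) *ᵥ l ∈ low e m := by
            intro i
            induction i with
            | zero => simpa using hl
            | succ i ih => rw [pow_succ', ← Matrix.mulVec_mulVec]; exact hpres _ ih
          exact this m
        let L : low e m →ₗ[F] low e m :=
          ((Matrix.mulVecLin (M ^ m)).comp (low e m).subtype).codRestrict _ fun l => hp l l.2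
        have hinj : Function.Injective L := by
          intro a b hab
          apply Subtype.ext
          have hMinj : Function.Injective fun v : V => M *ᵥ v := fun u w h => by
            refine sub_eq_zero.1 (eq_zero_of_orth' (q := q) fun v => ?_)
            rw [H_sub_left, ← hM u v, ← hM w v]
            simp only at h
            rw [h, sub_self]
          have : ∀ i : ℕ, Function.Injective fun v : V => (M ^ i) *ᵥ v := by
            intro i
            induction i with
            | zero => intro u w h; simpa using h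
            | succ i ih =>
              intro u w h
              refine ih (hMinj ?_)
              simpa [pow_succ', Matrix.mulVec_mulVec] using h
          exact this m (congrArg Subtype.val hab)
        obtain ⟨l, hl⟩ := LinearMap.injective_iff_surjective.1 hinj ⟨e j, e_mem_low e j.2⟩
        exact ⟨l, l.2, congrArg Subtype.val hl⟩
      obtain ⟨l, hl, hlj⟩ := hsur
      rw [← hlj]
      exact hiter m v l hl
    simp only [hz, zero_smul, Finset.sum_const_zero, add_zero]
    exact sum_mem fun l _ => Submodule.smul_mem _ _ (e_mem_low e l.2)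
  have hnil : N ^ (m + m) = 0 := LinearMap.ext fun v => by
    rw [pow_add, Module.End.mul_apply, hkill m _ (htot v), LinearMap.zero_apply]
  have hmat : (M - 1) ^ (m + m) = 0 := by
    have h1 : Matrix.toLinAlgEquiv' (M - 1) = N := by
      rw [map_sub, map_one]; rfl
    apply Matrix.toLinAlgEquiv'.injective
    rw [map_pow, h1, hnil, map_zero]
  have h2 : (M.det : F) ^ 2 ^ (m + m) = 1 := by
    have hle : m + m ≤ 2 ^ (m + m) := (Nat.lt_two_pow_self).le
    have h3 : (M - 1) ^ 2 ^ (m + m) = 0 := pow_eq_zero_of_le hle hmat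
    haveI : CharP (Matrix (Fin n) (Fin n) F) 2 ∨ n = 0 := by
      rcases Nat.eq_zero_or_pos n with h | h
      · exact .inr h
      · haveI : Nonempty (Fin n) := ⟨⟨0, h⟩⟩
        exact .inl inferInstance
    rcases this with h | h
    · haveI := h
      rw [sub_pow_char_pow_of_commute _ _ (Commute.one_right M), one_pow, sub_eq_zero] at h3
      rw [← Matrix.det_pow, h3, Matrix.det_one]
    · subst h
      simp
  exact eq_one_of_pow_eq_one (q := q) 2 h2

/-- Every element of the flag stabiliser is a flag-unipotent element times one fixing a given second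
flag. -/
theorem exists_torus_factor [CharP F 2] {b : SUn} (hb : b ∈ B q e) (h : SUn) :
    ∃ b' : SUn, b'⁻¹ * b ∈ U q e ∧ b' ∈ B q e ∧ h⁻¹ * b' * h ∈ B q e := by
  classical
  obtain ⟨hgg, hgi⟩ := image_data hf h
  obtain ⟨x, y, z, π, hxy, hxe, hzx, hzg⟩ :=
    exists_common m ⊤ e f _ hf (fun _ => Submodule.mem_top) hgg hgi
  have hlx := low_eq hf.indep hxy.indep hxe
  have hlz := low_eq hgi (exists_z hxy π hzx) hzg
  have hbx : ∀ j : Fin m, ∃ c : F, app b (x j) - c • x j ∈ low x j.val := fun j =>
    exists_coeff (by rw [hlx]; exact B_low hb (hxe j))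
  choose c hc using hbx
  have hc0 : ∀ j, c j ≠ 0 := by
    intro j h0
    have h1 := hc j
    rw [h0, zero_smul, sub_zero] at h1
    have h2 : x j ∈ low x j.val := by
      rw [hlx] at h1 ⊢
      have := B_low (inv_mem hb) h1
      rwa [app_inv] at this
    have h3 := H_low_zero (q := q) (w := y j) (fun l hl => by
      rw [hxy.ef, if_neg (fun e => hl.ne (congrArg Fin.val e))]) h2
    rw [hxy.ef, if_pos rfl] at h3
    exact one_ne_zero h3
  let P : V →ₗ[F] V := ∑ j, (c j • (Hl (q := q) (y j)).smulRight (x j) +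
    (σ (c j))⁻¹ • (Hl (q := q) (x j)).smulRight (y j))
  have hP : ∀ v, P v = ∑ j, ((c j * H v (y j)) • x j + ((σ (c j))⁻¹ * H v (x j)) • y j) :=
    fun v => by simp [P, LinearMap.sum_apply, smul_smul]
  have hPx : ∀ v j, H (P v) (x j) = (σ (c j))⁻¹ * H v (x j) := fun v j => by
    rw [hP, ← Hl_apply, map_sum]
    simp [hxy.ee, hxy.fe]
  have hPy : ∀ v j, H (P v) (y j) = c j * H v (y j) := fun v j => by
    rw [hP, ← Hl_apply, map_sum]
    simp [hxy.ff, hxy.ef]
  have hpres : ∀ u v, H (P u) (P v) = H u v := by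
    intro u v
    rw [hxy.H_expand_right (Submodule.mem_top : P v ∈ (⊤ : Submodule F V)),
      hxy.H_expand_right (Submodule.mem_top : v ∈ (⊤ : Submodule F V))]
    congr 1 <;> refine Finset.sum_congr rfl fun j _ => ?_
    · rw [hPx, hPy, map_mul]
      field_simp [(map_ne_zero (qb (F := F) q)).2 (hc0 j)]
    · rw [hPx, hPy, map_mul, map_inv₀, qb_qb]
      field_simp [hc0 j]
  have hPxv : ∀ j, P (x j) = c j • x j := fun j => by
    rw [hP]
    simp [hxy.ee, hxy.ef]
  have hPyv : ∀ j, P (y j) = (σ (c j))⁻¹ • y j := fun j => by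
    rw [hP]
    simp [hxy.ff, hxy.fe]
  set MP := LinearMap.toMatrix' P with hMP
  have hMPv : ∀ v, MP *ᵥ v = P v := fun v => LinearMap.toMatrix'_mulVec _ _
  set bm : Matrix (Fin n) (Fin n) F :=
    (((b⁻¹ : SUn) : Matrix.SpecialLinearGroup (Fin n) F) : Matrix (Fin n) (Fin n) F) with hbm
  have hdet : MP.det = 1 := by
    have hd := det_eq_one_of_unipotent hxy (bm * MP) (fun u v => by
      rw [← Matrix.mulVec_mulVec, ← Matrix.mulVec_mulVec, hMPv, hMPv]
      exact (app_H b⁻¹ _ _).trans (hpres u v)) (fun j => by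
      rw [← Matrix.mulVec_mulVec, hMPv, hPxv]
      show app b⁻¹ (c j • x j) - x j ∈ _
      have h1 := hc j
      rw [hlx] at h1 ⊢
      have h2 := neg_mem (B_low (inv_mem hb) h1)
      rw [app_sub, app_inv, neg_sub] at h2
      exact h2)
    rwa [Matrix.det_mul, hbm, Matrix.SpecialLinearGroup.det_coe, one_mul] at hd
  let b' : SUn := ⟨⟨MP, hdet⟩, fun u v => by
    show H (MP *ᵥ u) (MP *ᵥ v) = H u v
    rw [hMPv, hMPv, hpres]⟩
  have hb' : ∀ v, app b' v = P v := hMPv
  have hb'x : ∀ i v, v ∈ low x i → app b' v ∈ low x i := fun i v hv =>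
    Fusion.PSUSimple.map_low x (fun l hl => by
      rw [hb', hPxv]; exact Submodule.smul_mem _ _ (e_mem_low x hl)) hv
  have hb'B : b' ∈ B q e := fun j => by
    rw [← hlx]
    exact hb'x _ _ (by rw [hlx]; exact e_mem_low e (Nat.lt_succ_self _))
  refine ⟨b', mem_U_of_low_eq hlx fun j => ?_, hb'B, fun j => ?_⟩
  · have h2 : app b'⁻¹ (app b (x j) - c j • x j) ∈ low x j.val := by
      have h1 := hc j
      rw [hlx] at h1 ⊢
      exact B_low (inv_mem hb'B) h1
    rw [app_sub, ← hPxv, ← hb', app_inv, ← app_mul] at h2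
    exact h2
  · have h1 : ∀ i v, v ∈ low z i → app b' v ∈ low z i := fun i v hv =>
      Fusion.PSUSimple.map_low z (fun l hl => by
        rw [hb']
        rcases hzx l with h | h
        · rw [h, hPxv, ← h]; exact Submodule.smul_mem _ _ (e_mem_low z hl)
        · rw [h, hPyv, ← h]; exact Submodule.smul_mem _ _ (e_mem_low z hl)) hv
    have h2 : app b' (app h (e j)) ∈ low (fun j => app h (e j)) (j.val + 1) := by
      rw [← hlz]
      exact h1 _ _ (by rw [hlz]; exact e_mem_low (fun j => app h (e j)) (Nat.lt_succ_self _))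
    rw [app_mul, app_mul]
    exact map_low_le (Matrix.mulVecLin (((h⁻¹ : SUn) : Matrix.SpecialLinearGroup (Fin n) F) :
      Matrix (Fin n) (Fin n) F))
      (fun l hl => by
        show app h⁻¹ (app h (e l)) ∈ _
        rw [app_inv]; exact e_mem_low e hl) h2

theorem comm_mem_U {a b : SUn} (ha : a ∈ B q e) (hb : b ∈ B q e) :
    a * b * a⁻¹ * b⁻¹ ∈ U q e := by
  refine mem_U.2 fun j => ?_
  obtain ⟨c, hc⟩ := exists_coeff (mem_B.1 ha j)
  obtain ⟨d, hd⟩ := exists_coeff (mem_B.1 hb j)
  have h1 : ∀ {g g' : SUn} {c d : F}, g ∈ B q e → app g (e j) - c • e j ∈ low e j.val →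
      app g' (e j) - d • e j ∈ low e j.val → app (g * g') (e j) - (c * d) • e j ∈ low e j.val := by
    intro g g' c d hg h h'
    rw [app_mul, show app g (app g' (e j)) - (c * d) • e j =
      app g (app g' (e j) - d • e j) + d • (app g (e j) - c • e j) by
        rw [app_sub, app_smul, smul_sub, smul_smul, mul_comm d c]; abel]
    exact add_mem (B_low hg h') (Submodule.smul_mem _ _ h)
  have hinv : ∀ {g : SUn} {c : F}, g ∈ B q e → app g (e j) - c • e j ∈ low e j.val →
      ∃ c' : F, c * c' = 1 ∧ app g⁻¹ (e j) - c' • e j ∈ low e j.val := by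
    intro g c hg h
    obtain ⟨c', hc'⟩ := exists_coeff (mem_B.1 (inv_mem hg) j)
    refine ⟨c', ?_, hc'⟩
    have h2 := h1 hg h hc'
    rw [mul_inv_cancel, app_one] at h2
    by_contra hne
    have h3 := H_low_zero (q := q) (w := f j) (fun l hl => by
      rw [hf.ef, if_neg (fun e => hl.ne (congrArg Fin.val e))]) h2
    rw [H_sub_left, H_smul_left, hf.ef, if_pos rfl, mul_one, sub_eq_zero] at h3
    exact hne h3.symm
  obtain ⟨c', hcc, hc'⟩ := hinv ha hc
  obtain ⟨d', hdd, hd'⟩ := hinv hb hd
  have h2 := h1 (mul_mem (mul_mem ha hb) (inv_mem ha)) (h1 (mul_mem ha hb) (h1 ha hc hd) hc') hd'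
  rwa [show c * d * c' * d' = 1 by linear_combination (d * d') * hcc + hdd, one_smul] at h2

theorem frame_of_hyp : Frame q e f :=
  ⟨hf.ee, hf.ff, hf.fe, fun v h1 h2 _ => hf.nd v Submodule.mem_top h1 h2, fun g h1 h2 => su_ext fun v => by
    show app g v = app 1 v
    have : app g ((∑ j, H v (f j) • e j) + ∑ j, H v (e j) • f j) =
        (∑ j, H v (f j) • e j) + ∑ j, H v (e j) • f j := by
      show Matrix.mulVecLin ((g : Matrix.SpecialLinearGroup (Fin n) F) : Matrix (Fin n) (Fin n) F) _ = _
      rw [map_add, map_sum, map_sum]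
      congr 1 <;> refine Finset.sum_congr rfl fun j _ => ?_ <;> rw [map_smul]
      · exact congrArg _ (h1 j)
      · exact congrArg _ (h2 j)
    rw [← hf.expand (Submodule.mem_top : v ∈ (⊤ : Submodule F V))] at this
    rw [app_one, this]⟩

/-- Overgroups of `U` are normalised by the flag stabiliser. -/
theorem conj_mem_of_overgroup [CharP F 2] {K : Subgroup SUn} (hUK : U q e ≤ K) {b : SUn}
    (hb : b ∈ B q e) {x : SUn} (hx : x ∈ K) : b * x * b⁻¹ ∈ K := by
  classical
  haveI : Fact (Nat.Prime 2) := ⟨Nat.prime_two⟩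
  haveI := finite_field (F := F) (q := q)
  let L : Subgroup SUn :=
    Subgroup.closure {y | ∃ h ∈ K, ∃ u ∈ U q e, y = h * u * h⁻¹}
  have hUn : ∀ g ∈ B q e, ∀ u ∈ U q e, g * u * g⁻¹ ∈ U q e := fun g hg u hu => by
    have huB : u ∈ B q e := fun l => by
      rw [← sub_add_cancel (app u (e l)) (e l)]
      exact add_mem (low_mono e (Nat.le_succ _) (mem_U.1 hu l)) (e_mem_low e (Nat.lt_succ_self _))
    have := mul_mem (comm_mem_U hf hg huB) hu
    rwa [inv_mul_cancel_right] at this
  have hgen : ∀ h ∈ K, ∀ u ∈ U q e, h * u * h⁻¹ ∈ L := fun h hh u hu =>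
    Subgroup.subset_closure ⟨h, hh, u, hu, rfl⟩
  have hUL : U q e ≤ L := fun u hu => by simpa using hgen 1 (one_mem _) u hu
  have hLK : L ≤ K := (Subgroup.closure_le _).2 (by
    rintro _ ⟨h, hh, u, hu, rfl⟩
    exact mul_mem (mul_mem hh (hUK hu)) (inv_mem hh))
  -- conjugation by `b` preserves `L`
  have hbL : L ≤ L.comap (MulAut.conj b).toMonoidHom := (Subgroup.closure_le _).2 (by
    rintro _ ⟨h, hh, u, hu, rfl⟩
    show b * (h * u * h⁻¹) * b⁻¹ ∈ L
    obtain ⟨b', hv, hb'B, hb'h⟩ := exists_torus_factor hf hb h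
    set v := b' * (b'⁻¹ * b) * b'⁻¹ with hvdef
    have hvU : v ∈ U q e := hUn b' hb'B _ hv
    have hw : (h⁻¹ * b' * h) * u * (h⁻¹ * b' * h)⁻¹ ∈ U q e := hUn _ hb'h u hu
    have := mul_mem (mul_mem (hUL hvU) (hgen h hh _ hw)) (inv_mem (hUL hvU))
    convert this using 1
    rw [hvdef]; group)
  -- the Frattini argument
  obtain ⟨P, hP⟩ := exists_sylow (q := q) (e := e) (f := f) (frame_of_hyp hf) 2
  have h1 : ((x • P : Sylow 2 SUn) : Subgroup SUn) ≤ L := fun y hy => by
    rw [Sylow.coe_subgroup_smul, Subgroup.mem_pointwise_smul_iff_inv_smul_mem, hP] at hy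
    have := hgen x hx _ hy
    simpa [MulAut.smul_def, mul_assoc] using this
  have h2 : (P : Subgroup SUn) ≤ L := hP ▸ hUL
  obtain ⟨l, hl⟩ := MulAction.exists_smul_eq L ((x • P).subtype h1) (P.subtype h2)
  rw [Sylow.smul_subtype] at hl
  have e1 : (l : SUn) • x • P = P := Sylow.subtype_injective hl
  rw [smul_smul] at e1
  have hN := Sylow.smul_eq_iff_mem_normalizer.1 e1
  have hN' : (l : SUn) * x ∈ Subgroup.normalizer (U q e : Set SUn) := by
    show (l : SUn) * x ∈ Subgroup.normalizer ((Fusion.PSUSimple.U q e : Subgroup SUn) : Set SUn)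
    rw [← hP]; exact hN
  have ha := normalizer_le_B hf hN'
  have h3 : b * (l : SUn)⁻¹ * b⁻¹ ∈ L := hbL (inv_mem l.2)
  have h4 : b * ((l : SUn) * x) * b⁻¹ * ((l : SUn) * x)⁻¹ ∈ U q e := comm_mem_U hf hb ha
  have := mul_mem (mul_mem (hLK h3) (hUK h4)) (mul_mem (hLK l.2) hx)
  convert this using 1
  group

theorem isPGroup_U' [CharP F 2] : IsPGroup 2 (U q e) :=
  haveI : Fact (Nat.Prime 2) := ⟨Nat.prime_two⟩
  Fusion.PSUSimple.isPGroup_U (frame_of_hyp hf) 2

end

/-- In characteristic `2`, the normaliser of a Sylow subgroup of `PSU_{2m}` normalises every subgroup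
containing it, so subgroups of odd index are pronormal. -/
theorem isPronormal_even [CharP F 2] (hn : 2 ≤ n) (hnm : n = 2 * m) (K : Subgroup PSUn)
    (hK : Odd K.index) : Cfsg.IsPronormal K := by
  classical
  haveI : Fact (Nat.Prime 2) := ⟨Nat.prime_two⟩
  haveI := finite_field (F := F) (q := q)
  haveI : Finite PSUn := Finite.of_surjective _ (proj_surjective (n := n) (F := F) (q := q))
  obtain ⟨e, f, hF⟩ : ∃ e f : Fin m → V, Frame q e f := by
    have h := exists_frame (F := F) (q := q) (n := n)
    rwa [show n / 2 = m by omega] at h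
  have hf : Hyp q (⊤ : Submodule F V) e f := by
    refine ⟨hF.ee, hF.ff, hF.fe, fun _ => Submodule.mem_top, fun _ => Submodule.mem_top,
      fun v _ h1 h2 => ?_⟩
    have hli : LinearIndependent F (Sum.elim e f) := indep_of_dual (q := q) _ (Sum.elim f e) (by
      rintro (i | i) (j | j) <;> simp [hF.ee, hF.ff, hF.fe, hF.ef])
    have hsp := hli.span_eq_top_of_card_eq_finrank' (by simp; omega)
    refine eq_zero_of_orth (q := q) fun w => H_eq_zero_comm.1 ?_
    have hle : Submodule.span F (Set.range (Sum.elim e f)) ≤ LinearMap.ker (Hl (q := q) v) :=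
      Submodule.span_le.2 (by
        rintro _ ⟨i | i, rfl⟩
        exacts [H_eq_zero_comm.1 (h1 i), H_eq_zero_comm.1 (h2 i)])
    have h3 : w ∈ LinearMap.ker (Hl (q := q) v) := hle (hsp ▸ Submodule.mem_top)
    exact H_eq_zero_comm.1 h3
  obtain ⟨P, hP⟩ := exists_sylow hF 2
  set π : SUn →* PSUn := proj n F q with hπ
  set P₀ : Sylow 2 PSUn := P.mapSurjective (proj_surjective (n := n) (F := F) (q := q))
  have hP₀ : (P₀ : Subgroup PSUn) = (U q e).map π := by
    show (P : Subgroup SUn).map π = _
    rw [hP]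
  obtain ⟨S, hS⟩ := exists_sylow_le (p := 2)
    (show ¬ 2 ∣ K.index from fun h => (Nat.not_even_iff_odd.2 hK) (even_iff_two_dvd.2 h))
  obtain ⟨g, hg⟩ := MulAction.exists_smul_eq PSUn P₀ S
  obtain ⟨g₀, rfl⟩ := proj_surjective g
  have hSmem : ∀ y, y ∈ (S : Subgroup PSUn) ↔ (π g₀)⁻¹ * y * π g₀ ∈ (U q e).map π := fun y => by
    rw [← hg, Sylow.coe_subgroup_smul, Subgroup.mem_pointwise_smul_iff_inv_smul_mem, hP₀]
    simp [MulAut.smul_def, hπ]
  -- the preimage of the conjugate subgroup
  set K₀ : Subgroup SUn := (cj (π g₀)⁻¹ K).comap π with hK₀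
  have hUK : U q e ≤ K₀ := fun u hu => by
    show π u ∈ cj (π g₀)⁻¹ K
    rw [mem_cj, inv_inv]
    refine hS ((hSmem _).2 ⟨u, hu, ?_⟩)
    group
  refine isPronormal_of_normalizer S hS fun a ha => ⟨1, one_mem _, ?_⟩
  rw [cj_one]
  obtain ⟨a₀, rfl⟩ := proj_surjective a
  have hb : g₀⁻¹ * a₀ * g₀ ∈ B q e := by
    refine normalizer_le_B hf ?_
    have hfwd : ∀ u ∈ U q e, g₀⁻¹ * a₀ * g₀ * u * (g₀⁻¹ * a₀ * g₀)⁻¹ ∈ U q e := by
      intro u hu
      have h1 : π g₀ * π u * (π g₀)⁻¹ ∈ (S : Subgroup PSUn) := (hSmem _).2 ⟨u, hu, by group⟩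
      obtain ⟨w, hw, hwe⟩ := (hSmem _).1 ((Subgroup.mem_normalizer_iff.1 ha _).1 h1)
      obtain ⟨i, hi⟩ := (isPGroup_U' hf) ⟨u, hu⟩
      obtain ⟨i', hi'⟩ := (isPGroup_U' hf) ⟨w, hw⟩
      have e1 : w = g₀⁻¹ * a₀ * g₀ * u * (g₀⁻¹ * a₀ * g₀)⁻¹ := by
        refine eq_of_proj_eq 2 hn (k := i') (l := i) (congrArg Subtype.val hi') ?_ ?_
        · rw [conj_pow, show u ^ 2 ^ i = 1 from congrArg Subtype.val hi, mul_one, mul_inv_cancel]
        · rw [hwe]; simp only [map_mul, map_inv, hπ]; group
      exact e1 ▸ hw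
    exact Fusion.mem_normalizer_of_forall hfwd
  have hsub : ∀ y ∈ K, π a₀ * y * (π a₀)⁻¹ ∈ K := by
    intro y hy
    obtain ⟨y₀, rfl⟩ := proj_surjective y
    have hy' : g₀⁻¹ * y₀ * g₀ ∈ K₀ := by
      show π (g₀⁻¹ * y₀ * g₀) ∈ cj (π g₀)⁻¹ K
      rw [mem_cj]; simpa [hπ, mul_assoc] using hy
    have := conj_mem_of_overgroup hf hUK hb hy'
    rw [hK₀, Subgroup.mem_comap, mem_cj] at this
    convert this using 1
    simp only [map_mul, map_inv, hπ]
    group
  refine Subgroup.eq_of_le_of_card_ge (fun y hy => ?_) ?_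
  · have := hsub _ (mem_cj.1 hy)
    simpa [mul_assoc, hπ] using this
  · exact (Nat.card_congr ((K.equivMapOfInjective _ (MulAut.conj (π a₀)).injective).toEquiv)).le

end Cfsg.Agent.Pronormal.HermEven
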