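import Cfsg.Agent.Lib.Pronormal.EvenChar
import Cfsg.Agent.Lib.SL2.Dickson
import Cfsg.Agent.Lib.SL2.DicksonApps
import Cfsg.Agent.Lib.SL2.SylowTwo
import Cfsg.Agent.Lib.SL2.DicksonKlein

/-!
# Subgroups of odd index of `PSL(2, q)`, `q` odd, are pronormal
-/

set_option autoImplicit false
set_option linter.unusedSectionVars false

namespace Cfsg.Agent.Pronormal

open Matrix Cfsg.Agent.SL2

variable {F : Type*} [Field F] [Fintype F]

local notation "G" => Matrix.SpecialLinearGroup (Fin 2) F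
local notation "M2" => Matrix (Fin 2) (Fin 2) F
local notation "PS" => Matrix.ProjectiveSpecialLinearGroup (Fin 2) F
local notation "q" => Fintype.card F

theorem two_dvd_card_psl {K : Type*} [Field K] [Finite K] (h2 : (2 : K) ≠ 0) :
    2 ∣ Nat.card (Matrix.ProjectiveSpecialLinearGroup (Fin 2) K) := by
  have hne : π (I0 : Matrix.SpecialLinearGroup (Fin 2) K) ≠ 1 := fun h => by
    have := (π_eq_one.1 h).2.1
    simp [I0] at this
  have hsq : π (I0 : Matrix.SpecialLinearGroup (Fin 2) K) ^ 2 = 1 := by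
    rw [← map_pow, pow_two]
    refine π_eq_one.2 ((scal_iff _).2 (Or.inr ?_))
    apply ext4 <;> rw [Matrix.SpecialLinearGroup.coe_mul, Matrix.mul_apply, Fin.sum_univ_two,
      Matrix.SpecialLinearGroup.coe_neg] <;> simp [I0]
  have h := orderOf_dvd_natCard (π (I0 : Matrix.SpecialLinearGroup (Fin 2) K))
  rwa [orderOf_eq_prime hsq hne] at h

theorem klein_cover {M : Type*} [Group M] [Finite M] {S : Subgroup M} (hS : Nat.card S ≤ 4)
    (hsq : ∀ y ∈ S, y * y = 1) {v w : M} (hv : v ∈ S) (hw : w ∈ S) (hv1 : v ≠ 1) (hw1 : w ≠ 1)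
    (hvw : v ≠ w) {y : M} (hy : y ∈ S) : y = 1 ∨ y = v ∨ y = w ∨ y = v * w := by
  classical
  by_contra hcon
  push Not at hcon
  have e1 : v * w ≠ 1 := fun e => hvw (mul_left_cancel ((hsq v hv).trans e.symm))
  have hc5 : ({1, v, w, v * w, y} : Finset M).card = 5 := by
    simp [hv1, hv1.symm, hw1, hw1.symm, e1, e1.symm, hvw, hvw.symm, hcon.1.symm, hcon.2.1.symm,
      hcon.2.2.1.symm, hcon.2.2.2.symm]
  have hle : ({1, v, w, v * w, y} : Finset M).card ≤ Nat.card S := by
    rw [← SetLike.coe_sort_coe, Nat.card_coe_set_eq, ← Set.ncard_coe_finset]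
    refine Set.ncard_le_ncard (fun z hz => ?_) (Set.toFinite _)
    simp only [Finset.coe_insert, Finset.coe_singleton, Set.mem_insert_iff, Set.mem_singleton_iff] at hz
    rcases hz with rfl | rfl | rfl | rfl | rfl
    exacts [one_mem _, hv, hw, mul_mem hv hw, hy]
  omega

/-- An odd-order subgroup normalised by the four-group of a quaternion pair is centralised by one of
its involutions. -/
theorem exists_centralizing (hodd : Odd q) {g h : G} (hp : QPair g h) {O : Subgroup PS}
    (hO : Odd (Nat.card O))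
    (hN : ∀ s ∈ ({g, h} : Set G), ∀ x ∈ O, π s * x * (π s)⁻¹ ∈ O) :
    ∃ v : G, (v = g ∨ v = h ∨ v = g * h) ∧ ∀ x ∈ O, π v * x = x * π v := by
  classical
  have h2 := two_ne_zero' hodd
  haveI : Finite PS := Finite.of_surjective _ π_surjective
  obtain ⟨n, hpr, hn⟩ := FiniteField.card F (ringChar F)
  haveI : Fact (ringChar F).Prime := ⟨hpr⟩
  by_cases hbot : ∀ x ∈ O, x = 1
  · exact ⟨g, Or.inl rfl, fun x hx => by rw [hbot x hx]; simp⟩
  push Not at hbot
  obtain ⟨x₀, hx₀, hx₀1⟩ := hbot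
  -- the case of a torus
  have torusCase : ∀ r : G, tr r ^ 2 ≠ 4 → O ≤ torus r →
      ∃ v : G, (v = g ∨ v = h ∨ v = g * h) ∧ ∀ x ∈ O, π v * x = x * π v := by
    intro r hr hle
    have hrs := scal_of_tr_sq_ne hr
    have hmem : ∀ s ∈ ({g, h} : Set G), s ∈ Subgroup.normalizer (cent r : Set G) := by
      intro s hs
      obtain ⟨t, ht, hte⟩ := hle hx₀
      have hts : ¬ Scal t := fun e => hx₀1 (hte ▸ π_eq_one.2 e)
      have h1 : π (s * t * s⁻¹) ∈ torus r := by rw [π_conj, hte]; exact hle (hN s hs x₀ hx₀)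
      have e1 : cent (s * t * s⁻¹) = cent r :=
        cent_eq hrs (pi_mem_torus.1 h1) (not_scal_conj hts s)
      have e2 : cent t = cent r := cent_eq hrs ht hts
      rw [Subgroup.mem_normalizer_iff]
      intro y
      conv_rhs => rw [← e1, cent_conj, show s⁻¹ * (s * y * s⁻¹) * s = y by group, e2]
    have fin : ∀ v : G, v ∈ cent r → ∀ x ∈ O, π v * x = x * π v := by
      intro v hv x hx
      obtain ⟨t, ht, rfl⟩ := hle hx
      rw [← map_mul, ← map_mul, cent_comm hrs hv ht]
    rcases normalizer_act hr (hmem g (by simp)) with ⟨hg, -⟩ | ⟨-, hg⟩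
    · exact ⟨g, Or.inl rfl, fin g hg⟩
    rcases normalizer_act hr (hmem h (by simp)) with ⟨hh, -⟩ | ⟨-, hh⟩
    · exact ⟨h, Or.inr (Or.inl rfl), fin h hh⟩
    refine ⟨g * h, Or.inr (Or.inr rfl), fin _ (mem_cent.2 ?_)⟩
    have e : g * h * r * (g * h)⁻¹ = r := by
      rw [show g * h * r * (g * h)⁻¹ = g * (h * r * h⁻¹) * g⁻¹ by group, hh r (self_mem_cent r),
        hg _ (inv_mem (self_mem_cent r)), inv_inv]
    exact (mul_inv_eq_iff_eq_mul.1 e).symm
  have hev : ∀ m : ℕ, Nat.card O = m → 2 ∣ m → False :=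
    fun m e hA => (Nat.not_even_iff_odd.2 hO) (even_iff_two_dvd.2 (e ▸ hA))
  rcases dickson (ringChar F) O with ⟨r, hr, hle, -⟩ | ⟨r, -, -, k, -, -, hi⟩ | ⟨g₀, hB⟩ | ⟨-, hi⟩ |
    ⟨-, hi⟩ | ⟨-, -, hi⟩ | ⟨K, γ, hK4, hK⟩
  · exact torusCase r hr hle
  · exact (hev _ (Nat.card_congr hi.some.toEquiv) (by rw [DihedralGroup.nat_card]; exact dvd_mul_right 2 k)).elim
  rotate_left
  · exact (hev _ (Nat.card_congr hi.some.toEquiv) (by rw [card_alt_four]; norm_num)).elim
  · exact (hev _ (Nat.card_congr hi.some.toEquiv) (by rw [card_perm_four]; norm_num)).elim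
  · exact (hev _ (Nat.card_congr hi.some.toEquiv) (by rw [card_alt_five]; norm_num)).elim
  · have h2K : (2 : K) ≠ 0 := fun e => h2 (by
      have := congrArg K.subtype e
      rwa [map_ofNat, map_zero] at this)
    have d := two_dvd_card_psl (K := K) h2K
    rcases hK with ⟨hi, -⟩ | ⟨hi, -⟩
    · exact (hev _ (Nat.card_congr hi.some.toEquiv) d).elim
    · refine (hev _ (Nat.card_congr hi.some.toEquiv) (d.trans ?_)).elim
      exact Subgroup.card_dvd_of_injective _ Matrix.ProjectiveSpecialLinearGroup.toPGL_injective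
  -- the Borel case
  by_cases hW : ∃ x ∈ O, x ≠ 1 ∧ g₀ * x * g₀⁻¹ ∈ (W0 : Subgroup PS)
  · exfalso
    obtain ⟨x, hx, hx1, b, hb⟩ := hW
    have hb0 : b ≠ 0 := fun e => hx1 (by
      rw [e, uu_zero, map_one] at hb
      exact conj_eq_one_iff.1 hb.symm)
    have hyB : ∀ s ∈ ({g, h} : Set G), g₀ * π s * g₀⁻¹ ∈ (B0 : Subgroup PS) := by
      intro s hs
      refine conj_uu_upper hb0 ?_
      rw [hb]
      have := hB _ (hN s hs x hx)
      convert this using 1
      group
    obtain ⟨s₀, rfl⟩ := π_surjective g₀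
    have h10 : ∀ s ∈ ({g, h} : Set G), ((s₀ * s * s₀⁻¹ : G) : M2) 1 0 = 0 := fun s hs => by
      have := hyB s hs
      rwa [← π_conj, pi_mem_B0] at this
    set x' := s₀ * g * s₀⁻¹ with hx'
    set y' := s₀ * h * s₀⁻¹ with hy'
    have hz : ((x' * y' : G) : M2) 1 0 = 0 := by
      rw [Matrix.SpecialLinearGroup.coe_mul, Matrix.mul_apply, Fin.sum_univ_two, h10 g (by simp),
        h10 h (by simp)]; ring
    have sq : ∀ z : G, (z : M2) 1 0 = 0 → z * z = -1 → (z : M2) 0 0 * (z : M2) 0 0 = -1 := by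
      intro z hz he
      have := congrArg (fun w : G => (w : M2) 0 0) he
      simp [Matrix.mul_apply, Fin.sum_univ_two, hz] at this
      exact this
    have cq : ∀ z : G, z * z = -1 → s₀ * z * s₀⁻¹ * (s₀ * z * s₀⁻¹) = -1 := fun z hz => by
      rw [show s₀ * z * s₀⁻¹ * (s₀ * z * s₀⁻¹) = s₀ * (z * z) * s₀⁻¹ by group, hz]; simp
    have e1 := sq x' (h10 g (by simp)) (cq g hp.isq)
    have e2 := sq y' (h10 h (by simp)) (cq h hp.jsq)
    have e3 := sq _ hz (by
      rw [show x' * y' = s₀ * (g * h) * s₀⁻¹ by rw [hx', hy']; group]; exact cq _ hp.ksq)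
    have e4 : ((x' * y' : G) : M2) 0 0 = (x' : M2) 0 0 * (y' : M2) 0 0 := by
      rw [Matrix.SpecialLinearGroup.coe_mul, Matrix.mul_apply, Fin.sum_univ_two, h10 h (by simp)]; ring
    rw [e4] at e3
    refine h2 ?_
    linear_combination e3 - (y' : M2) 0 0 * (y' : M2) 0 0 * e1 + e2
  push Not at hW
  -- the intersection with the unipotent radical is trivial
  have hab : ∀ a ∈ O, ∀ b ∈ O, a * b = b * a := by
    intro a ha b hb
    by_contra hne
    refine hW (a * b * a⁻¹ * b⁻¹) (mul_mem (mul_mem (mul_mem ha hb) (inv_mem ha)) (inv_mem hb))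
      (fun e => hne ?_) ?_
    · calc a * b = a * b * a⁻¹ * b⁻¹ * (b * a) := by group
        _ = b * a := by rw [e, one_mul]
    · obtain ⟨s, hs, hse⟩ := hB a ha
      obtain ⟨t, ht, hte⟩ := hB b hb
      have e : g₀ * (a * b * a⁻¹ * b⁻¹) * g₀⁻¹ = π (s * t * s⁻¹ * t⁻¹) := by
        simp only [map_mul, map_inv, hse, hte]; group
      rw [e]
      have hs' : (s : M2) 1 0 = 0 := hs
      have ht' : (t : M2) 1 0 = 0 := ht
      have ut : ∀ z : G, (z : M2) 1 0 = 0 → UT z := fun z hz k j hjk => by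
        fin_cases k <;> fin_cases j <;> simp at hjk ⊢ <;> exact hz
      have hu := AutPSL.mem_upperU.1 (comm_mem_upperU (ut s hs') (ut t ht'))
      exact pi_upper_mem_W0 (hu.1 1 0 (by decide)) (by rw [hu.2 0, one_pow])
  obtain ⟨t, rfl⟩ := π_surjective x₀
  have htreg : tr t ^ 2 ≠ 4 := by
    intro h4
    obtain ⟨s₀, hs₀, hse⟩ := hB (π t) hx₀
    refine hW (π t) hx₀ hx₀1 ?_
    rw [← hse]
    obtain ⟨g₁, rfl⟩ := π_surjective g₀
    have hs10 : (s₀ : M2) 1 0 = 0 := hs₀
    obtain ⟨hr, h0, h11⟩ := upper_root hs10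
    refine pi_upper_mem_W0 hs10 ?_
    have htr : tr s₀ ^ 2 = 4 := by
      rw [← π_conj] at hse
      have hc : tr (g₁ * t * g₁⁻¹) = tr t := by
        rw [← trace_eq, ← trace_eq, Matrix.SpecialLinearGroup.coe_mul, Matrix.SpecialLinearGroup.coe_mul,
          Matrix.trace_mul_cycle, ← Matrix.SpecialLinearGroup.coe_mul, inv_mul_cancel,
          Matrix.SpecialLinearGroup.coe_one, one_mul]
      rcases π_eq_iff.1 hse with e | e
      · rw [← e, hc, h4] at *
      · have e' : tr (g₁ * t * g₁⁻¹) = -tr s₀ := by rw [e]; simp [tr]; ring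
        rw [hc] at e'
        rw [← h4, e']; ring
    rw [tr, h11] at htr
    field_simp at htr
    have : ((s₀ : M2) 0 0 ^ 2 - 1) ^ 2 = 0 := by linear_combination htr
    linear_combination sq_eq_zero_iff.1 this
  refine torusCase t htreg fun y hy => ?_
  obtain ⟨s, rfl⟩ := π_surjective y
  rw [pi_mem_torus, mem_cent]
  have hts := scal_of_tr_sq_ne htreg
  have hc := hab _ hy _ hx₀
  rw [← map_mul, ← map_mul] at hc
  rcases π_eq_iff.1 hc with e | e
  · exact e
  exfalso
  obtain ⟨j, hj⟩ := hO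
  have hpow : π s ^ (2 * j + 1) = 1 := by
    have := pow_card_eq_one' (x := (⟨π s, hy⟩ : O))
    rw [hj] at this
    simpa using congrArg Subtype.val this
  have hneg : s * t * s⁻¹ = -t := by
    rw [mul_inv_eq_iff_eq_mul, neg_mul, e, neg_neg]
  have hcs : ∀ k : ℕ, s ^ k * t * (s ^ k)⁻¹ = (-1 : G) ^ k * t := by
    intro k
    induction k with
    | zero => simp
    | succ k ih =>
      rw [pow_succ', show s * s ^ k * t * (s * s ^ k)⁻¹ = s * (s ^ k * t * (s ^ k)⁻¹) * s⁻¹ by group, ih,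
        show s * ((-1 : G) ^ k * t) * s⁻¹ = (s * (-1 : G) ^ k * s⁻¹) * (s * t * s⁻¹) by group, hneg,
        ((Commute.neg_one_right s).pow_right k).eq, mul_inv_cancel_right, pow_succ, mul_neg, mul_neg,
        mul_one, neg_mul]
  have := hcs (2 * j + 1)
  rw [← map_pow] at hpow
  rcases (scal_iff _).1 (π_eq_one.1 hpow) with e' | e' <;>
    rw [e', Odd.neg_one_pow ⟨j, rfl⟩] at this <;> simp at this <;>
    exact neg_ne_self h2 t this.symm

set_option maxHeartbeats 1000000 in
/-- Every subgroup of odd index of `PSL(2, q)`, `q` odd, is pronormal. -/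
theorem isPronormal_two (hodd : Odd q) (H : Subgroup PS) (hH : Odd H.index) : Cfsg.IsPronormal H := by
  classical
  haveI : Fact (Nat.Prime 2) := ⟨Nat.prime_two⟩
  haveI : Finite PS := Finite.of_surjective _ π_surjective
  have h2 := two_ne_zero' hodd
  obtain ⟨S, hS⟩ := exists_sylow_le (p := 2) (H := H)
    (fun h => (Nat.not_even_iff_odd.2 hH) (even_iff_two_dvd.2 h))
  set T : Subgroup G := (S : Subgroup PS).comap π with hT
  have hker : IsPGroup 2 (π (F := F)).ker := fun x => ⟨1, Subtype.ext (by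
    rcases (scal_iff _).1 (π_eq_one.1 x.2) with e | e <;> simp [pow_two, e])⟩
  obtain ⟨P, hP⟩ := (S.isPGroup'.comap_of_ker_isPGroup π hker).exists_le_sylow
  have hPT : (P : Subgroup G) = T := by
    have e : (P : Subgroup G).map π = (S : Subgroup PS) := S.is_maximal' (P.isPGroup'.map π)
      (by rw [← Subgroup.map_comap_eq_self_of_surjective π_surjective (S : Subgroup PS)]
          exact Subgroup.map_mono hP)
    exact le_antisymm (fun x hx => show π x ∈ (S : Subgroup PS) by rw [← e]; exact Subgroup.mem_map_of_mem π hx) hP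
  have hlift : ∀ s : G, π s ∈ Subgroup.normalizer ((S : Subgroup PS) : Set PS) →
      s ∈ Subgroup.normalizer (T : Set G) := by
    intro s hs
    rw [Subgroup.mem_normalizer_iff] at hs ⊢
    intro y
    simp only [hT, Subgroup.mem_comap, map_mul, map_inv]
    exact hs (π y)
  have hq := Nat.odd_iff.1 hodd
  rcases (show (q % 8 = 1 ∨ q % 8 = 7) ∨ (q % 8 = 3 ∨ q % 8 = 5) by omega) with hmod | hmod
  · refine isPronormal_of_selfNormalizing S hS fun n hn => ?_
    obtain ⟨s, rfl⟩ := π_surjective n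
    have h' := hlift s hn
    rw [← hPT, (normalizer_sylow_two hodd P).1 hmod, hPT] at h'
    exact h'
  obtain ⟨g, h, a, hp, hgP, hhP, hh, hle, ha, ha2, hcard, hmem⟩ := sylow_two_structure hodd P
  have ha' : a = 2 := by
    refine le_antisymm (not_lt.1 fun h3 => ?_) ha2
    rw [ha] at h3
    have h8 := (Nat.Prime.pow_dvd_iff_le_factorization Nat.prime_two Nat.card_pos.ne').2
      (show 3 ≤ (Nat.card (cent g)).factorization 2 from h3)
    rcases cent_sq_neg_one hodd hp.isq with ⟨e, h4⟩ | ⟨e, h4⟩ <;> rw [e] at h8 <;> omega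
  have hQP : hp.Q = (P : Subgroup G) := by
    refine Subgroup.eq_of_le_of_card_ge (fun x hx => ?_) (by rw [hcard, ha', hp.card_Q h2]; norm_num)
    obtain ⟨y, hy, hxy⟩ := hp.mem_Q_cases h2 hx
    have hneg : (-1 : G) ∈ (P : Subgroup G) := hp.isq ▸ mul_mem hgP hgP
    have hy' : y ∈ (P : Subgroup G) := by
      simp only [Set.mem_insert_iff, Set.mem_singleton_iff] at hy
      rcases hy with rfl | rfl | rfl | rfl
      exacts [one_mem _, hgP, hhP, mul_mem hgP hhP]
    rcases hxy with rfl | rfl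
    · exact hy'
    · rw [← neg_one_mul]; exact mul_mem hneg hy'
  have hNcard := (normalizer_sylow_two hodd P).2 hmod
  rw [hPT] at hgP hhP hQP hNcard
  set N : Subgroup G := Subgroup.normalizer (T : Set G)
  have hT8 : Nat.card T = 8 := hQP ▸ hp.card_Q h2
  have hgv : π g ∈ (S : Subgroup PS) := hgP
  have hhv : π h ∈ (S : Subgroup PS) := hhP
  -- the Sylow subgroup is its own centraliser
  have hcent : ∀ x : G, π g * π x = π x * π g → π h * π x = π x * π h → π x ∈ (S : Subgroup PS) := by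
    intro x e1 e2
    show x ∈ T
    rw [← hQP]
    have aux : ∀ u : G, π u * π x = π x * π u → x * u * x⁻¹ = u ∨ x * u * x⁻¹ = -u := fun u e => by
      have e' : π (x * u * x⁻¹) = π u := by rw [π_conj, ← e, mul_inv_cancel_right]
      rcases π_eq_iff.1 e' with e'' | e''
      · exact Or.inl e''.symm
      · exact Or.inr (neg_eq_iff_eq_neg.1 e''.symm)
    exact ⟨aux g e1, aux h e2⟩
  have hsq : ∀ y ∈ (S : Subgroup PS), y * y = 1 := by
    intro y hy
    obtain ⟨x, rfl⟩ := π_surjective y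
    have hx : x ∈ hp.Q := hQP ▸ hy
    obtain ⟨z, hz, hxz⟩ := hp.mem_Q_cases h2 hx
    rw [← map_mul]
    refine π_eq_one.2 ((scal_iff _).2 ?_)
    simp only [Set.mem_insert_iff, Set.mem_singleton_iff] at hz
    rcases hxz with rfl | rfl <;> rcases hz with rfl | rfl | rfl | rfl <;>
      simp [hp.isq, hp.jsq, hp.ksq]
  have hcomm : IsMulCommutative (S : Subgroup PS) := ⟨⟨fun x y => Subtype.ext (by
    have e1 := hsq _ x.2; have e2 := hsq _ y.2; have e3 := hsq _ (mul_mem x.2 y.2)
    calc (x : PS) * y = (x : PS) * y * (((y : PS) * x) * ((y : PS) * x)) := by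
          rw [hsq _ (mul_mem y.2 x.2), mul_one]
      _ = (x : PS) * (y * y) * x * (y * x) := by group
      _ = (y : PS) * x := by rw [e2, mul_one, e1, one_mul])⟩⟩
  refine isPronormal_of_normalizer S hS fun n hn => ?_
  set K := H ⊔ cj n H with hK
  have hSK : (S : Subgroup PS) ≤ K := hS.trans le_sup_left
  obtain ⟨s, rfl⟩ := π_surjective n
  have hsN : s ∈ N := hlift s hn
  have hSn : ∀ y ∈ (S : Subgroup PS), (π s)⁻¹ * y * π s ∈ (S : Subgroup PS) := fun y hy => by
    have := (Subgroup.mem_normalizer_iff.1 (inv_mem hn) y).1 hy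
    rwa [inv_inv] at this
  by_cases hKN : ∀ m : G, m ∈ N → π m ∈ K → m ∈ T
  swap
  · push Not at hKN
    obtain ⟨m, hmN, hmK, hmT⟩ := hKN
    have hlt : T < K.comap π ⊓ N :=
      lt_of_le_of_ne (le_inf (Subgroup.comap_mono hSK) Subgroup.le_normalizer) fun e =>
        hmT (e ▸ (⟨hmK, hmN⟩ : m ∈ K.comap π ⊓ N))
    have heq : K.comap π ⊓ N = N := by
      refine Subgroup.eq_of_le_of_card_ge inf_le_right ?_
      rw [hNcard, hT8]
      have d1 := Subgroup.card_dvd_of_le hlt.le
      have d2 : Nat.card ↥(K.comap π ⊓ N) ∣ Nat.card N := Subgroup.card_dvd_of_le inf_le_right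
      have d3 : Nat.card ↥(K.comap π ⊓ N) ≠ 8 := fun e =>
        hlt.ne (Subgroup.eq_of_le_of_card_ge hlt.le (by rw [e, hT8]))
      rw [hNcard, hT8] at d2
      rw [hT8] at d1
      obtain ⟨c, hc⟩ := d1
      rw [hc] at d2 d3 ⊢
      rcases (Nat.dvd_prime Nat.prime_three).1
        (Nat.dvd_of_mul_dvd_mul_left (by norm_num : 0 < 8) (by simpa [mul_comm] using d2)) with rfl | rfl <;>
        omega
    have hsK' : s ∈ K.comap π ⊓ N := by rw [heq]; exact hsN
    have hsK : π s ∈ K := hsK'.1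
    exact ⟨π s, hsK, rfl⟩
  -- the join has a normal 2-complement
  refine ⟨1, one_mem _, ?_⟩
  rw [cj_one]
  set SK := (S.subtype hSK)
  haveI : IsMulCommutative (SK : Subgroup K) := ⟨⟨fun x y => Subtype.ext (Subtype.ext (by
    simpa using congrArg Subtype.val
      (hcomm.is_comm.comm (⟨((x : K) : PS), x.2⟩ : (S : Subgroup PS)) ⟨((y : K) : PS), y.2⟩)))⟩⟩
  have hNS : Subgroup.normalizer ((SK : Subgroup K) : Set K) ≤
      Subgroup.centralizer ((SK : Subgroup K) : Set K) := by
    intro m hm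
    obtain ⟨t, ht⟩ := π_surjective (m : PS)
    have hmS : (m : PS) ∈ (S : Subgroup PS) := by
      rw [← ht]
      refine hKN t (hlift t (ht.symm ▸ Subgroup.mem_normalizer_iff.2 fun y => ?_)) (ht.symm ▸ m.2)
      constructor
      · intro hy
        exact (Subgroup.mem_normalizer_iff.1 hm ⟨y, hSK hy⟩).1 hy
      · intro hy
        have hyK : y ∈ K := by
          have := mul_mem (mul_mem (inv_mem m.2) (hSK hy)) m.2
          simpa [mul_assoc] using this
        exact (Subgroup.mem_normalizer_iff.1 hm ⟨y, hyK⟩).2 hy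
    exact Subgroup.le_centralizer (SK : Subgroup K) (show m ∈ (SK : Subgroup K) from hmS)
  obtain ⟨W, hWn, hcompl⟩ : ∃ W : Subgroup K, W.Normal ∧ W.IsComplement' (SK : Subgroup K) :=
    ⟨_, MonoidHom.normal_ker _, MonoidHom.ker_transferSylow_isComplement' SK hNS⟩
  set O := W.map K.subtype with hOdef
  have hWidx : W.index = Nat.card (SK : Subgroup K) := hcompl.symm.index_eq_card
  have hWodd : Odd (Nat.card W) := by
    rw [← hcompl.index_eq_card]
    exact Nat.not_even_iff_odd.1 fun e => SK.not_dvd_index (even_iff_two_dvd.1 e)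
  have hOodd : Odd (Nat.card O) := by
    rw [Nat.card_congr (W.equivMapOfInjective _ K.subtype_injective).toEquiv.symm]; exact hWodd
  have hoddmem : ∀ x ∈ K, Odd (orderOf x) → x ∈ O := by
    intro x hx ho
    haveI := hWn
    refine Subgroup.mem_map.2 ⟨⟨x, hx⟩, ?_, rfl⟩
    obtain ⟨k, hk⟩ := IsPGroup.iff_card.1 SK.isPGroup'
    have hpow := Subgroup.pow_index_mem W ⟨x, hx⟩
    rw [hWidx, hk] at hpow
    have hcop : (orderOf (⟨x, hx⟩ : K)).Coprime (2 ^ k) := by
      rw [Subgroup.orderOf_mk]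
      exact Nat.Coprime.pow_right _ (Nat.coprime_two_right.2 ho)
    obtain ⟨m, hm⟩ := exists_pow_eq_self_of_coprime hcop.symm
    rw [← hm]
    exact pow_mem hpow m
  have hnorm : ∀ t ∈ ({g, h} : Set G), ∀ x ∈ O, π t * x * (π t)⁻¹ ∈ O := by
    intro t ht y hy
    obtain ⟨x, hx, rfl⟩ := Subgroup.mem_map.1 hy
    have htK : π t ∈ K := hSK (by rcases ht with rfl | rfl <;> assumption)
    exact Subgroup.mem_map.2 ⟨⟨π t, htK⟩ * x * ⟨π t, htK⟩⁻¹, hWn.conj_mem _ hx _, by simp⟩
  obtain ⟨v, hv, hvc⟩ := exists_centralizing hodd hp hOodd hnorm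
  have hvS : π v ∈ (S : Subgroup PS) := by
    rcases hv with rfl | rfl | rfl
    · exact hgv
    · exact hhv
    · rw [map_mul]; exact mul_mem hgv hhv
  set v' := (π s)⁻¹ * π v * π s with hv'
  have hne1 : ∀ u : G, u * u = -1 → π u ≠ 1 := fun u hu e => by
    rcases (scal_iff _).1 (π_eq_one.1 e) with e' | e' <;> rw [e'] at hu <;>
      exact neg_ne_self h2 (1 : G) (by simpa using hu.symm)
  have hS4 : Nat.card (S : Subgroup PS) ≤ 4 := by
    rw [← SetLike.coe_sort_coe, Nat.card_coe_set_eq]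
    refine le_trans (Set.ncard_le_ncard (t := {1, π g, π h, π (g * h)}) (fun y hy => ?_) (Set.toFinite _)) ?_
    · obtain ⟨x, rfl⟩ := π_surjective y
      have hx : x ∈ hp.Q := hQP ▸ hy
      obtain ⟨z, hz, hxz⟩ := hp.mem_Q_cases h2 hx
      have e : π x = π z := by rcases hxz with rfl | rfl <;> simp [π_neg]
      rw [e]
      simp only [Set.mem_insert_iff, Set.mem_singleton_iff] at hz ⊢
      rcases hz with rfl | rfl | rfl | rfl <;> simp
    · refine le_trans (Set.ncard_insert_le _ _) (Nat.succ_le_succ ?_)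
      refine le_trans (Set.ncard_insert_le _ _) (Nat.succ_le_succ ?_)
      refine le_trans (Set.ncard_insert_le _ _) (Nat.succ_le_succ ?_)
      simp
  have hv1 : π v ≠ 1 := by
    rcases hv with rfl | rfl | rfl
    exacts [hne1 _ hp.isq, hne1 _ hp.jsq, hne1 _ hp.ksq]
  by_cases hfix : v' = π v
  · -- `s` acts trivially on the four-group
    refine cj_eq_self (hS ?_)
    have h3 : s ^ 3 ∈ T := by
      have hidx : (T.subgroupOf N).index = 3 := by
        have := (T.subgroupOf N).card_mul_index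
        rw [Nat.card_congr (Subgroup.subgroupOfEquivOfLe Subgroup.le_normalizer).toEquiv, hNcard, hT8] at this
        omega
      haveI : (T.subgroupOf N).Normal := Subgroup.normal_in_normalizer
      have := Subgroup.pow_index_mem (T.subgroupOf N) ⟨s, hsN⟩
      rw [hidx] at this
      exact Subgroup.mem_subgroupOf.1 this
    have hvfix : π s * π v * (π s)⁻¹ = π v := by
      calc π s * π v * (π s)⁻¹ = π s * v' * (π s)⁻¹ := by rw [hfix]
        _ = π v := by rw [hv']; group
    have hall : ∀ y ∈ (S : Subgroup PS), π s * y * (π s)⁻¹ = y := by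
      intro w hwS
      by_cases hw1 : w = 1
      · simp [hw1]
      by_cases hwv : w = π v
      · rw [hwv]; exact hvfix
      have him := (Subgroup.mem_normalizer_iff.1 hn w).1 hwS
      rcases klein_cover hS4 hsq hvS hwS hv1 hw1 (Ne.symm hwv) him with e | e | e | e
      · exact absurd (conj_eq_one_iff.1 e) hw1
      · exact absurd (mul_left_cancel (mul_right_cancel (e.trans hvfix.symm))) hwv
      · exact e
      · have e2 : π s * (π s * w * (π s)⁻¹) * (π s)⁻¹ = w := by
          rw [e, show π s * (π v * w) * (π s)⁻¹ = (π s * π v * (π s)⁻¹) * (π s * w * (π s)⁻¹) by group,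
            hvfix, e, ← mul_assoc, hsq _ hvS, one_mul]
        have e3 : π (s ^ 3) * w * (π (s ^ 3))⁻¹ = w := by
          have := congrArg Subtype.val (hcomm.is_comm.comm (⟨π (s ^ 3), h3⟩ : (S : Subgroup PS)) ⟨w, hwS⟩)
          exact mul_inv_eq_iff_eq_mul.2 this
        rw [map_pow, show π s ^ 3 * w * (π s ^ 3)⁻¹ =
          π s * (π s * (π s * w * (π s)⁻¹) * (π s)⁻¹) * (π s)⁻¹ by simp [pow_succ, mul_assoc], e2] at e3
        exact e3
    exact hcent s (mul_inv_eq_iff_eq_mul.1 (hall _ hgv)).symm (mul_inv_eq_iff_eq_mul.1 (hall _ hhv)).symm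
  · -- the odd part of `H` centralises the four-group, hence is trivial
    have hv'S : v' ∈ (S : Subgroup PS) := hSn _ hvS
    have hv'1 : v' ≠ 1 := fun e => hv1 (by
      calc π v = π s * v' * (π s)⁻¹ := by rw [hv']; group
        _ = 1 := by rw [e]; group)
    have hodd1 : ∀ x ∈ H, Odd (orderOf x) → x = 1 := by
      intro x hx ho
      have hxO := hoddmem x (le_sup_left (b := cj (π s) H) hx) ho
      have hyK : π s * x * (π s)⁻¹ ∈ K := le_sup_right (a := H) (mem_cj.2 (by simpa [mul_assoc] using hx))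
      have hyo : Odd (orderOf (π s * x * (π s)⁻¹)) := by
        rw [show π s * x * (π s)⁻¹ = MulAut.conj (π s) x from rfl, MulEquiv.orderOf_eq]; exact ho
      have c1 := hvc x hxO
      have c2 := hvc _ (hoddmem _ hyK hyo)
      have c2' : v' * x = x * v' := by
        calc v' * x = (π s)⁻¹ * (π v * (π s * x * (π s)⁻¹)) * π s := by rw [hv']; group
          _ = (π s)⁻¹ * ((π s * x * (π s)⁻¹) * π v) * π s := by rw [c2]
          _ = x * v' := by rw [hv']; group
      obtain ⟨t, rfl⟩ := π_surjective x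
      have hgen : ∀ u ∈ (S : Subgroup PS), u * π t = π t * u := by
        intro u hu
        rcases klein_cover hS4 hsq hvS hv'S hv1 hv'1 (Ne.symm hfix) hu with e | e | e | e <;> rw [e]
        · simp
        · exact c1
        · exact c2'
        · rw [mul_assoc, c2', ← mul_assoc, c1, mul_assoc]
      have hxS := hcent t (hgen _ hgv) (hgen _ hhv)
      have hd : orderOf (π t) ∣ 2 := orderOf_dvd_of_pow_eq_one (by rw [pow_two]; exact hsq _ hxS)
      rcases (Nat.dvd_prime Nat.prime_two).1 hd with e | e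
      · exact orderOf_eq_one_iff.1 e
      · rw [e] at ho; exact absurd ho (by decide)
    have hHS : H ≤ (S : Subgroup PS) := by
      intro x hx
      have hxK : x ∈ K := le_sup_left (b := cj (π s) H) hx
      obtain ⟨⟨w, u⟩, hwu⟩ := hcompl.2 ⟨x, hxK⟩
      have hwu' : ((w : K) : PS) * ((u : K) : PS) = x := congrArg Subtype.val hwu
      have huS : ((u : K) : PS) ∈ (S : Subgroup PS) := u.2
      have hwH : ((w : K) : PS) ∈ H := by
        rw [← mul_inv_eq_of_eq_mul hwu'.symm]; exact mul_mem hx (inv_mem (hS huS))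
      have hw1 : ((w : K) : PS) = 1 := by
        refine hodd1 _ hwH ?_
        rw [Subgroup.orderOf_coe, Subgroup.orderOf_coe]
        exact hWodd.of_dvd_nat (orderOf_dvd_natCard _)
      rw [← hwu', hw1, one_mul]; exact huS
    have hHeq : H = (S : Subgroup PS) := le_antisymm hHS hS
    ext y
    rw [mem_cj, hHeq]
    refine ⟨fun hy => ?_, hSn y⟩
    have := (Subgroup.mem_normalizer_iff.1 hn _).1 hy
    simpa [mul_assoc] using this

end Cfsg.Agent.Pronormal
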