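import Cfsg.Agent.Lib.Pronormal.SylowStep
import Cfsg.Agent.Lib.Pronormal.TwoOdd

/-!
# A Sylow `2`-subgroup of `GL(2, q)`, `q` odd, is self-normalising modulo scalars
-/

set_option autoImplicit false
set_option linter.unusedSectionVars false

namespace Cfsg.Agent.Pronormal

open Matrix Cfsg.Agent.SL2

variable {F : Type*} [Field F] [Fintype F]

local notation "G" => Matrix.SpecialLinearGroup (Fin 2) F
local notation "M2" => Matrix (Fin 2) (Fin 2) F
local notation "GL2" => GL (Fin 2) F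
local notation "q" => Fintype.card F
local notation "ι" => (Matrix.SpecialLinearGroup.toGL (n := Fin 2) (R := F))

theorem tr_half_scalar (h2 : (2 : F) ≠ 0) {i j : G} (hp : QPair i j) {M : M2}
    (hi : M * (i : M2) = (i : M2) * M) (hj : M * (j : M2) = (j : M2) * M) : ∃ c : F, M = c • 1 := by
  have hti : (i : M2) 1 1 = -(i : M2) 0 0 := by
    have := tr_zero_of_sq h2 hp.isq; rw [tr] at this; linear_combination this
  have htj : (j : M2) 1 1 = -(j : M2) 0 0 := by
    have := tr_zero_of_sq h2 hp.jsq; rw [tr] at this; linear_combination this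
  have hdi := det_eq i
  have hdj := det_eq j
  rw [hti] at hdi
  rw [htj] at hdj
  set c : F := (M 0 0 + M 1 1) / 2
  set x : F := (M 0 0 - M 1 1) / 2
  have hex : ∀ (u : G), (u : M2) 1 1 = -(u : M2) 0 0 →
      ((u : M2) 0 0 * -(u : M2) 0 0 - (u : M2) 0 1 * (u : M2) 1 0 = 1) → M * (u : M2) = (u : M2) * M →
      ∃ l : F, x = l * (u : M2) 0 0 ∧ M 0 1 = l * (u : M2) 0 1 ∧ M 1 0 = l * (u : M2) 1 0 := by
    intro u htu hdu hu
    have e00 := congrFun (congrFun hu 0) 0
    have e01 := congrFun (congrFun hu 0) 1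
    have e10 := congrFun (congrFun hu 1) 0
    simp only [Matrix.mul_apply, Fin.sum_univ_two, htu] at e00 e01 e10
    have hx : 2 * x = M 0 0 - M 1 1 := by simp only [x]; field_simp
    have bz : (u : M2) 0 1 * M 1 0 = (u : M2) 1 0 * M 0 1 := by linear_combination -e00
    have ay : (u : M2) 0 0 * M 0 1 = (u : M2) 0 1 * x :=
      mul_left_cancel₀ h2 (by linear_combination -e01 - (u : M2) 0 1 * hx)
    have az : (u : M2) 0 0 * M 1 0 = (u : M2) 1 0 * x :=
      mul_left_cancel₀ h2 (by linear_combination e10 - (u : M2) 1 0 * hx)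
    refine ⟨-((u : M2) 0 0 * x + (u : M2) 0 1 * M 1 0), ?_, ?_, ?_⟩
    · linear_combination -x * hdu + (u : M2) 0 1 * az
    · linear_combination -(M 0 1) * hdu - (u : M2) 0 0 * ay + (u : M2) 0 1 * bz
    · linear_combination -(M 1 0) * hdu - (u : M2) 0 0 * az
  obtain ⟨l, hl0, hl1, hl2⟩ := hex i hti hdi hi
  obtain ⟨k, hk0, hk1, hk2⟩ := hex j htj hdj hj
  have hN : M = c • 1 + l • (i : M2) := by
    ext a b
    fin_cases a <;> fin_cases b <;> simp [c]
    · rw [← hl0]; simp only [x]; field_simp; ring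
    · exact hl1
    · exact hl2
    · rw [hti, mul_neg, ← hl0]; simp only [x]; field_simp; ring
  by_cases hl : l = 0
  · exact ⟨c, by rw [hN, hl, zero_smul, add_zero]⟩
  exfalso
  have e : l • ((i : M2) * (j : M2)) = l • ((j : M2) * (i : M2)) := by
    rw [hN, add_mul, mul_add, smul_mul_assoc, smul_mul_assoc, mul_smul_comm, mul_smul_comm, one_mul,
      mul_one] at hj
    exact add_left_cancel hj
  have e' : (i * j : G) = j * i := Subtype.ext (by
    rw [Matrix.SpecialLinearGroup.coe_mul, Matrix.SpecialLinearGroup.coe_mul]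
    exact smul_right_injective M2 hl e)
  rw [hp.anti] at e'
  exact neg_ne_self h2 _ e'.symm

theorem det_toGL (s : G) : (ι s).val.det = 1 := s.det_coe

theorem toGL_inj {s t : G} (h : ι s = ι t) : s = t := Matrix.SpecialLinearGroup.toGL_injective h

theorem scal_toGL_neg : scal (Fin 2) (-1 : Fˣ) = ι (-1) := Units.ext (by
  rw [scal_val]; simp [Matrix.SpecialLinearGroup.coe_neg])

/-- An element fixing two anticommuting elements up to sign has square determinant. -/
theorem det_isSquare (h2 : (2 : F) ≠ 0) {i j : G} (hp : QPair i j) {M : GL2}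
    (hi : M * ι i * M⁻¹ = ι i ∨ M * ι i * M⁻¹ = ι (-i))
    (hj : M * ι j * M⁻¹ = ι j ∨ M * ι j * M⁻¹ = ι (-j)) : ∃ c : F, M.val.det = c * c := by
  have key : ∀ y : G, M * ι i * M⁻¹ = ι (y * i * y⁻¹) → M * ι j * M⁻¹ = ι (y * j * y⁻¹) →
      ∃ c : F, M.val.det = c * c := by
    intro y ei ej
    have hc : ∀ u : G, M * ι u * M⁻¹ = ι (y * u * y⁻¹) →
        ((ι y)⁻¹ * M).val * (u : M2) = (u : M2) * ((ι y)⁻¹ * M).val := by
      intro u e
      have e' : ((ι y)⁻¹ * M) * ι u = ι u * ((ι y)⁻¹ * M) := by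
        rw [map_mul, map_mul, map_inv] at e
        calc (ι y)⁻¹ * M * ι u = (ι y)⁻¹ * (M * ι u * M⁻¹) * M := by group
          _ = ι u * ((ι y)⁻¹ * M) := by rw [e]; group
      exact congrArg Units.val e'
    obtain ⟨c, hc'⟩ := tr_half_scalar h2 hp (hc i ei) (hc j ej)
    refine ⟨c, ?_⟩
    have := congrArg Matrix.det hc'
    rw [Units.val_mul, det_mul, ← map_inv, det_toGL, one_mul, det_smul, det_one, Fintype.card_fin] at this
    rw [this]; ring
  rcases hi with ei | ei <;> rcases hj with ej | ej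
  · exact key 1 (by simpa using ei) (by simpa using ej)
  · exact key i (by rw [ei]; congr 1; group) (by rw [ej, hp.conj_ij])
  · exact key j (by rw [ei, hp.conj_ji]) (by rw [ej]; congr 1; group)
  · refine key (i * j) ?_ ?_
    · rw [ei]; congr 1
      rw [show i * j * i * (i * j)⁻¹ = i * (j * i * j⁻¹) * i⁻¹ by group, hp.conj_ji, mul_neg, neg_mul,
        mul_inv_cancel_right]
    · rw [ej]; congr 1
      rw [show i * j * j * (i * j)⁻¹ = i * j * i⁻¹ by group, hp.conj_ij]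

theorem sylow_eq_Q (hodd : Odd q) (hmod : q % 8 = 3 ∨ q % 8 = 5) (P : Sylow 2 G) :
    ∃ (g h : G) (hp : QPair g h), hp.Q = (P : Subgroup G) := by
  have h2 := two_ne_zero' hodd
  obtain ⟨g, h, a, hp, hgP, hhP, hh, hle, ha, ha2, hcard, hmem⟩ := sylow_two_structure hodd P
  have ha' : a = 2 := by
    refine le_antisymm (not_lt.1 fun h3 => ?_) ha2
    rw [ha] at h3
    have h8 := (Nat.Prime.pow_dvd_iff_le_factorization Nat.prime_two Nat.card_pos.ne').2
      (show 3 ≤ (Nat.card (cent g)).factorization 2 from h3)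
    rcases cent_sq_neg_one hodd hp.isq with ⟨e, h4⟩ | ⟨e, h4⟩ <;> rw [e] at h8 <;> omega
  refine ⟨g, h, hp, Subgroup.eq_of_le_of_card_ge (fun x hx => ?_)
    (by rw [hcard, ha', hp.card_Q h2]; norm_num)⟩
  obtain ⟨y, hy, hxy⟩ := hp.mem_Q_cases h2 hx
  have hneg : (-1 : G) ∈ (P : Subgroup G) := hp.isq ▸ mul_mem hgP hgP
  have hy' : y ∈ (P : Subgroup G) := by
    simp only [Set.mem_insert_iff, Set.mem_singleton_iff] at hy
    rcases hy with rfl | rfl | rfl | rfl
    exacts [one_mem _, hgP, hhP, mul_mem hgP hhP]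
  rcases hxy with rfl | rfl
  · exact hy'
  · rw [← neg_one_mul]; exact mul_mem hneg hy'

set_option maxHeartbeats 1000000 in
theorem exists_good_two (hodd : Odd q) : ∃ A : Subgroup GL2, Good A := by
  classical
  haveI : Fact (Nat.Prime 2) := ⟨Nat.prime_two⟩
  have h2 := two_ne_zero' hodd
  obtain ⟨P⟩ : Nonempty (Sylow 2 G) := inferInstance
  obtain ⟨A, hA⟩ := (P.isPGroup'.map ι).exists_le_sylow
  have hAT : ∀ s : G, ι s ∈ (A : Subgroup GL2) ↔ s ∈ (P : Subgroup G) := by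
    have hp' : IsPGroup 2 ((A : Subgroup GL2).comap ι) :=
      A.isPGroup'.comap_of_injective _ Matrix.SpecialLinearGroup.toGL_injective
    have := P.is_maximal' hp' (fun x hx => hA ⟨x, hx, rfl⟩)
    exact fun s => this ▸ Iff.rfl
  have hmax : ∀ x : GL2, (∀ a ∈ (A : Subgroup GL2), x * a * x⁻¹ ∈ (A : Subgroup GL2)) →
      (∃ k : ℕ, x ^ 2 ^ k = 1) → x ∈ (A : Subgroup GL2) := by
    intro x hx ⟨k, hk⟩
    have hxN : x ∈ Subgroup.normalizer ((A : Subgroup GL2) : Set GL2) := by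
      let f : ↥(A : Subgroup GL2) → ↥(A : Subgroup GL2) := fun a => ⟨x * a * x⁻¹, hx a a.2⟩
      have hf : Function.Injective f := fun a b e => Subtype.ext (by simpa [f] using e)
      rw [Subgroup.mem_normalizer_iff]
      refine fun y => ⟨hx y, fun hy => ?_⟩
      obtain ⟨b, hb⟩ := (Finite.injective_iff_surjective.1 hf) ⟨_, hy⟩
      have hb' : x * b * x⁻¹ = x * y * x⁻¹ := congrArg Subtype.val hb
      rw [← mul_left_cancel (mul_right_cancel hb')]; exact b.2
    have hz : IsPGroup 2 (Subgroup.zpowers x) := by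
      rintro ⟨y, j, rfl⟩
      refine ⟨k, Subtype.ext ?_⟩
      show (x ^ j) ^ 2 ^ k = 1
      rw [← zpow_natCast, ← _root_.zpow_mul, mul_comm, _root_.zpow_mul, zpow_natCast, hk, _root_.one_zpow]
    have e := A.is_maximal' (IsPGroup.to_sup_of_normal_left' A.isPGroup' hz (Subgroup.zpowers_le.2 hxN)) le_sup_left
    exact e ▸ Subgroup.mem_sup_right (Subgroup.mem_zpowers x)
  have hscal : ∀ c : Fˣ, (∃ k : ℕ, c ^ 2 ^ k = 1) → scal (Fin 2) c ∈ (A : Subgroup GL2) := by
    rintro c ⟨k, hk⟩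
    refine hmax _ (fun a ha => ?_) ⟨k, by rw [← map_pow, hk, map_one]⟩
    rw [scal_comm, mul_inv_cancel_right]; exact ha
  have hcomm : ∀ M : M2, (∀ a ∈ (A : Subgroup GL2), a.val.det = 1 → M * a.val = a.val * M) →
      ∃ c : F, M = c • 1 := by
    intro M hM
    obtain ⟨g, h, a, hp, hgP, hhP, -⟩ := sylow_two_structure hodd P
    exact tr_half_scalar h2 hp (hM (ι g) ((hAT g).2 hgP) (det_toGL g)) (hM (ι h) ((hAT h).2 hhP) (det_toGL h))
  refine ⟨A, A.isPGroup', hscal, fun g hg => ?_, hcomm⟩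
  set d : Fˣ := Matrix.GeneralLinearGroup.det g with hd
  have hdv : (d : F) = g.val.det := rfl
  obtain ⟨s, hs⟩ : ∃ s : G, ι s = g * g * scal (Fin 2) d⁻¹ := by
    refine ⟨⟨(g * g * scal (Fin 2) d⁻¹).val, ?_⟩, Units.ext rfl⟩
    rw [Units.val_mul, Units.val_mul, det_mul, det_mul, det_scal, Fintype.card_fin, ← hdv, Units.val_inv_eq_inv_val]
    field_simp
  have hsA : ∀ a ∈ (A : Subgroup GL2), ι s * a * (ι s)⁻¹ ∈ (A : Subgroup GL2) := by
    intro a ha
    rw [hs, show g * g * scal (Fin 2) d⁻¹ * a * (g * g * scal (Fin 2) d⁻¹)⁻¹ =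
      g * (g * (scal (Fin 2) d⁻¹ * a * (scal (Fin 2) d⁻¹)⁻¹) * g⁻¹) * g⁻¹ by group, scal_comm,
      mul_inv_cancel_right]
    exact hg _ (hg _ ha)
  have hsP : s ∈ Subgroup.normalizer ((P : Subgroup G) : Set G) := by
    rw [Subgroup.mem_normalizer_iff]
    have hfwd : ∀ y ∈ (P : Subgroup G), s * y * s⁻¹ ∈ (P : Subgroup G) := fun y hy => by
      rw [← hAT, map_mul, map_mul, map_inv]; exact hsA _ ((hAT y).2 hy)
    let f : ↥(P : Subgroup G) → ↥(P : Subgroup G) := fun a => ⟨s * a * s⁻¹, hfwd a a.2⟩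
    have hf : Function.Injective f := fun a b e => Subtype.ext (by simpa [f] using e)
    refine fun y => ⟨hfwd y, fun hy => ?_⟩
    obtain ⟨b, hb⟩ := (Finite.injective_iff_surjective.1 hf) ⟨_, hy⟩
    have hb' : s * b * s⁻¹ = s * y * s⁻¹ := congrArg Subtype.val hb
    rw [← mul_left_cancel (mul_right_cancel hb')]; exact b.2
  have hFc : 0 < Nat.card Fˣ := Nat.card_pos
  obtain ⟨a0, m, hm, hcard⟩ := Nat.exists_eq_two_pow_mul_odd hFc.ne'
  have h2el : ∀ c : Fˣ, (c ^ m) ^ 2 ^ a0 = 1 := fun c => by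
    rw [← pow_mul, mul_comm, ← hcard, pow_card_eq_one']
  by_cases hsT : s ∈ (P : Subgroup G)
  · have hg2 : g * g = ι s * scal (Fin 2) d := by rw [hs, mul_assoc, ← map_mul, inv_mul_cancel, map_one, mul_one]
    have hgm : g ^ m ∈ (A : Subgroup GL2) := by
      have h : (g ^ m) ^ 2 ∈ (A : Subgroup GL2) := by
        rw [← pow_mul, mul_comm, pow_mul, pow_two, hg2, (show Commute (ι s) (scal (Fin 2) d) from
          (scal_comm d (ι s)).symm).mul_pow, ← map_pow (scal (Fin 2))]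
        exact mul_mem (pow_mem ((hAT s).2 hsT) _) (hscal _ ⟨a0, h2el d⟩)
      obtain ⟨k, hk⟩ := A.isPGroup' ⟨_, h⟩
      refine hmax _ (fun a ha => ?_) ⟨k + 1, ?_⟩
      · have : ∀ i : ℕ, g ^ i * a * (g ^ i)⁻¹ ∈ (A : Subgroup GL2) := by
          intro i
          induction i with
          | zero => simpa using ha
          | succ i ih =>
            rw [pow_succ', show g * g ^ i * a * (g * g ^ i)⁻¹ = g * (g ^ i * a * (g ^ i)⁻¹) * g⁻¹ by group]
            exact hg _ ih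
        exact this m
      · rw [pow_succ', pow_mul]; simpa using congrArg Subtype.val hk
    obtain ⟨j, rfl⟩ := hm
    refine ⟨g ^ (2 * j + 1) * (ι s ^ j)⁻¹, mul_mem hgm (inv_mem (pow_mem ((hAT s).2 hsT) _)), (d ^ j)⁻¹, ?_⟩
    rw [pow_succ', pow_mul, pow_two, hg2, (show Commute (ι s) (scal (Fin 2) d) from
      (scal_comm d (ι s)).symm).mul_pow, map_inv, map_pow]
    rw [← map_pow (scal (Fin 2))]
    have key : ∀ a b c : GL2, b * c = c * b → a = a * (b * c) * b⁻¹ * c⁻¹ := fun a b c e => by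
      rw [e]; group
    exact key _ _ _ (scal_comm _ _).symm
  exfalso
  have hmod : q % 8 = 3 ∨ q % 8 = 5 := by
    have hq := Nat.odd_iff.1 hodd
    by_contra hcon
    exact hsT ((normalizer_sylow_two hodd P).1 (by omega) ▸ hsP)
  obtain ⟨i₀, j₀, hp₀, hQ⟩ := sylow_eq_Q hodd hmod P
  have hP8 : Nat.card (P : Subgroup G) = 8 := hQ ▸ hp₀.card_Q h2
  have hN24 : Nat.card (Subgroup.normalizer ((P : Subgroup G) : Set G)) = 24 := by
    rw [(normalizer_sylow_two hodd P).2 hmod, hP8]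
  have hs24 : s ^ 24 = 1 := by
    have := pow_card_eq_one' (x := (⟨s, hsP⟩ : Subgroup.normalizer ((P : Subgroup G) : Set G)))
    rw [hN24] at this
    simpa using congrArg Subtype.val this
  set t := s ^ 8 with ht
  have ht3 : t * t * t = 1 := by rw [ht, ← pow_add, ← pow_add]; exact hs24
  have htA : ∀ a ∈ (A : Subgroup GL2), ι t * a * (ι t)⁻¹ ∈ (A : Subgroup GL2) := by
    rw [ht, map_pow]
    suffices ∀ i : ℕ, ∀ a ∈ (A : Subgroup GL2), ι s ^ i * a * (ι s ^ i)⁻¹ ∈ (A : Subgroup GL2) from this 8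
    intro i a ha
    induction i with
    | zero => simpa using ha
    | succ i ih =>
      rw [pow_succ', show ι s * ι s ^ i * a * (ι s * ι s ^ i)⁻¹ = ι s * (ι s ^ i * a * (ι s ^ i)⁻¹) * (ι s)⁻¹ by group]
      exact hsA _ ih
  have htP : t ∉ (P : Subgroup G) := by
    intro htP
    refine hsT ((hAT s).1 (hmax _ hsA ⟨6, ?_⟩))
    obtain ⟨k, hk⟩ := P.isPGroup' ⟨t, htP⟩
    have hk' : t ^ 2 ^ k = 1 := by simpa using congrArg Subtype.val hk
    have h3 : t ^ 3 = 1 := by rw [pow_succ, pow_two, ht3]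
    have : t = 1 := by
      rw [← orderOf_eq_one_iff]
      exact Nat.eq_one_of_dvd_coprimes (Nat.Coprime.pow_left k (by norm_num : Nat.Coprime 2 3))
        (orderOf_dvd_of_pow_eq_one hk') (orderOf_dvd_of_pow_eq_one h3)
    rw [← map_pow, show 2 ^ 6 = 8 * 8 from rfl, pow_mul, ← ht, this, one_pow, map_one]
  -- choose an axis moved by `t`
  have htN : ∀ y ∈ (P : Subgroup G), t * y * t⁻¹ ∈ (P : Subgroup G) := fun y hy => by
    rw [← hAT, map_mul, map_mul, map_inv]; exact htA _ ((hAT y).2 hy)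
  obtain ⟨i, hiP, hisq, hmove⟩ : ∃ i ∈ (P : Subgroup G), i * i = -1 ∧ t * i * t⁻¹ ≠ i ∧ t * i * t⁻¹ ≠ -i := by
    by_contra hcon
    push Not at hcon
    refine htP (hQ ▸ ⟨?_, ?_⟩)
    · by_cases e : t * i₀ * t⁻¹ = i₀
      · exact Or.inl e
      · exact Or.inr (hcon i₀ (hQ ▸ hp₀.i_mem) hp₀.isq e)
    · by_cases e : t * j₀ * t⁻¹ = j₀
      · exact Or.inl e
      · exact Or.inr (hcon j₀ (hQ ▸ hp₀.j_mem) hp₀.jsq e)
  set i2 := t * i * t⁻¹ with hi2
  have hi2P : i2 ∈ (P : Subgroup G) := htN i hiP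
  have hi2sq : i2 * i2 = -1 := by
    rw [hi2, show t * i * t⁻¹ * (t * i * t⁻¹) = t * (i * i) * t⁻¹ by group, hisq]; simp
  -- signs inside the quaternion group
  have hQfacts : ∀ u ∈ (P : Subgroup G), ∀ v ∈ (P : Subgroup G), u * v * u⁻¹ = v ∨ u * v * u⁻¹ = -v := by
    intro u hu v hv
    rw [← hQ] at hu hv
    obtain ⟨z, hz, hvz⟩ := hp₀.mem_Q_cases h2 hv
    have base : u * z * u⁻¹ = z ∨ u * z * u⁻¹ = -z := by
      simp only [Set.mem_insert_iff, Set.mem_singleton_iff] at hz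
      rcases hz with rfl | rfl | rfl | rfl
      · left; simp
      · exact hu.1
      · exact hu.2
      · rw [show u * (i₀ * j₀) * u⁻¹ = (u * i₀ * u⁻¹) * (u * j₀ * u⁻¹) by group]
        rcases hu.1 with e | e <;> rcases hu.2 with e' | e' <;> simp [e, e']
    rcases hvz with rfl | rfl
    · exact base
    · rcases base with e | e <;> simp [e]
  have hπ : ∀ u v : G, π u = π v → u = v ∨ u = -v := fun u v e => by
    rcases π_eq_iff.1 e.symm with e' | e'
    · exact Or.inl e'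
    · exact Or.inr e'
  have hanti : QPair i i2 := by
    refine ⟨hisq, hi2sq, ?_⟩
    rcases hQfacts i2 hi2P i hiP with e | e
    · exfalso
      -- commuting elements of square `-1` agree up to sign
      have hc : i2 ∈ cent i := mem_cent.2 (mul_inv_eq_iff_eq_mul.1 e).symm
      have e1 : (i * i2) * (i * i2) = 1 := by
        rw [show i * i2 * (i * i2) = i * (i2 * i) * i2 by group, mul_inv_eq_iff_eq_mul.1 e,
          show i * (i * i2) * i2 = (i * i) * (i2 * i2) by group, hisq, hi2sq]; simp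
      rcases eq_one_or_of_sq h2 e1 with e' | e'
      · exact hmove.2 (by rw [eq_inv_of_mul_eq_one_right e', inv_of_sq hisq])
      · refine hmove.1 ?_
        rw [← inv_mul_cancel_left i i2, e', inv_of_sq hisq]; simp
    · rw [mul_inv_eq_iff_eq_mul] at e
      rw [e, neg_mul]
  have hS4 : Nat.card ((P : Subgroup G).map π) ≤ 4 := by
    rw [← SetLike.coe_sort_coe, Nat.card_coe_set_eq]
    refine le_trans (Set.ncard_le_ncard (t := {1, π i₀, π j₀, π (i₀ * j₀)}) (fun y hy => ?_) (Set.toFinite _)) ?_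
    · obtain ⟨x, hx, rfl⟩ := hy
      obtain ⟨z, hz, hxz⟩ := hp₀.mem_Q_cases h2 (hQ.symm ▸ hx : x ∈ hp₀.Q)
      have e : π x = π z := by rcases hxz with rfl | rfl <;> simp [π_neg]
      rw [e]
      simp only [Set.mem_insert_iff, Set.mem_singleton_iff] at hz ⊢
      rcases hz with rfl | rfl | rfl | rfl <;> simp
    · refine le_trans (Set.ncard_insert_le _ _) (Nat.succ_le_succ ?_)
      refine le_trans (Set.ncard_insert_le _ _) (Nat.succ_le_succ ?_)
      refine le_trans (Set.ncard_insert_le _ _) (Nat.succ_le_succ ?_)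
      simp
  have hsqπ : ∀ y ∈ (P : Subgroup G).map π, y * y = 1 := by
    rintro _ ⟨x, hx, rfl⟩
    obtain ⟨z, hz, hxz⟩ := hp₀.mem_Q_cases h2 (hQ.symm ▸ hx : x ∈ hp₀.Q)
    rw [← map_mul]
    refine π_eq_one.2 ((scal_iff _).2 ?_)
    simp only [Set.mem_insert_iff, Set.mem_singleton_iff] at hz
    rcases hxz with rfl | rfl <;> rcases hz with rfl | rfl | rfl | rfl <;>
      simp [hp₀.isq, hp₀.jsq, hp₀.ksq]
  have hne1 : ∀ u : G, u * u = -1 → π u ≠ 1 := fun u hu e => by
    rcases (scal_iff _).1 (π_eq_one.1 e) with e' | e' <;> rw [e'] at hu <;>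
      exact neg_ne_self h2 (1 : G) (by simpa using hu.symm)
  set i3 := t * i2 * t⁻¹ with hi3
  have hi3sq : i3 * i3 = -1 := by
    rw [hi3, show t * i2 * t⁻¹ * (t * i2 * t⁻¹) = t * (i2 * i2) * t⁻¹ by group, hi2sq]; simp
  have hneq12 : π i ≠ π i2 := fun e => by
    rcases hπ _ _ e with e' | e'
    · exact hmove.1 e'.symm
    · exact hmove.2 (by rw [e', neg_neg])
  have h31 : π i3 ≠ π i := fun e => hneq12 (by
    have : t * i3 * t⁻¹ = i := by
      rw [hi3, hi2, show t * (t * (t * i * t⁻¹) * t⁻¹) * t⁻¹ = t * t * t * i * (t * t * t)⁻¹ by group, ht3]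
      simp
    calc π i = π (t * i3 * t⁻¹) := by rw [this]
      _ = π t * π i * (π t)⁻¹ := by rw [π_conj, e]
      _ = π i2 := by rw [hi2, π_conj])
  have h32 : π i3 ≠ π i2 := fun e => hneq12 (by
    have : π t * π i2 * (π t)⁻¹ = π t * π i * (π t)⁻¹ := by
      rw [← π_conj, ← π_conj, ← hi3, ← hi2]; exact e
    exact (mul_left_cancel (mul_right_cancel this)).symm)
  have hthird : π i3 = π i * π i2 := by
    rcases klein_cover hS4 hsqπ (Subgroup.mem_map_of_mem π hiP) (Subgroup.mem_map_of_mem π hi2P)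
      (hne1 _ hisq) (hne1 _ hi2sq) hneq12 (Subgroup.mem_map_of_mem π (htN i2 hi2P)) with e | e | e | e
    · exact absurd e (hne1 _ hi3sq)
    · exact absurd e h31
    · exact absurd e h32
    · exact e
  have haxis : ∀ x ∈ (P : Subgroup G), x * x = -1 →
      (x = i ∨ x = -i) ∨ (x = i2 ∨ x = -i2) ∨ (x = i3 ∨ x = -i3) := by
    intro x hx hx2
    rcases klein_cover hS4 hsqπ (Subgroup.mem_map_of_mem π hiP) (Subgroup.mem_map_of_mem π hi2P)
      (hne1 _ hisq) (hne1 _ hi2sq) hneq12 (Subgroup.mem_map_of_mem π hx) with e | e | e | e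
    · exact absurd e (hne1 _ hx2)
    · exact Or.inl (hπ _ _ e)
    · exact Or.inr (Or.inl (hπ _ _ e))
    · exact Or.inr (Or.inr (hπ _ _ (e.trans hthird.symm)))
  -- an element of `A` with non-square determinant
  obtain ⟨ε, hεA, hε⟩ : ∃ ε ∈ (A : Subgroup GL2), ¬ ∃ c : F, ε.val.det = c * c := by
    obtain ⟨c₀, hc₀⟩ : ∃ c : F, ¬ IsSquare c := FiniteField.exists_nonsquare (by
      intro h
      haveI : CharP F 2 := ringChar.of_eq h
      exact h2 CharTwo.two_eq_zero)
    have hc00 : c₀ ≠ 0 := fun e => hc₀ (e ▸ IsSquare.zero)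
    set u : Fˣ := (Units.mk0 c₀ hc00) ^ m with hu
    let D : GL2 := ⟨!![(u : F), 0; 0, 1], !![((u⁻¹ : Fˣ) : F), 0; 0, 1],
      by simp [Matrix.one_fin_two], by simp [Matrix.one_fin_two]⟩
    have hDp : IsPGroup 2 (Subgroup.zpowers D) := by
      have hD : ∀ k : ℕ, (D ^ k).val = !![((u ^ k : Fˣ) : F), 0; 0, 1] := by
        intro k
        induction k with
        | zero => simp [Matrix.one_fin_two]
        | succ k ih => rw [pow_succ, Units.val_mul, ih]; simp [D, pow_succ]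
      rintro ⟨y, j, rfl⟩
      refine ⟨a0, Subtype.ext ?_⟩
      show (D ^ j) ^ 2 ^ a0 = 1
      rw [← zpow_natCast, ← _root_.zpow_mul, mul_comm, _root_.zpow_mul, zpow_natCast]
      rw [show D ^ 2 ^ a0 = 1 from Units.ext (by rw [hD, hu, h2el]; simp [Matrix.one_fin_two]), _root_.one_zpow]
    obtain ⟨A', hA'⟩ := hDp.exists_le_sylow
    obtain ⟨y, hy⟩ := MulAction.exists_smul_eq GL2 A A'
    have hD' : D ∈ ((y • A : Sylow 2 GL2) : Subgroup GL2) := hy ▸ hA' (Subgroup.mem_zpowers D)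
    rw [Sylow.coe_subgroup_smul, Subgroup.mem_pointwise_smul_iff_inv_smul_mem] at hD'
    refine ⟨_, hD', fun ⟨c, hc⟩ => ?_⟩
    have hdetD : (y⁻¹ * D * y).val.det = (u : F) := by
      rw [Units.val_mul, Units.val_mul, det_mul, det_mul, mul_right_comm, ← det_mul, ← Units.val_mul,
        inv_mul_cancel, Units.val_one, det_one, one_mul]
      simp [D]
    have hc' : (y⁻¹ * D * y).val.det = c * c := by simpa [MulAut.smul_def] using hc
    rw [hdetD, hu, Units.val_pow_eq_pow_val, Units.val_mk0] at hc'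
    obtain ⟨j, hj⟩ := hm
    refine hc₀ ⟨c / c₀ ^ j, ?_⟩
    rw [hj] at hc'
    field_simp
    linear_combination hc'
  -- an element of the coset commuting with `t`
  obtain ⟨c₁, hc₁⟩ : ∃ c₁ : G, ι c₁ = ε⁻¹ * (ι t * ε * (ι t)⁻¹) := by
    refine ⟨⟨(ε⁻¹ * (ι t * ε * (ι t)⁻¹)).val, ?_⟩, Units.ext rfl⟩
    simp only [Units.val_mul, det_mul, ← map_inv, det_toGL, one_mul, mul_one]
    rw [← det_mul, Units.inv_mul, det_one]
  have hc₁P : c₁ ∈ (P : Subgroup G) := by
    rw [← hAT, hc₁]; exact mul_mem (inv_mem hεA) (htA _ hεA)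
  let σ : Equiv.Perm (P : Subgroup G) :=
    { toFun := fun y => ⟨c₁ * (t * y * t⁻¹), mul_mem hc₁P (htN y y.2)⟩
      invFun := fun y => ⟨t⁻¹ * (c₁⁻¹ * y) * t, by
        have h1 : c₁⁻¹ * (y : G) ∈ (P : Subgroup G) := mul_mem (inv_mem hc₁P) y.2
        have h2 := htN _ (htN _ h1)
        have e : t * (t * (c₁⁻¹ * y) * t⁻¹) * t⁻¹ = t⁻¹ * (c₁⁻¹ * y) * t := by
          have hti : t⁻¹ = t * t := inv_eq_of_mul_eq_one_right (by rw [← mul_assoc, ht3])
          calc t * (t * (c₁⁻¹ * y) * t⁻¹) * t⁻¹ = (t * t) * (c₁⁻¹ * y) * (t * t)⁻¹ := by group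
            _ = t⁻¹ * (c₁⁻¹ * y) * t := by rw [← hti, inv_inv]
        rwa [e] at h2⟩
      left_inv := fun y => Subtype.ext (by simp [mul_assoc])
      right_inv := fun y => Subtype.ext (by simp [mul_assoc]) }
  have hσ : ∀ y : (P : Subgroup G), ε * ι ((σ y : (P : Subgroup G)) : G) = ι t * (ε * ι y) * (ι t)⁻¹ := by
    intro y
    show ε * ι (c₁ * (t * y * t⁻¹)) = _
    rw [map_mul, hc₁, map_mul, map_mul, map_inv]; group
  obtain ⟨y0, hy0⟩ : ∃ y0, σ y0 = y0 := by
    haveI : Fact (Nat.Prime 3) := ⟨Nat.prime_three⟩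
    refine Equiv.Perm.exists_fixed_point_of_prime (p := 3) (n := 1) ?_ (σ := σ) ?_
    · rw [← Nat.card_eq_fintype_card, hP8]; norm_num
    · refine Equiv.ext fun y => Subtype.ext (toGL_inj (mul_left_cancel (a := ε) ?_))
      rw [pow_one, pow_succ, pow_two, Equiv.Perm.mul_apply, Equiv.Perm.mul_apply, hσ, hσ, hσ, Equiv.Perm.one_apply]
      have : ι t * ι t * ι t = 1 := by rw [← map_mul, ← map_mul, ht3, map_one]
      calc ι t * (ι t * (ι t * (ε * ι y) * (ι t)⁻¹) * (ι t)⁻¹) * (ι t)⁻¹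
          = (ι t * ι t * ι t) * (ε * ι y) * (ι t * ι t * ι t)⁻¹ := by group
        _ = _ := by rw [this]; simp
  set e := ε * ι (y0 : G) with he
  have heA : e ∈ (A : Subgroup GL2) := mul_mem hεA ((hAT _).2 y0.2)
  have hedet : ¬ ∃ c : F, e.val.det = c * c := by
    rwa [he, Units.val_mul, det_mul, det_toGL, mul_one]
  have hcom : ι t * e = e * ι t := by
    have := hσ y0
    rw [hy0] at this
    exact (mul_inv_eq_iff_eq_mul.1 this.symm)
  -- image of the axis
  obtain ⟨x, hxe⟩ : ∃ x : G, ι x = e * ι i * e⁻¹ := by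
    refine ⟨⟨(e * ι i * e⁻¹).val, ?_⟩, Units.ext rfl⟩
    rw [Units.val_mul, Units.val_mul, det_mul, det_mul, det_toGL, mul_one, ← det_mul, Units.mul_inv, det_one]
  have hxP : x ∈ (P : Subgroup G) := by
    rw [← hAT, hxe]; exact mul_mem (mul_mem heA ((hAT i).2 hiP)) (inv_mem heA)
  have hx2 : x * x = -1 := toGL_inj (by
    rw [map_mul, hxe, ← scal_toGL_neg,
      show e * ι i * e⁻¹ * (e * ι i * e⁻¹) = e * (ι i * ι i) * e⁻¹ by group, ← map_mul, hisq, ← scal_toGL_neg,
      ← scal_comm, mul_inv_cancel_right])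
  have finish : ∀ M : GL2, M.val.det = e.val.det → ι t * M = M * ι t →
      (M * ι i * M⁻¹ = ι i ∨ M * ι i * M⁻¹ = ι (-i)) → False := by
    intro M hMd hMc hMi
    refine hedet (hMd ▸ det_isSquare h2 hanti hMi ?_)
    have e2 : M * ι i2 * M⁻¹ = ι t * (M * ι i * M⁻¹) * (ι t)⁻¹ := by
      rw [hi2, map_mul, map_mul, map_inv]
      calc M * (ι t * ι i * (ι t)⁻¹) * M⁻¹ = (M * ι t) * ι i * (M * ι t)⁻¹ := by group
        _ = _ := by rw [← hMc]; group
    rcases hMi with h | h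
    · left; rw [e2, h, hi2, map_mul, map_mul, map_inv]
    · right
      rw [e2, h, ← map_inv, ← map_mul, ← map_mul, hi2]
      rw [mul_neg, neg_mul]
  have htd : ∀ k : ℕ, (((ι t) ^ k)⁻¹ * e).val.det = e.val.det := fun k => by
    rw [← map_pow, ← map_inv, Units.val_mul, det_mul, det_toGL, one_mul]
  have htc : ∀ k : ℕ, ι t * (((ι t) ^ k)⁻¹ * e) = ((ι t) ^ k)⁻¹ * e * ι t := fun k => by
    rw [← mul_assoc, ((Commute.self_pow (ι t) k).inv_right).eq, mul_assoc, hcom, ← mul_assoc]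
  rcases haxis x hxP hx2 with h | h | h
  · refine finish _ (htd 0) (htc 0) ?_
    rcases h with rfl | rfl
    · left; simpa using hxe.symm
    · right; simpa using hxe.symm
  · refine finish _ (htd 1) (htc 1) ?_
    have e' : ((ι t) ^ 1)⁻¹ * e * ι i * (((ι t) ^ 1)⁻¹ * e)⁻¹ = (ι t)⁻¹ * ι x * ι t := by rw [hxe]; group
    rcases h with rfl | rfl
    · left; rw [e', ← map_inv, ← map_mul, ← map_mul, hi2]; congr 1; group
    · right; rw [e', ← map_inv, ← map_mul, ← map_mul, hi2]; congr 1; simp [mul_assoc]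
  · refine finish _ (htd 2) (htc 2) ?_
    have e' : ((ι t) ^ 2)⁻¹ * e * ι i * (((ι t) ^ 2)⁻¹ * e)⁻¹ = (ι t * ι t)⁻¹ * ι x * (ι t * ι t) := by
      rw [hxe, pow_two]; simp only [_root_.mul_inv_rev, inv_inv, mul_assoc]
    rcases h with rfl | rfl
    · left; rw [e', ← map_mul, ← map_inv, ← map_mul, ← map_mul, hi3, hi2]; congr 1; group
    · right; rw [e', ← map_mul, ← map_inv, ← map_mul, ← map_mul, hi3, hi2]; congr 1; simp [mul_assoc]

end Cfsg.Agent.Pronormal
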