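import Cfsg.Agent.Lib.Pronormal.SylowStep

/-!
# The recursion for Sylow `2`-subgroups, relative to a unitary group
-/

set_option autoImplicit false
set_option linter.unusedSectionVars false

namespace Cfsg.Agent.Pronormal.Herm

open Matrix Cfsg.Agent.Pronormal

variable {F : Type*} [Field F] {α β : Type*} [Fintype α] [DecidableEq α] [Fintype β] [DecidableEq β]

variable (σ : F →+* F)

/-- The unitary group of the identity form. -/
def uni (α : Type*) [Fintype α] [DecidableEq α] : Subgroup (GL α F) where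
  carrier := {g | g.valᵀ * g.val.map σ = 1}
  one_mem' := by simp
  mul_mem' := by
    intro a b ha hb
    have ha' : a.valᵀ * a.val.map σ = 1 := ha
    have hb' : b.valᵀ * b.val.map σ = 1 := hb
    show (a * b).valᵀ * (a * b).val.map σ = 1
    rw [Units.val_mul, transpose_mul, Matrix.map_mul,
      show b.valᵀ * a.valᵀ * (a.val.map σ * b.val.map σ) = b.valᵀ * (a.valᵀ * a.val.map σ) * b.val.map σ by
        simp only [mul_assoc], ha', mul_one, hb']
  inv_mem' := by
    intro a ha
    have ha' : a.valᵀ * a.val.map σ = 1 := ha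
    show (a⁻¹).valᵀ * (a⁻¹).val.map σ = 1
    have e1 : a.val.map σ * (a⁻¹).val.map σ = 1 := by
      rw [← Matrix.map_mul, Units.mul_inv]; simp
    have e2 : (a⁻¹).valᵀ * a.valᵀ = 1 := by rw [← transpose_mul, Units.mul_inv, transpose_one]
    calc (a⁻¹).valᵀ * (a⁻¹).val.map σ
        = (a⁻¹).valᵀ * (a.valᵀ * a.val.map σ) * (a⁻¹).val.map σ := by rw [ha', mul_one]
      _ = ((a⁻¹).valᵀ * a.valᵀ) * (a.val.map σ * (a⁻¹).val.map σ) := by simp only [mul_assoc]
      _ = 1 := by rw [e1, e2, mul_one]

variable {σ}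

theorem mem_uni {g : GL α F} : g ∈ uni σ α ↔ g.valᵀ * g.val.map σ = 1 := Iff.rfl

theorem blockD_mem {a b : GL α F} : blockD (a, b) ∈ uni σ (α ⊕ α) ↔ a ∈ uni σ α ∧ b ∈ uni σ α := by
  rw [mem_uni, mem_uni, mem_uni, blockD_val, fromBlocks_transpose, fromBlocks_map, fromBlocks_multiply,
    ← fromBlocks_one, fromBlocks_inj]
  simp

theorem blockS_mem : (blockS : GL (α ⊕ α) F) ∈ uni σ (α ⊕ α) := by
  rw [mem_uni, blockS_val, fromBlocks_transpose, fromBlocks_map, fromBlocks_multiply, ← fromBlocks_one]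
  simp

theorem scal_mem_uni {c : Fˣ} [Nonempty α] : scal α c ∈ uni σ α ↔ (c : F) * σ c = 1 := by
  rw [mem_uni, scal_val]
  constructor
  · intro h
    obtain ⟨i⟩ := (inferInstance : Nonempty α)
    have e := congrFun (congrFun h i) i
    simpa [Matrix.mul_apply, Matrix.one_apply] using e
  · intro h
    ext i j
    rw [Matrix.mul_apply, Finset.sum_eq_single i]
    · by_cases hij : i = j
      · subst hij; simpa using h
      · simp [hij]
    · intro l _ hl; simp [hl]
    · simp

/-- A `2`-subgroup of the unitary group with the properties used in the recursion. -/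
structure Good (σ : F →+* F) (A : Subgroup (GL α F)) : Prop where
  le_uni : A ≤ uni σ α
  pgroup : IsPGroup 2 A
  scal_mem : ∀ c : Fˣ, scal α c ∈ uni σ α → (∃ k : ℕ, c ^ 2 ^ k = 1) → scal α c ∈ A
  norm : ∀ g ∈ uni σ α, (∀ a ∈ A, g * a * g⁻¹ ∈ A) → ∃ a ∈ A, ∃ c : Fˣ, g = a * scal α c
  commutant : ∀ M : Matrix α α F, (∀ a ∈ A, a.val.det = 1 → M * a.val = a.val * M) →
    ∃ c : F, M = c • 1

/-- The strong form: normalising the determinant-one part suffices. -/
structure Strong (σ : F →+* F) (A : Subgroup (GL α F)) : Prop extends Good σ A where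
  norm_one : ∀ g ∈ uni σ α, (∀ a ∈ A, a.val.det = 1 → g * a * g⁻¹ ∈ A) →
    ∃ a ∈ A, ∃ c : Fˣ, g = a * scal α c

variable [Finite F]

/-- The recursion step. -/
theorem strong_wr {A : Subgroup (GL α F)} (hA : Good σ A) (h2 : (2 : F) ≠ 0) (hev : Even (Fintype.card α))
    (hne : 0 < Fintype.card α) : Strong σ (wr A) := by
  classical
  haveI : Nonempty α := Fintype.card_pos_iff.1 hne
  haveI : Finite (GL α F) := inferInstance
  set n1 : GL α F := scal α (-1) with hn1
  have hn1A : n1 ∈ A := hA.scal_mem (-1) (scal_mem_uni.2 (by simp)) ⟨1, by simp⟩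
  have hn1v : n1.val = -1 := by rw [hn1, scal_val]; simp
  have hdet : n1.val.det = 1 := by rw [hn1v, det_neg, det_one, hev.neg_one_pow, mul_one]
  have hM0 : ∀ M : Matrix α α F, M = -M → M = 0 := fun M h => by
    ext i j
    have := congrFun (congrFun h i) j
    simp only [Matrix.neg_apply, Matrix.zero_apply] at this ⊢
    exact (mul_eq_zero.1 (show (2 : F) * M i j = 0 by linear_combination this)).resolve_left h2
  have hcomm : ∀ M : Matrix (α ⊕ α) (α ⊕ α) F,
      (∀ a ∈ wr A, a.val.det = 1 → M * a.val = a.val * M) → ∃ c : F, M = c • 1 := by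
    intro M hM
    have hL : ∀ a ∈ A, a.val.det = 1 →
        M.toBlocks₁₁ * a.val = a.val * M.toBlocks₁₁ ∧ M.toBlocks₁₂ = a.val * M.toBlocks₁₂ ∧
          M.toBlocks₂₁ * a.val = M.toBlocks₂₁ := by
      intro a ha had
      have := hM _ (D_mem_wr ha (one_mem A)) (by rw [det_blockD, had, Units.val_one, det_one, one_mul])
      rw [blockD_val, ← fromBlocks_toBlocks M, fromBlocks_multiply, fromBlocks_multiply] at this
      obtain ⟨e1, e2, e3, -⟩ := fromBlocks_inj.1 this
      exact ⟨by simpa using e1, by simpa using e2, by simpa using e3⟩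
    have hR : ∀ a ∈ A, a.val.det = 1 → M.toBlocks₂₂ * a.val = a.val * M.toBlocks₂₂ := by
      intro a ha had
      have := hM _ (D_mem_wr (one_mem A) ha) (by rw [det_blockD, had, Units.val_one, det_one, one_mul])
      rw [blockD_val, ← fromBlocks_toBlocks M, fromBlocks_multiply, fromBlocks_multiply] at this
      simpa using (fromBlocks_inj.1 this).2.2.2
    obtain ⟨x, hx⟩ := hA.commutant _ fun a ha had => (hL a ha had).1
    obtain ⟨y, hy⟩ := hA.commutant _ hR
    have hY : M.toBlocks₁₂ = 0 := hM0 _ (by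
      have := (hL n1 hn1A hdet).2.1
      rwa [hn1v, Matrix.neg_mul, one_mul] at this)
    have hZ : M.toBlocks₂₁ = 0 := hM0 _ (by
      have := (hL n1 hn1A hdet).2.2
      rw [hn1v, Matrix.mul_neg, mul_one] at this
      exact this.symm)
    have hxy : x • (1 : Matrix α α F) = y • 1 := by
      have := hM _ S_mem_wr (det_blockS hev)
      rw [blockS_val, ← fromBlocks_toBlocks M, fromBlocks_multiply, fromBlocks_multiply] at this
      have e := (fromBlocks_inj.1 this).2.1
      rw [hx, hy] at e
      simpa using e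
    refine ⟨x, ?_⟩
    conv_lhs => rw [← fromBlocks_toBlocks M, hx, hy, hY, hZ, ← hxy]
    rw [← fromBlocks_one, fromBlocks_smul]
    simp
  set z : GL (α ⊕ α) F := blockD (1, n1) with hz
  have hzv : z.val = fromBlocks 1 0 0 (-1) := by rw [hz, blockD_val, hn1v]; rfl
  have hzB : z ∈ wr A := D_mem_wr (one_mem A) hn1A
  have hz1 : z.val.det = 1 := by rw [hz, det_blockD, hdet, Units.val_one, det_one, one_mul]
  have hzcomm : ∀ y ∈ wr A, z.val * y.val = y.val * z.val ∨ z.val * y.val = -(y.val * z.val) := by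
    rintro _ ⟨a, -, b, -, rfl | rfl⟩
    · left; simp [hzv, blockD_val, fromBlocks_multiply]
    · right; simp [hzv, blockD_val, blockS_val, fromBlocks_multiply, fromBlocks_neg]
  have hle : wr A ≤ uni σ (α ⊕ α) := by
    rintro _ ⟨a, ha, b, hb, rfl | rfl⟩
    · exact blockD_mem.2 ⟨hA.le_uni ha, hA.le_uni hb⟩
    · exact mul_mem (blockD_mem.2 ⟨hA.le_uni ha, hA.le_uni hb⟩) blockS_mem
  have hnorm : ∀ g ∈ uni σ (α ⊕ α), (∀ a ∈ wr A, a.val.det = 1 → g * a * g⁻¹ ∈ wr A) →
      ∃ a ∈ wr A, ∃ c : Fˣ, g = a * scal (α ⊕ α) c := by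
    intro g hgU hg
    have hdetB : ∀ g' : GL (α ⊕ α) F, ∀ a : GL (α ⊕ α) F, (g' * a * g'⁻¹).val.det = a.val.det := by
      intro g' a
      rw [Units.val_mul, Units.val_mul, det_mul, det_mul, mul_right_comm, ← det_mul, ← Units.val_mul,
        mul_inv_cancel, Units.val_one, det_one, one_mul]
    have hginv : ∀ y ∈ wr A, y.val.det = 1 → g⁻¹ * y * g ∈ wr A := by
      intro y hy hyd
      let f : {a : GL (α ⊕ α) F // a ∈ wr A ∧ a.val.det = 1} →
          {a : GL (α ⊕ α) F // a ∈ wr A ∧ a.val.det = 1} :=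
        fun a => ⟨g * a.1 * g⁻¹, hg a.1 a.2.1 a.2.2, by rw [hdetB]; exact a.2.2⟩
      have hf : Function.Injective f := fun a a' h => Subtype.ext (by simpa [f] using h)
      obtain ⟨⟨a, ha, had⟩, he⟩ := (Finite.injective_iff_surjective.1 hf) ⟨y, hy, hyd⟩
      have he' : g * a * g⁻¹ = y := congrArg Subtype.val he
      rw [← he']; simpa [mul_assoc] using ha
    set x := g * z * g⁻¹ with hx
    have hxB : x ∈ wr A := hg z hzB hz1
    have hxcomm : ∀ y ∈ wr A, y.val.det = 1 → x.val * y.val = y.val * x.val ∨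
        x.val * y.val = -(y.val * x.val) := by
      intro y hy hyd
      have e1 : x.val * y.val = g.val * (z.val * (g⁻¹ * y * g).val) * g⁻¹.val := by
        simp only [hx, Units.val_mul, mul_assoc, Units.mul_inv, mul_one]
      have e2 : y.val * x.val = g.val * ((g⁻¹ * y * g).val * z.val) * g⁻¹.val := by
        simp only [hx, Units.val_mul, mul_assoc, Units.mul_inv_cancel_left]
      rcases hzcomm _ (hginv y hy hyd) with e | e
      · left; rw [e1, e2, e]
      · right; rw [e1, e2, e, Matrix.mul_neg, Matrix.neg_mul]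
    have hnontriv : ∃ u ∈ A, u.val.det = 1 ∧ u.val ≠ 1 ∧ u.val ≠ -1 := by
      by_contra hcon
      push Not at hcon
      obtain ⟨i⟩ := (inferInstance : Nonempty α)
      obtain ⟨j, hj⟩ : ∃ j : α, j ≠ i := Fintype.exists_ne_of_one_lt_card (by
        obtain ⟨r, hr⟩ := hev; omega) i
      obtain ⟨c, hc⟩ := hA.commutant (Matrix.single i i 1) fun u hu hud => by
        by_cases h1 : u.val = 1
        · rw [h1, one_mul, mul_one]
        · rw [hcon u hu hud h1, Matrix.mul_neg, Matrix.neg_mul, mul_one, one_mul]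
      have e1 := congrFun (congrFun hc i) i
      have e2 := congrFun (congrFun hc j) j
      simp [hj, Ne.symm hj] at e1 e2
      exact one_ne_zero (e1.trans e2.symm)
    obtain ⟨a, ha, b, hb, hxe | hxe⟩ := hxB
    swap
    · exfalso
      obtain ⟨u, hu, hud, hu1, hu2⟩ := hnontriv
      have := hxcomm _ (D_mem_wr hu (one_mem A)) (by rw [det_blockD, hud, Units.val_one, det_one, one_mul])
      rw [hxe, Units.val_mul, blockD_val, blockD_val, blockS_val, fromBlocks_multiply, fromBlocks_multiply,
        fromBlocks_multiply, fromBlocks_neg] at this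
      rcases this with e | e
      · have e' := (fromBlocks_inj.1 e).2.1
        simp at e'
        exact hu1 (by
          have := congrArg (fun M : Matrix α α F => M * (a⁻¹).val) e'
          simpa [mul_assoc] using this.symm)
      · have e' := (fromBlocks_inj.1 e).2.1
        simp at e'
        exact hu2 (by
          have := congrArg (fun M : Matrix α α F => -(M * (a⁻¹).val)) e'
          simpa [mul_assoc] using this.symm)
    have habs : ∀ (a b : GL α F), (∀ y ∈ A, y.val.det = 1 →
        (blockD (a, b)).val * (blockD (y, (1 : GL α F))).val = (blockD (y, (1 : GL α F))).val * (blockD (a, b)).val ∨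
        (blockD (a, b)).val * (blockD (y, (1 : GL α F))).val = -((blockD (y, (1 : GL α F))).val * (blockD (a, b)).val)) →
        ∃ c : F, a.val = c • 1 := by
      intro a b h
      refine hA.commutant _ fun y hy hyd => ?_
      have := h y hy hyd
      rw [blockD_val, blockD_val, fromBlocks_multiply, fromBlocks_multiply, fromBlocks_neg] at this
      rcases this with e | e
      · simpa using (fromBlocks_inj.1 e).1
      · have := (fromBlocks_inj.1 e).2.2.2
        simp at this
        exact absurd (hM0 _ this) b.ne_zero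
    obtain ⟨ca, hca⟩ := habs a b fun y hy hyd => by
      have := hxcomm _ (D_mem_wr hy (one_mem A)) (by rw [det_blockD, hyd, Units.val_one, det_one, one_mul])
      rwa [hxe] at this
    obtain ⟨cb, hcb⟩ := habs b a fun y hy hyd => by
      have := hxcomm _ (D_mem_wr (one_mem A) hy) (by rw [det_blockD, hyd, Units.val_one, det_one, one_mul])
      rw [hxe] at this
      have e3 : ∀ p r : GL α F, (blockD (p, r)).val = blockS.val * (blockD (r, p)).val * blockS.val := by
        intro p r
        simp [blockS_val, blockD_val, fromBlocks_multiply]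
      have e4 : ∀ P Q : Matrix (α ⊕ α) (α ⊕ α) F,
          (blockS.val * P * blockS.val) * (blockS.val * Q * blockS.val) = blockS.val * (P * Q) * blockS.val := by
        intro P Q
        have : (blockS : GL (α ⊕ α) F).val * blockS.val = 1 := by rw [← Units.val_mul, blockS_sq]; rfl
        calc _ = blockS.val * P * (blockS.val * blockS.val) * (Q * blockS.val) := by simp only [mul_assoc]
          _ = _ := by rw [this]; simp only [mul_assoc, one_mul, mul_one]
      rw [e3 b a, e3 y 1, e4, e4]
      rcases this with e | e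
      · left; rw [e]
      · right; rw [e, Matrix.mul_neg, Matrix.neg_mul]
    have hσ := hxcomm _ S_mem_wr (det_blockS hev)
    rw [hxe, blockD_val, blockS_val, hca, hcb, fromBlocks_multiply, fromBlocks_multiply, fromBlocks_neg] at hσ
    have hzne : ∀ c : F, z.val ≠ c • 1 := by
      intro c hc
      rw [hzv, ← fromBlocks_one, fromBlocks_smul] at hc
      obtain ⟨e1, -, -, e4⟩ := fromBlocks_inj.1 hc
      obtain ⟨i⟩ := (inferInstance : Nonempty α)
      have f1 := congrFun (congrFun e1 i) i
      have f4 := congrFun (congrFun e4 i) i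
      simp at f1 f4
      exact h2 (by linear_combination f1 - f4)
    rcases hσ with e | e
    · exfalso
      have e' := (fromBlocks_inj.1 e).2.1
      simp at e'
      refine hzne ca ?_
      have hxv : x.val = ca • 1 := by
        rw [hxe, blockD_val, hca, hcb, ← e', ← fromBlocks_one, fromBlocks_smul]; simp
      calc z.val = g⁻¹.val * x.val * g.val := by
            rw [← Units.val_mul, ← Units.val_mul, hx]; congr 1; group
        _ = ca • 1 := by rw [hxv]; simp
    have e' := (fromBlocks_inj.1 e).2.1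
    simp at e'
    obtain ⟨i⟩ := (inferInstance : Nonempty α)
    have hcb' : cb = -ca := by
      have := congrFun (congrFun e' i) i
      simp at this
      linear_combination this
    have hxv : x.val = fromBlocks (ca • 1) 0 0 ((-ca) • 1) := by rw [hxe, blockD_val, hca, hcb, hcb']
    have hsq : ca * ca = 1 := by
      have hzz : z * z = 1 := Units.ext (by simp [hzv, fromBlocks_multiply, fromBlocks_one])
      have : x * x = 1 := by
        rw [hx, show g * z * g⁻¹ * (g * z * g⁻¹) = g * (z * z) * g⁻¹ by group, hzz]; simp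
      have := congrArg Units.val this
      rw [Units.val_mul, hxv, fromBlocks_multiply, Units.val_one, ← fromBlocks_one] at this
      have f := congrFun (congrFun (fromBlocks_inj.1 this).1 i) i
      simpa using f
    -- reduce to the case where `g` commutes with `z`
    obtain ⟨e₀, he₀, hg0⟩ : ∃ e₀ ∈ wr A, (e₀ * g).val * z.val = z.val * (e₀ * g).val := by
      have hgz : g.val * z.val = x.val * g.val := by
        simp only [hx, Units.val_mul, mul_assoc, Units.inv_mul, mul_one]
      rcases mul_self_eq_one_iff.1 hsq with h | h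
      · refine ⟨1, one_mem _, ?_⟩
        rw [one_mul, hgz, hxv, hzv, h]; simp
      · refine ⟨blockS, S_mem_wr, ?_⟩
        rw [Units.val_mul, mul_assoc, hgz, hxv, hzv, h, blockS_val, ← mul_assoc, ← mul_assoc]
        congr 1
        simp [fromBlocks_multiply]
    set g' := e₀ * g with hg'
    have hdia : g'.val.toBlocks₁₂ = 0 ∧ g'.val.toBlocks₂₁ = 0 := by
      rw [hzv, ← fromBlocks_toBlocks g'.val, fromBlocks_multiply, fromBlocks_multiply] at hg0
      obtain ⟨-, f2, f3, -⟩ := fromBlocks_inj.1 hg0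
      simp at f2 f3
      exact ⟨hM0 _ f2.symm, hM0 _ f3⟩
    have hg'e : g'.val = fromBlocks g'.val.toBlocks₁₁ 0 0 g'.val.toBlocks₂₂ := by
      conv_lhs => rw [← fromBlocks_toBlocks g'.val, hdia.1, hdia.2]
    have hdet' : g'.val.det ≠ 0 := fun h => by
      have := congrArg Matrix.det (Units.mul_inv g')
      rw [det_mul, h, zero_mul, det_one] at this
      exact zero_ne_one this
    rw [hg'e, det_fromBlocks_zero₁₂] at hdet'
    obtain ⟨u₁, hu₁⟩ : IsUnit g'.val.toBlocks₁₁ :=
      (Matrix.isUnit_iff_isUnit_det _).2 (Ne.isUnit (left_ne_zero_of_mul hdet'))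
    obtain ⟨u₂, hu₂⟩ : IsUnit g'.val.toBlocks₂₂ :=
      (Matrix.isUnit_iff_isUnit_det _).2 (Ne.isUnit (right_ne_zero_of_mul hdet'))
    have hg'D : g' = blockD (u₁, u₂) := Units.ext (by rw [blockD_val, hu₁, hu₂]; exact hg'e)
    have hg'N : ∀ y ∈ wr A, y.val.det = 1 → g' * y * g'⁻¹ ∈ wr A := by
      intro y hy hyd
      rw [hg', show e₀ * g * y * (e₀ * g)⁻¹ = e₀ * (g * y * g⁻¹) * e₀⁻¹ by group]
      exact mul_mem (mul_mem he₀ (hg y hy hyd)) (inv_mem he₀)
    have hunorm : (∀ c ∈ A, u₁ * c * u₁⁻¹ ∈ A) ∧ (∀ c ∈ A, u₂ * c * u₂⁻¹ ∈ A) := by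
      have key : ∀ c ∈ A, ∀ d ∈ A, c.val.det * d.val.det = 1 →
          u₁ * c * u₁⁻¹ ∈ A ∧ u₂ * d * u₂⁻¹ ∈ A := by
        intro c hc d hd hdd
        have := hg'N _ (D_mem_wr hc hd) (by rw [det_blockD, hdd])
        rw [hg'D, ← map_inv, ← map_mul, ← map_mul] at this
        exact mem_of_D_mem_wr this
      have hdd : ∀ c : GL α F, c.val.det * (c⁻¹).val.det = 1 := fun c => by
        rw [← det_mul, Units.mul_inv, det_one]
      exact ⟨fun c hc => (key c hc _ (inv_mem hc) (hdd c)).1,
        fun c hc => (key _ (inv_mem hc) c hc (by rw [mul_comm]; exact hdd c)).2⟩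
    have huU : u₁ ∈ uni σ α ∧ u₂ ∈ uni σ α := blockD_mem.1 (hg'D ▸ mul_mem (hle he₀) hgU)
    obtain ⟨a₁, ha₁, c₁, rfl⟩ := hA.norm u₁ huU.1 hunorm.1
    obtain ⟨a₂, ha₂, c₂, rfl⟩ := hA.norm u₂ huU.2 hunorm.2
    have hcc : scal α (c₁ * c₂⁻¹) ∈ A := by
      have h1 : blockD (a₁ * scal α c₁, a₂ * scal α c₂) * blockS *
          (blockD (a₁ * scal α c₁, a₂ * scal α c₂))⁻¹ ∈ wr A := by
        rw [← hg'D]; exact hg'N _ S_mem_wr (det_blockS hev)
      rw [← map_inv, mul_assoc, Prod.inv_mk, blockS_D, ← mul_assoc, ← map_mul] at h1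
      have h2 := mul_mem h1 (inv_mem (S_mem_wr (A := A)))
      rw [mul_inv_cancel_right] at h2
      have h3 := (mem_of_D_mem_wr h2).1
      change a₁ * scal α c₁ * (a₂ * scal α c₂)⁻¹ ∈ A at h3
      have e : a₁ * scal α c₁ * (a₂ * scal α c₂)⁻¹ = a₁ * a₂⁻¹ * scal α (c₁ * c₂⁻¹) := by
        rw [_root_.mul_inv_rev, ← map_inv, mul_assoc, ← mul_assoc (scal α c₁), ← map_mul, scal_comm, mul_assoc]
      rw [e] at h3
      exact (Subgroup.mul_mem_cancel_left A (mul_mem ha₁ (inv_mem ha₂))).1 h3
    refine ⟨e₀⁻¹ * blockD (a₁ * scal α (c₁ * c₂⁻¹), a₂),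
      mul_mem (inv_mem he₀) (D_mem_wr (mul_mem ha₁ hcc) ha₂), c₂, ?_⟩
    rw [mul_assoc, eq_inv_mul_iff_mul_eq, ← hg', hg'D, ← blockD_scal, ← map_mul]
    congr 1
    refine Prod.ext ?_ rfl
    show a₁ * scal α c₁ = a₁ * scal α (c₁ * c₂⁻¹) * scal α c₂
    rw [mul_assoc, ← map_mul, inv_mul_cancel_right]
  exact {
    le_uni := hle
    pgroup := isPGroup_wr hA.pgroup
    scal_mem := fun c hcU hc => by
      rw [← blockD_scal] at hcU ⊢
      exact D_mem_wr (hA.scal_mem c (blockD_mem.1 hcU).1 hc) (hA.scal_mem c (blockD_mem.1 hcU).1 hc)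
    norm := fun g hgU hg => hnorm g hgU fun a ha _ => hg a ha
    commutant := hcomm
    norm_one := hnorm }

theorem strong_congr (e : α ≃ β) {A : Subgroup (GL α F)} (hA : Strong σ A) :
    Strong σ (A.map (glCongr (F := F) e).toMonoidHom) := by
  set φ := glCongr (F := F) e
  have hu : ∀ g : GL α F, φ g ∈ uni σ β ↔ g ∈ uni σ α := fun g => by
    rw [mem_uni, mem_uni, glCongr_val, reindex_apply, transpose_submatrix, ← submatrix_map, submatrix_mul_equiv]
    constructor
    · intro h
      have := congrArg (fun M : Matrix β β F => M.submatrix e e) h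
      simpa [submatrix_submatrix] using this
    · intro h; rw [h]; simp
  have hm : ∀ y, y ∈ A.map φ.toMonoidHom ↔ φ.symm y ∈ A := fun y => by
    constructor
    · rintro ⟨a, ha, rfl⟩; simpa using ha
    · exact fun h => ⟨φ.symm y, h, by simp⟩
  have hd : ∀ y, (φ.symm y).val.det = y.val.det := fun y => by
    conv_rhs => rw [← φ.apply_symm_apply y, det_glCongr]
  have hn : ∀ g ∈ uni σ β, (∀ a ∈ A.map φ.toMonoidHom, a.val.det = 1 → g * a * g⁻¹ ∈ A.map φ.toMonoidHom) →
      ∃ a ∈ A.map φ.toMonoidHom, ∃ c : Fˣ, g = a * scal β c := by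
    intro g hgU hg
    obtain ⟨a, ha, c, hc⟩ := hA.norm_one (φ.symm g) ((hu _).1 (by simpa using hgU)) fun a ha had => by
      have := (hm _).1 (hg (φ a) ((hm _).2 (by simpa using ha)) (by rw [det_glCongr]; exact had))
      simpa using this
    refine ⟨φ a, (hm _).2 (by simpa using ha), c, ?_⟩
    rw [← glCongr_scal e, ← map_mul, ← hc, φ.apply_symm_apply]
  exact {
    le_uni := by rintro _ ⟨a, ha, rfl⟩; exact (hu a).2 (hA.le_uni ha)
    pgroup := hA.pgroup.map _
    scal_mem := fun c hcU hc => (hm _).2 (by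
      rw [← glCongr_scal e, φ.symm_apply_apply]
      exact hA.scal_mem c ((hu _).1 (by rw [glCongr_scal]; exact hcU)) hc)
    norm := fun g hgU hg => hn g hgU fun a ha _ => hg a ha
    commutant := fun M hM => by
      obtain ⟨c, hc⟩ := hA.commutant ((Matrix.reindexAlgEquiv F F e).symm M) fun a ha had => by
        have := hM (φ a) ((hm _).2 (by simpa using ha)) (by rw [det_glCongr]; exact had)
        apply (Matrix.reindexAlgEquiv F F e).injective
        rw [map_mul, map_mul, AlgEquiv.apply_symm_apply]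
        exact this
      refine ⟨c, ?_⟩
      have := congrArg (Matrix.reindexAlgEquiv F F e) hc
      rwa [AlgEquiv.apply_symm_apply, map_smul, map_one] at this
    norm_one := hn }

end Cfsg.Agent.Pronormal.Herm
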