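import Cfsg.Agent.Lib.Pronormal.SylowBase
import Cfsg.Agent.Lib.Pronormal.SylowStepHerm
import Cfsg.Agent.Lib.Invol.SylowGL2

/-!
# The base of the recursion for unitary groups of degree two
-/

set_option autoImplicit false
set_option linter.unusedSectionVars false

namespace Cfsg.Agent.Pronormal.Herm

open Matrix Cfsg.Agent.SL2 Cfsg.Agent.Pronormal

variable {F : Type*} [Field F] [Fintype F]

local notation "G" => Matrix.SpecialLinearGroup (Fin 2) F
local notation "M2" => Matrix (Fin 2) (Fin 2) F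
local notation "GL2" => GL (Fin 2) F
local notation "ι" => (Matrix.SpecialLinearGroup.toGL (n := Fin 2) (R := F))

/-- An element of `Γ` fixing two anticommuting elements up to sign has determinant the square of a
scalar of `Γ`. -/
theorem det_sq_in (h2 : (2 : F) ≠ 0) {i j : G} (hp : QPair i j) {Γ : Subgroup GL2} {M : GL2}
    (hMΓ : M ∈ Γ) (hiΓ : ι i ∈ Γ) (hjΓ : ι j ∈ Γ)
    (hi : M * ι i * M⁻¹ = ι i ∨ M * ι i * M⁻¹ = ι (-i))
    (hj : M * ι j * M⁻¹ = ι j ∨ M * ι j * M⁻¹ = ι (-j)) :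
    ∃ c : Fˣ, scal (Fin 2) c ∈ Γ ∧ M.val.det = (c : F) * c := by
  have key : ∀ y : G, ι y ∈ Γ → M * ι i * M⁻¹ = ι (y * i * y⁻¹) → M * ι j * M⁻¹ = ι (y * j * y⁻¹) →
      ∃ c : Fˣ, scal (Fin 2) c ∈ Γ ∧ M.val.det = (c : F) * c := by
    intro y hy ei ej
    have hc : ∀ u : G, M * ι u * M⁻¹ = ι (y * u * y⁻¹) →
        ((ι y)⁻¹ * M).val * (u : M2) = (u : M2) * ((ι y)⁻¹ * M).val := by
      intro u e
      have e' : ((ι y)⁻¹ * M) * ι u = ι u * ((ι y)⁻¹ * M) := by
        rw [map_mul, map_mul, map_inv] at e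
        calc (ι y)⁻¹ * M * ι u = (ι y)⁻¹ * (M * ι u * M⁻¹) * M := by group
          _ = ι u * ((ι y)⁻¹ * M) := by rw [e]; group
      exact congrArg Units.val e'
    obtain ⟨c, hc'⟩ := tr_half_scalar h2 hp (hc i ei) (hc j ej)
    have hc0 : c ≠ 0 := fun e => by
      rw [e, zero_smul] at hc'
      exact (((ι y)⁻¹ * M)).ne_zero hc'
    refine ⟨Units.mk0 c hc0, ?_, ?_⟩
    · rw [show scal (Fin 2) (Units.mk0 c hc0) = (ι y)⁻¹ * M from Units.ext (by rw [hc', scal_val]; rfl)]
      exact mul_mem (inv_mem hy) hMΓ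
    · have := congrArg Matrix.det hc'
      rw [Units.val_mul, det_mul, ← map_inv, det_toGL, one_mul, det_smul, det_one, Fintype.card_fin] at this
      rw [this, Units.val_mk0]; ring
  rcases hi with ei | ei <;> rcases hj with ej | ej
  · exact key 1 (by rw [map_one]; exact one_mem Γ) (by simpa using ei) (by simpa using ej)
  · exact key i hiΓ (by rw [ei]; congr 1; group) (by rw [ej, hp.conj_ij])
  · exact key j hjΓ (by rw [ei, hp.conj_ji]) (by rw [ej]; congr 1; group)
  · refine key (i * j) (by rw [map_mul]; exact mul_mem hiΓ hjΓ) ?_ ?_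
    · rw [ei]; congr 1
      rw [show i * j * i * (i * j)⁻¹ = i * (j * i * j⁻¹) * i⁻¹ by group, hp.conj_ji, mul_neg, neg_mul,
        mul_inv_cancel_right]
    · rw [ej]; congr 1
      rw [show i * j * j * (i * j)⁻¹ = i * j * i⁻¹ by group, hp.conj_ij]

set_option maxHeartbeats 1000000 in
/-- A quaternion Sylow intersection of order `8` admits no element of order `3` normalising the Sylow
subgroup, in the presence of a determinant which is not the square of a scalar. -/
theorem eight_contra (h2 : (2 : F) ≠ 0) {i₀ j₀ : G} (hp₀ : QPair i₀ j₀) {Γ A : Subgroup GL2}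
    (hAΓ : A ≤ Γ) (hAT : ∀ s : G, ι s ∈ A ↔ s ∈ hp₀.Q) {t : G} (htΓ : ι t ∈ Γ) (ht3 : t * t * t = 1)
    (htP : t ∉ hp₀.Q) (htA : ∀ a ∈ A, ι t * a * (ι t)⁻¹ ∈ A) {ε : GL2} (hεA : ε ∈ A)
    (hε : ¬ ∃ c : Fˣ, scal (Fin 2) c ∈ Γ ∧ ε.val.det = (c : F) * c) : False := by
  classical
  set T : Subgroup G := hp₀.Q with hT
  have hP8 : Nat.card T = 8 := hp₀.card_Q h2
  -- choose an axis moved by `t`
  have htN : ∀ y ∈ T, t * y * t⁻¹ ∈ T := fun y hy => by
    rw [← hAT, map_mul, map_mul, map_inv]; exact htA _ ((hAT y).2 hy)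
  obtain ⟨i, hiP, hisq, hmove⟩ : ∃ i ∈ T, i * i = -1 ∧ t * i * t⁻¹ ≠ i ∧ t * i * t⁻¹ ≠ -i := by
    by_contra hcon
    push Not at hcon
    refine htP ⟨?_, ?_⟩
    · by_cases e : t * i₀ * t⁻¹ = i₀
      · exact Or.inl e
      · exact Or.inr (hcon i₀ hp₀.i_mem hp₀.isq e)
    · by_cases e : t * j₀ * t⁻¹ = j₀
      · exact Or.inl e
      · exact Or.inr (hcon j₀ hp₀.j_mem hp₀.jsq e)
  set i2 := t * i * t⁻¹ with hi2
  have hi2P : i2 ∈ T := htN i hiP
  have hi2sq : i2 * i2 = -1 := by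
    rw [hi2, show t * i * t⁻¹ * (t * i * t⁻¹) = t * (i * i) * t⁻¹ by group, hisq]; simp
  -- signs inside the quaternion group
  have hQfacts : ∀ u ∈ T, ∀ v ∈ T, u * v * u⁻¹ = v ∨ u * v * u⁻¹ = -v := by
    intro u hu v hv
    obtain ⟨z, hz, hvz⟩ := hp₀.mem_Q_cases h2 hv
    have base : u * z * u⁻¹ = z ∨ u * z * u⁻¹ = -z := by
      simp only [Set.mem_insert_iff, Set.mem_singleton_iff] at hz
      rcases hz with rfl | rfl | rfl | rfl
      · left; simp
      · exact hu.1
      · exact hu.2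
      · rw [show u * (i₀ * j₀) * u⁻¹ = (u * i₀ * u⁻¹) * (u * j₀ * u⁻¹) by group]
        rcases hu.1 with e | e <;> rcases hu.2 with e' | e' <;> simp [e, e']
    rcases hvz with rfl | rfl
    · exact base
    · rcases base with e | e <;> simp [e]
  have hπ : ∀ u v : G, π u = π v → u = v ∨ u = -v := fun u v e => by
    rcases π_eq_iff.1 e.symm with e' | e'
    · exact Or.inl e'
    · exact Or.inr e'
  have hanti : QPair i i2 := by
    refine ⟨hisq, hi2sq, ?_⟩
    rcases hQfacts i2 hi2P i hiP with e | e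
    · exfalso
      -- commuting elements of square `-1` agree up to sign
      have hc : i2 ∈ cent i := mem_cent.2 (mul_inv_eq_iff_eq_mul.1 e).symm
      have e1 : (i * i2) * (i * i2) = 1 := by
        rw [show i * i2 * (i * i2) = i * (i2 * i) * i2 by group, mul_inv_eq_iff_eq_mul.1 e,
          show i * (i * i2) * i2 = (i * i) * (i2 * i2) by group, hisq, hi2sq]; simp
      rcases eq_one_or_of_sq h2 e1 with e' | e'
      · exact hmove.2 (by rw [eq_inv_of_mul_eq_one_right e', inv_of_sq hisq])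
      · refine hmove.1 ?_
        rw [← inv_mul_cancel_left i i2, e', inv_of_sq hisq]; simp
    · rw [mul_inv_eq_iff_eq_mul] at e
      rw [e, neg_mul]
  have hS4 : Nat.card (T.map π) ≤ 4 := by
    rw [← SetLike.coe_sort_coe, Nat.card_coe_set_eq]
    refine le_trans (Set.ncard_le_ncard (t := {1, π i₀, π j₀, π (i₀ * j₀)}) (fun y hy => ?_) (Set.toFinite _)) ?_
    · obtain ⟨x, hx, rfl⟩ := hy
      obtain ⟨z, hz, hxz⟩ := hp₀.mem_Q_cases h2 (hx : x ∈ hp₀.Q)
      have e : π x = π z := by rcases hxz with rfl | rfl <;> simp [π_neg]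
      rw [e]
      simp only [Set.mem_insert_iff, Set.mem_singleton_iff] at hz ⊢
      rcases hz with rfl | rfl | rfl | rfl <;> simp
    · refine le_trans (Set.ncard_insert_le _ _) (Nat.succ_le_succ ?_)
      refine le_trans (Set.ncard_insert_le _ _) (Nat.succ_le_succ ?_)
      refine le_trans (Set.ncard_insert_le _ _) (Nat.succ_le_succ ?_)
      simp
  have hsqπ : ∀ y ∈ T.map π, y * y = 1 := by
    rintro _ ⟨x, hx, rfl⟩
    obtain ⟨z, hz, hxz⟩ := hp₀.mem_Q_cases h2 (hx : x ∈ hp₀.Q)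
    rw [← map_mul]
    refine π_eq_one.2 ((scal_iff _).2 ?_)
    simp only [Set.mem_insert_iff, Set.mem_singleton_iff] at hz
    rcases hxz with rfl | rfl <;> rcases hz with rfl | rfl | rfl | rfl <;>
      simp [hp₀.isq, hp₀.jsq, hp₀.ksq]
  have hne1 : ∀ u : G, u * u = -1 → π u ≠ 1 := fun u hu e => by
    rcases (scal_iff _).1 (π_eq_one.1 e) with e' | e' <;> rw [e'] at hu <;>
      exact neg_ne_self h2 (1 : G) (by simpa using hu.symm)
  set i3 := t * i2 * t⁻¹ with hi3
  have hi3sq : i3 * i3 = -1 := by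
    rw [hi3, show t * i2 * t⁻¹ * (t * i2 * t⁻¹) = t * (i2 * i2) * t⁻¹ by group, hi2sq]; simp
  have hneq12 : π i ≠ π i2 := fun e => by
    rcases hπ _ _ e with e' | e'
    · exact hmove.1 e'.symm
    · exact hmove.2 (by rw [e', neg_neg])
  have h31 : π i3 ≠ π i := fun e => hneq12 (by
    have : t * i3 * t⁻¹ = i := by
      rw [hi3, hi2, show t * (t * (t * i * t⁻¹) * t⁻¹) * t⁻¹ = t * t * t * i * (t * t * t)⁻¹ by group, ht3]
      simp
    calc π i = π (t * i3 * t⁻¹) := by rw [this]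
      _ = π t * π i * (π t)⁻¹ := by rw [π_conj, e]
      _ = π i2 := by rw [hi2, π_conj])
  have h32 : π i3 ≠ π i2 := fun e => hneq12 (by
    have : π t * π i2 * (π t)⁻¹ = π t * π i * (π t)⁻¹ := by
      rw [← π_conj, ← π_conj, ← hi3, ← hi2]; exact e
    exact (mul_left_cancel (mul_right_cancel this)).symm)
  have hthird : π i3 = π i * π i2 := by
    rcases klein_cover hS4 hsqπ (Subgroup.mem_map_of_mem π hiP) (Subgroup.mem_map_of_mem π hi2P)
      (hne1 _ hisq) (hne1 _ hi2sq) hneq12 (Subgroup.mem_map_of_mem π (htN i2 hi2P)) with e | e | e | e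
    · exact absurd e (hne1 _ hi3sq)
    · exact absurd e h31
    · exact absurd e h32
    · exact e
  have haxis : ∀ x ∈ T, x * x = -1 →
      (x = i ∨ x = -i) ∨ (x = i2 ∨ x = -i2) ∨ (x = i3 ∨ x = -i3) := by
    intro x hx hx2
    rcases klein_cover hS4 hsqπ (Subgroup.mem_map_of_mem π hiP) (Subgroup.mem_map_of_mem π hi2P)
      (hne1 _ hisq) (hne1 _ hi2sq) hneq12 (Subgroup.mem_map_of_mem π hx) with e | e | e | e
    · exact absurd e (hne1 _ hx2)
    · exact Or.inl (hπ _ _ e)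
    · exact Or.inr (Or.inl (hπ _ _ e))
    · exact Or.inr (Or.inr (hπ _ _ (e.trans hthird.symm)))
  -- an element of the coset commuting with `t`
  obtain ⟨c₁, hc₁⟩ : ∃ c₁ : G, ι c₁ = ε⁻¹ * (ι t * ε * (ι t)⁻¹) := by
    refine ⟨⟨(ε⁻¹ * (ι t * ε * (ι t)⁻¹)).val, ?_⟩, Units.ext rfl⟩
    simp only [Units.val_mul, det_mul, ← map_inv, det_toGL, one_mul, mul_one]
    rw [← det_mul, Units.inv_mul, det_one]
  have hc₁P : c₁ ∈ T := by
    rw [← hAT, hc₁]; exact mul_mem (inv_mem hεA) (htA _ hεA)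
  let σ : Equiv.Perm T :=
    { toFun := fun y => ⟨c₁ * (t * y * t⁻¹), mul_mem hc₁P (htN y y.2)⟩
      invFun := fun y => ⟨t⁻¹ * (c₁⁻¹ * y) * t, by
        have h1 : c₁⁻¹ * (y : G) ∈ T := mul_mem (inv_mem hc₁P) y.2
        have h2 := htN _ (htN _ h1)
        have e : t * (t * (c₁⁻¹ * y) * t⁻¹) * t⁻¹ = t⁻¹ * (c₁⁻¹ * y) * t := by
          have hti : t⁻¹ = t * t := inv_eq_of_mul_eq_one_right (by rw [← mul_assoc, ht3])
          calc t * (t * (c₁⁻¹ * y) * t⁻¹) * t⁻¹ = (t * t) * (c₁⁻¹ * y) * (t * t)⁻¹ := by group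
            _ = t⁻¹ * (c₁⁻¹ * y) * t := by rw [← hti, inv_inv]
        rwa [e] at h2⟩
      left_inv := fun y => Subtype.ext (by simp [mul_assoc])
      right_inv := fun y => Subtype.ext (by simp [mul_assoc]) }
  have hσ : ∀ y : T, ε * ι ((σ y : T) : G) = ι t * (ε * ι y) * (ι t)⁻¹ := by
    intro y
    show ε * ι (c₁ * (t * y * t⁻¹)) = _
    rw [map_mul, hc₁, map_mul, map_mul, map_inv]; group
  obtain ⟨y0, hy0⟩ : ∃ y0, σ y0 = y0 := by
    haveI : Fact (Nat.Prime 3) := ⟨Nat.prime_three⟩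
    refine Equiv.Perm.exists_fixed_point_of_prime (p := 3) (n := 1) ?_ (σ := σ) ?_
    · rw [← Nat.card_eq_fintype_card, hP8]; norm_num
    · refine Equiv.ext fun y => Subtype.ext (toGL_inj (mul_left_cancel (a := ε) ?_))
      rw [pow_one, pow_succ, pow_two, Equiv.Perm.mul_apply, Equiv.Perm.mul_apply, hσ, hσ, hσ, Equiv.Perm.one_apply]
      have : ι t * ι t * ι t = 1 := by rw [← map_mul, ← map_mul, ht3, map_one]
      calc ι t * (ι t * (ι t * (ε * ι y) * (ι t)⁻¹) * (ι t)⁻¹) * (ι t)⁻¹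
          = (ι t * ι t * ι t) * (ε * ι y) * (ι t * ι t * ι t)⁻¹ := by group
        _ = _ := by rw [this]; simp
  set e := ε * ι (y0 : G) with he
  have heA : e ∈ (A : Subgroup GL2) := mul_mem hεA ((hAT _).2 y0.2)
  have hedet : ¬ ∃ c : Fˣ, scal (Fin 2) c ∈ Γ ∧ e.val.det = (c : F) * c := by
    rwa [he, Units.val_mul, det_mul, det_toGL, mul_one]
  have hcom : ι t * e = e * ι t := by
    have := hσ y0
    rw [hy0] at this
    exact (mul_inv_eq_iff_eq_mul.1 this.symm)
  -- image of the axis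
  obtain ⟨x, hxe⟩ : ∃ x : G, ι x = e * ι i * e⁻¹ := by
    refine ⟨⟨(e * ι i * e⁻¹).val, ?_⟩, Units.ext rfl⟩
    rw [Units.val_mul, Units.val_mul, det_mul, det_mul, det_toGL, mul_one, ← det_mul, Units.mul_inv, det_one]
  have hxP : x ∈ T := by
    rw [← hAT, hxe]; exact mul_mem (mul_mem heA ((hAT i).2 hiP)) (inv_mem heA)
  have hx2 : x * x = -1 := toGL_inj (by
    rw [map_mul, hxe, ← scal_toGL_neg,
      show e * ι i * e⁻¹ * (e * ι i * e⁻¹) = e * (ι i * ι i) * e⁻¹ by group, ← map_mul, hisq, ← scal_toGL_neg,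
      ← scal_comm, mul_inv_cancel_right])
  have finish : ∀ M : GL2, M ∈ Γ → M.val.det = e.val.det → ι t * M = M * ι t →
      (M * ι i * M⁻¹ = ι i ∨ M * ι i * M⁻¹ = ι (-i)) → False := by
    intro M hMΓ hMd hMc hMi
    refine hedet (hMd ▸ det_sq_in h2 hanti hMΓ (hAΓ ((hAT i).2 hiP)) (hAΓ ((hAT i2).2 hi2P)) hMi ?_)
    have e2 : M * ι i2 * M⁻¹ = ι t * (M * ι i * M⁻¹) * (ι t)⁻¹ := by
      rw [hi2, map_mul, map_mul, map_inv]
      calc M * (ι t * ι i * (ι t)⁻¹) * M⁻¹ = (M * ι t) * ι i * (M * ι t)⁻¹ := by group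
        _ = _ := by rw [← hMc]; group
    rcases hMi with h | h
    · left; rw [e2, h, hi2, map_mul, map_mul, map_inv]
    · right
      rw [e2, h, ← map_inv, ← map_mul, ← map_mul, hi2]
      rw [mul_neg, neg_mul]
  have htd : ∀ k : ℕ, (((ι t) ^ k)⁻¹ * e).val.det = e.val.det := fun k => by
    rw [← map_pow, ← map_inv, Units.val_mul, det_mul, det_toGL, one_mul]
  have htc : ∀ k : ℕ, ι t * (((ι t) ^ k)⁻¹ * e) = ((ι t) ^ k)⁻¹ * e * ι t := fun k => by
    rw [← mul_assoc, ((Commute.self_pow (ι t) k).inv_right).eq, mul_assoc, hcom, ← mul_assoc]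
  have hΓk : ∀ k : ℕ, ((ι t) ^ k)⁻¹ * e ∈ Γ := fun k => mul_mem (inv_mem (pow_mem htΓ k)) (hAΓ heA)
  rcases haxis x hxP hx2 with h | h | h
  · refine finish _ (hΓk 0) (htd 0) (htc 0) ?_
    rcases h with rfl | rfl
    · left; simpa using hxe.symm
    · right; simpa using hxe.symm
  · refine finish _ (hΓk 1) (htd 1) (htc 1) ?_
    have e' : ((ι t) ^ 1)⁻¹ * e * ι i * (((ι t) ^ 1)⁻¹ * e)⁻¹ = (ι t)⁻¹ * ι x * ι t := by rw [hxe]; group
    rcases h with rfl | rfl
    · left; rw [e', ← map_inv, ← map_mul, ← map_mul, hi2]; congr 1; group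
    · right; rw [e', ← map_inv, ← map_mul, ← map_mul, hi2]; congr 1; simp [mul_assoc]
  · refine finish _ (hΓk 2) (htd 2) (htc 2) ?_
    have e' : ((ι t) ^ 2)⁻¹ * e * ι i * (((ι t) ^ 2)⁻¹ * e)⁻¹ = (ι t * ι t)⁻¹ * ι x * (ι t * ι t) := by
      rw [hxe, pow_two]; simp only [_root_.mul_inv_rev, inv_inv, mul_assoc]
    rcases h with rfl | rfl
    · left; rw [e', ← map_mul, ← map_inv, ← map_mul, ← map_mul, hi3, hi2]; congr 1; group
    · right; rw [e', ← map_mul, ← map_inv, ← map_mul, ← map_mul, hi3, hi2]; congr 1; simp [mul_assoc]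


/-- A Sylow 2-subgroup of the unitary group of degree two has the properties of the recursion. -/
theorem exists_good_two_herm (σ : F →+* F) (q : ℕ) (hF : Fintype.card F = q ^ 2) (hq : Odd q)
    (hσ : ∀ x, σ x = x ^ q) : ∃ A : Subgroup GL2, Good σ A := by
  classical
  haveI : Fact (Nat.Prime 2) := ⟨Nat.prime_two⟩
  have hodd : Odd (Fintype.card F) := hF ▸ hq.pow
  have h2 := two_ne_zero' hodd
  have hq3 : 3 ≤ q := by
    rcases Nat.lt_or_ge q 3 with h | h
    · obtain ⟨k, rfl⟩ := hq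
      have : k = 0 := by omega
      subst this
      have := Fintype.one_lt_card (α := F)
      rw [hF] at this; norm_num at this
    · exact h
  have hgen : IsCyclic Fˣ := inferInstance
  have hFu : Nat.card Fˣ = q ^ 2 - 1 := by rw [Nat.card_units, Nat.card_eq_fintype_card, hF]
  have hordexists : ∀ d : ℕ, d ∣ q ^ 2 - 1 → ∃ c : Fˣ, orderOf c = d := fun d hd =>
    Cfsg.Agent.Invol.SylowGL2.exists_orderOf_eq d (hFu ▸ hd)
  have hdvd1 : q + 1 ∣ q ^ 2 - 1 := ⟨q - 1, by rw [← Nat.sq_sub_sq]⟩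
  -- a quaternion pair inside the unitary group
  have hmemU : ∀ s : G, ι s ∈ uni σ (Fin 2) ↔ (s : M2)ᵀ * (s : M2).map σ = 1 := fun s => Iff.rfl
  obtain ⟨i₀, j₀, hp₀, hi₀U, hj₀U⟩ : ∃ i j : G, QPair i j ∧ ι i ∈ uni σ (Fin 2) ∧ ι j ∈ uni σ (Fin 2) := by
    obtain ⟨c, hc⟩ := hordexists 4 (by
      obtain ⟨k, rfl⟩ := hq
      exact ⟨k * (k + 1), by ring_nf; omega⟩)
    have hcc : (c : F) * c = -1 := by
      have h4 : ((c : F) * c) * ((c : F) * c) = 1 := by
        have := congrArg (fun u : Fˣ => (u : F)) (pow_orderOf_eq_one c)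
        rw [hc] at this
        simp only [Units.val_pow_eq_pow_val, Units.val_one] at this
        linear_combination this
      rcases mul_self_eq_one_iff.1 h4 with e | e
      · exfalso
        have h' : c ^ 2 = 1 := Units.ext (by rw [Units.val_pow_eq_pow_val, pow_two]; exact e)
        have := orderOf_dvd_of_pow_eq_one h'
        rw [hc] at this
        norm_num at this
      · exact e
    let i : G := ⟨!![0, -1; 1, 0], by simp [Matrix.det_fin_two]⟩
    have hiU : ι i ∈ uni σ (Fin 2) := by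
      rw [hmemU]; ext a b; fin_cases a <;> fin_cases b <;> simp [i, Matrix.mul_apply, Fin.sum_univ_two]
    have hisq : i * i = -1 := by
      apply Subtype.ext
      show (!![0, -1; 1, 0] * !![0, -1; 1, 0] : M2) = -1
      ext a b; fin_cases a <;> fin_cases b <;> simp [Matrix.mul_apply, Fin.sum_univ_two]
    have build : ∀ a b : F, a * a + b * b = -1 → σ a = -a → σ b = -b →
        ∃ i j : G, QPair i j ∧ ι i ∈ uni σ (Fin 2) ∧ ι j ∈ uni σ (Fin 2) := by
      intro a b hab ha hb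
      let j : G := ⟨!![a, b; b, -a], by rw [Matrix.det_fin_two]; simp; linear_combination -hab⟩
      refine ⟨i, j, ⟨hisq, ?_, ?_⟩, hiU, ?_⟩
      · apply Subtype.ext
        show (!![a, b; b, -a] * !![a, b; b, -a] : M2) = -1
        ext x y; fin_cases x <;> fin_cases y <;>
          simp [Matrix.mul_apply, Fin.sum_univ_two] <;>
            first | ring1 | linear_combination hab | linear_combination -hab
      · apply Subtype.ext
        show (!![a, b; b, -a] * !![0, -1; 1, 0] : M2) = -(!![0, -1; 1, 0] * !![a, b; b, -a])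
        ext x y; fin_cases x <;> fin_cases y <;>
          simp [Matrix.mul_apply, Fin.sum_univ_two] <;> linear_combination (0 : F) * hab
      · rw [hmemU]
        ext x y
        fin_cases x <;> fin_cases y <;>
          simp [j, Matrix.mul_apply, Fin.sum_univ_two, ha, hb] <;>
            first | ring1 | linear_combination hab | linear_combination -hab
    rcases (show q % 4 = 1 ∨ q % 4 = 3 by obtain ⟨k, rfl⟩ := hq; omega) with h4 | h4
    · have hcq : σ (c : F) = c := by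
        rw [hσ, ← Units.val_pow_eq_pow_val, show q = 4 * (q / 4) + 1 by omega, pow_succ, pow_mul, ← hc,
          pow_orderOf_eq_one, one_pow, one_mul]
      obtain ⟨z, hz⟩ := hordexists (2 * (q - 1)) (by
        obtain ⟨k, rfl⟩ := hq
        exact ⟨k + 1, by
          simp only [Nat.add_sub_cancel]
          ring_nf
          omega⟩)
      have hzq : (z : F) ^ (q - 1) = -1 := by
        have h4 : ((z : F) ^ (q - 1)) * ((z : F) ^ (q - 1)) = 1 := by
          have := congrArg (fun u : Fˣ => (u : F)) (pow_orderOf_eq_one z)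
          rw [hz] at this
          simp only [Units.val_pow_eq_pow_val, Units.val_one] at this
          rwa [← pow_add, ← two_mul]
        rcases mul_self_eq_one_iff.1 h4 with e | e
        · exfalso
          have h' : z ^ (q - 1) = 1 := Units.ext (by rw [Units.val_pow_eq_pow_val]; exact e)
          have := Nat.le_of_dvd (by omega) (orderOf_dvd_of_pow_eq_one h')
          omega
        · exact e
      have hzs : σ (z : F) = -z := by
        rw [hσ]
        calc (z : F) ^ q = (z : F) ^ (q - 1) * z := by rw [← pow_succ]; congr 1; omega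
          _ = -z := by rw [hzq]; ring
      have hz0 : (z : F) ≠ 0 := z.ne_zero
      have hc0 : (c : F) ≠ 0 := c.ne_zero
      refine build (((z : F) - 1 / z) / 2) (((z : F) + 1 / z) / (2 * c)) ?_ ?_ ?_
      · field_simp
        linear_combination (((z : F) ^ 2 + 1) ^ 2 - 0) * 0 + ((z : F) ^ 2 - 1) ^ 2 * hcc + 4 * (z:F)^2 * hcc
      · rw [map_div₀, map_sub, map_div₀, map_one, map_ofNat, hzs]
        field_simp
        ring
      · rw [map_div₀, map_add, map_div₀, map_one, map_mul, map_ofNat, hzs, hcq]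
        field_simp
        ring
    · refine build (c : F) 0 (by linear_combination hcc) ?_ (by simp)
      rw [hσ, ← Units.val_pow_eq_pow_val, show q = 4 * (q / 4) + 3 by omega, pow_add, pow_mul, ← hc,
        pow_orderOf_eq_one, one_pow, one_mul, Units.val_pow_eq_pow_val]
      linear_combination (c : F) * hcc
  have hQU : ∀ s ∈ hp₀.Q, ι s ∈ uni σ (Fin 2) := by
    intro s hs
    obtain ⟨z, hz, hsz⟩ := hp₀.mem_Q_cases h2 hs
    have hzU : ι z ∈ uni σ (Fin 2) := by
      simp only [Set.mem_insert_iff, Set.mem_singleton_iff] at hz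
      rcases hz with rfl | rfl | rfl | rfl
      exacts [by rw [map_one]; exact one_mem _, hi₀U, hj₀U, by rw [map_mul]; exact mul_mem hi₀U hj₀U]
    rcases hsz with rfl | rfl
    · exact hzU
    · rw [hmemU, Matrix.SpecialLinearGroup.coe_neg]
      have := (hmemU z).1 hzU
      simpa [Matrix.map_neg, transpose_neg] using this
  let U := uni σ (Fin 2)
  have hQ2 : IsPGroup 2 hp₀.Q := IsPGroup.of_card (n := 3) (by rw [hp₀.card_Q h2]; norm_num)
  obtain ⟨A₀, hA₀⟩ : ∃ A₀ : Sylow 2 U, ((hp₀.Q).map ι).subgroupOf U ≤ (A₀ : Subgroup U) :=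
    ((hQ2.map ι).comap_of_injective U.subtype U.subtype_injective).exists_le_sylow
  set A : Subgroup GL2 := (A₀ : Subgroup U).map U.subtype with hAdef
  have hAU : A ≤ U := Subgroup.map_subtype_le _
  have hAp : IsPGroup 2 A := A₀.isPGroup'.map _
  have hQA : ∀ s ∈ hp₀.Q, ι s ∈ A := fun s hs =>
    ⟨⟨ι s, hQU s hs⟩, hA₀ (Subgroup.mem_subgroupOf.2 ⟨s, hs, rfl⟩), rfl⟩
  have hmax : ∀ x ∈ U, (∀ a ∈ A, x * a * x⁻¹ ∈ A) → (∃ k : ℕ, x ^ 2 ^ k = 1) → x ∈ A := by
    intro x hxU hx ⟨k, hk⟩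
    set x' : U := ⟨x, hxU⟩
    have hxN : x' ∈ Subgroup.normalizer ((A₀ : Subgroup U) : Set U) := by
      have hfwd : ∀ a ∈ (A₀ : Subgroup U), x' * a * x'⁻¹ ∈ (A₀ : Subgroup U) := fun a ha => by
        obtain ⟨b, hb, hbe⟩ := Subgroup.mem_map.1 (hx (a : GL2) ⟨a, ha, rfl⟩)
        rwa [show b = x' * a * x'⁻¹ from Subtype.ext hbe] at hb
      let f : ↥(A₀ : Subgroup U) → ↥(A₀ : Subgroup U) := fun a => ⟨x' * a * x'⁻¹, hfwd a a.2⟩
      have hf : Function.Injective f := fun a b e => Subtype.ext (by simpa [f] using e)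
      rw [Subgroup.mem_normalizer_iff]
      refine fun y => ⟨hfwd y, fun hy => ?_⟩
      obtain ⟨b, hb⟩ := (Finite.injective_iff_surjective.1 hf) ⟨_, hy⟩
      have hb' : x' * b * x'⁻¹ = x' * y * x'⁻¹ := congrArg Subtype.val hb
      rw [← mul_left_cancel (mul_right_cancel hb')]; exact b.2
    have hz : IsPGroup 2 (Subgroup.zpowers x') := by
      rintro ⟨y, j, rfl⟩
      refine ⟨k, Subtype.ext ?_⟩
      show (x' ^ j) ^ 2 ^ k = 1
      rw [← zpow_natCast, ← _root_.zpow_mul, mul_comm, _root_.zpow_mul, zpow_natCast,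
        show x' ^ 2 ^ k = 1 from Subtype.ext hk, _root_.one_zpow]
    have e := A₀.is_maximal' (IsPGroup.to_sup_of_normal_left' A₀.isPGroup' hz (Subgroup.zpowers_le.2 hxN))
      le_sup_left
    exact ⟨x', e ▸ Subgroup.mem_sup_right (Subgroup.mem_zpowers x'), rfl⟩
  have hscal : ∀ c : Fˣ, scal (Fin 2) c ∈ U → (∃ k : ℕ, c ^ 2 ^ k = 1) → scal (Fin 2) c ∈ A := by
    rintro c hcU ⟨k, hk⟩
    refine hmax _ hcU (fun a ha => ?_) ⟨k, by rw [← map_pow, hk, map_one]⟩
    rw [scal_comm, mul_inv_cancel_right]; exact ha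
  have hcomm : ∀ M : M2, (∀ a ∈ A, a.val.det = 1 → M * a.val = a.val * M) → ∃ c : F, M = c • 1 :=
    fun M hM => tr_half_scalar h2 hp₀ (hM (ι i₀) (hQA _ hp₀.i_mem) (det_toGL i₀))
      (hM (ι j₀) (hQA _ hp₀.j_mem) (det_toGL j₀))
  refine ⟨A, hAU, hAp, hscal, fun g hgU hg => ?_, hcomm⟩
  set d : Fˣ := Matrix.GeneralLinearGroup.det g with hd
  have hdv : (d : F) = g.val.det := rfl
  have hdN : (d : F) * σ d = 1 := by
    have := congrArg Matrix.det (mem_uni.1 hgU)
    rw [det_mul, det_transpose, det_one, ← RingHom.mapMatrix_apply, ← RingHom.map_det, ← hdv] at this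
    exact this
  have hdU : scal (Fin 2) d ∈ U := scal_mem_uni.2 hdN
  obtain ⟨s, hs⟩ : ∃ s : G, ι s = g * g * scal (Fin 2) d⁻¹ := by
    refine ⟨⟨(g * g * scal (Fin 2) d⁻¹).val, ?_⟩, Units.ext rfl⟩
    rw [Units.val_mul, Units.val_mul, det_mul, det_mul, det_scal, Fintype.card_fin, ← hdv,
      Units.val_inv_eq_inv_val]
    field_simp
  have hsU : ι s ∈ U := hs ▸ mul_mem (mul_mem hgU hgU) (by rw [map_inv]; exact inv_mem hdU)
  have hsA : ∀ a ∈ A, ι s * a * (ι s)⁻¹ ∈ A := by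
    intro a ha
    rw [hs, show g * g * scal (Fin 2) d⁻¹ * a * (g * g * scal (Fin 2) d⁻¹)⁻¹ =
      g * (g * (scal (Fin 2) d⁻¹ * a * (scal (Fin 2) d⁻¹)⁻¹) * g⁻¹) * g⁻¹ by group, scal_comm,
      mul_inv_cancel_right]
    exact hg _ (hg _ ha)
  have hFc : 0 < Nat.card Fˣ := Nat.card_pos
  obtain ⟨a0, m, hm, hcard⟩ := Nat.exists_eq_two_pow_mul_odd hFc.ne'
  have h2el : ∀ c : Fˣ, (c ^ m) ^ 2 ^ a0 = 1 := fun c => by
    rw [← pow_mul, mul_comm, ← hcard, pow_card_eq_one']
  by_cases hsT : ι s ∈ A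
  · have hg2 : g * g = ι s * scal (Fin 2) d := by
      rw [hs, mul_assoc, ← map_mul, inv_mul_cancel, map_one, mul_one]
    have hgm : g ^ m ∈ A := by
      have h : (g ^ m) ^ 2 ∈ A := by
        rw [← pow_mul, mul_comm, pow_mul, pow_two, hg2, (show Commute (ι s) (scal (Fin 2) d) from
          (scal_comm d (ι s)).symm).mul_pow, ← map_pow (scal (Fin 2))]
        exact mul_mem (pow_mem hsT _) (hscal _ (by rw [map_pow]; exact pow_mem hdU _) ⟨a0, h2el d⟩)
      obtain ⟨k, hk⟩ := hAp ⟨_, h⟩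
      refine hmax _ (pow_mem hgU m) (fun a ha => ?_) ⟨k + 1, ?_⟩
      · have : ∀ i : ℕ, g ^ i * a * (g ^ i)⁻¹ ∈ A := by
          intro i
          induction i with
          | zero => simpa using ha
          | succ i ih =>
            rw [pow_succ', show g * g ^ i * a * (g * g ^ i)⁻¹ = g * (g ^ i * a * (g ^ i)⁻¹) * g⁻¹ by group]
            exact hg _ ih
        exact this m
      · rw [pow_succ', pow_mul]; simpa using congrArg Subtype.val hk
    obtain ⟨j, rfl⟩ := hm
    refine ⟨g ^ (2 * j + 1) * (ι s ^ j)⁻¹, mul_mem hgm (inv_mem (pow_mem hsT _)), (d ^ j)⁻¹, ?_⟩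
    rw [pow_succ', pow_mul, pow_two, hg2, (show Commute (ι s) (scal (Fin 2) d) from
      (scal_comm d (ι s)).symm).mul_pow, map_inv, map_pow]
    rw [← map_pow (scal (Fin 2))]
    have key : ∀ a b c : GL2, b * c = c * b → a = a * (b * c) * b⁻¹ * c⁻¹ := fun a b c e => by
      rw [e]; group
    exact key _ _ _ (scal_comm _ _).symm
  exfalso
  -- the odd part of `s`
  obtain ⟨e2, r, hr, hord⟩ := Nat.exists_eq_two_pow_mul_odd (orderOf_pos s).ne'
  set t := s ^ 2 ^ e2 with htdef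
  have htU : ι t ∈ U := by rw [htdef, map_pow]; exact pow_mem hsU _
  have htr : t ^ r = 1 := by rw [htdef, ← pow_mul, ← hord, pow_orderOf_eq_one]
  have htA : ∀ a ∈ A, ι t * a * (ι t)⁻¹ ∈ A := by
    rw [htdef, map_pow]
    suffices ∀ i : ℕ, ∀ a ∈ A, ι s ^ i * a * (ι s ^ i)⁻¹ ∈ A from this _
    intro i a ha
    induction i with
    | zero => simpa using ha
    | succ i ih =>
      rw [pow_succ', show ι s * ι s ^ i * a * (ι s * ι s ^ i)⁻¹ = ι s * (ι s ^ i * a * (ι s ^ i)⁻¹) * (ι s)⁻¹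
        by group]
      exact hsA _ ih
  have ht1 : t ≠ 1 := fun e => hsT (hmax _ hsU hsA ⟨e2, by rw [← map_pow, ← htdef, e, map_one]⟩)
  -- odd order elements among the two-elements
  have h2odd : ∀ (u : G) (k : ℕ), u ^ 2 ^ k = 1 → u ^ r = 1 → u = 1 := fun u k h1 h3 => by
    rw [← orderOf_eq_one_iff]
    exact Nat.eq_one_of_dvd_coprimes (Nat.Coprime.pow_left k (Nat.coprime_two_left.2 hr))
      (orderOf_dvd_of_pow_eq_one h1) (orderOf_dvd_of_pow_eq_one h3)
  have hTp : IsPGroup 2 (A.comap ι) := hAp.comap_of_injective _ Matrix.SpecialLinearGroup.toGL_injective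
  have hiT : i₀ ∈ A.comap ι := hQA _ hp₀.i_mem
  have hjT : j₀ ∈ A.comap ι := hQA _ hp₀.j_mem
  by_cases hexp : ∀ x ∈ A.comap ι, (x * x) * (x * x) = 1
  · -- the determinant-one part is the quaternion group of order eight
    have hAT : ∀ x : G, ι x ∈ A ↔ x ∈ hp₀.Q := by
      refine fun x => ⟨fun hx => ?_, hQA x⟩
      have hx' : x ∈ A.comap ι := hx
      rcases eq_one_or_of_sq h2 (hexp x hx') with e | e
      · rcases eq_one_or_of_sq h2 e with rfl | rfl
        · exact one_mem _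
        · exact hp₀.neg_mem (one_mem _)
      have aux : ∀ u : G, u ∈ A.comap ι → u * u = -1 → x * u * x⁻¹ = u ∨ x * u * x⁻¹ = -u := by
        intro u hu husq
        rcases eq_one_or_of_sq h2 (hexp _ (mul_mem hx' hu)) with e' | e'
        · rcases eq_one_or_of_sq h2 e' with e'' | e''
          · left
            rw [eq_inv_of_mul_eq_one_left e'', inv_inv, inv_mul_cancel, one_mul]
          · left
            have : x = u := by
              rw [← mul_inv_cancel_right x u, e'', inv_of_sq husq]; simp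
            rw [this, mul_inv_cancel_right]
        · right
          have h1 : x * u * x * u = -1 := by rw [← e']; group
          have h3 : x * u * x = u := by
            rw [← mul_inv_cancel_right (x * u * x) u, h1, inv_of_sq husq]; simp
          rw [inv_of_sq e, mul_neg, h3]
      exact ⟨aux i₀ hiT hp₀.isq, aux j₀ hjT hp₀.jsq⟩
    have htN : ∀ y ∈ hp₀.Q, t * y * t⁻¹ ∈ hp₀.Q := fun y hy => by
      rw [← hAT, map_mul, map_mul, map_inv]; exact htA _ ((hAT y).2 hy)
    have htNm : t ∈ Subgroup.normalizer (hp₀.Q : Set G) := hp₀.mem_normalizer_Q (htN _ hp₀.i_mem) (htN _ hp₀.j_mem) h2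
    have ht3 : t ^ 3 = 1 := by
      have hc : ∃ k : ℕ, Nat.card (Subgroup.normalizer (hp₀.Q : Set G)) = 2 ^ k * 3 := by
        rcases hp₀.card_normalizer_cases h2 with e | e <;> rw [e]
        · exact ⟨3, by norm_num⟩
        · exact ⟨4, by norm_num⟩
      obtain ⟨k, hk⟩ := hc
      have h1 : (t ^ 3) ^ 2 ^ k = 1 := by
        rw [← pow_mul, mul_comm, ← hk]
        exact orderOf_dvd_iff_pow_eq_one.1 (Subgroup.orderOf_dvd_natCard _ htNm)
      exact h2odd _ k h1 (by rw [← pow_mul, mul_comm, pow_mul, htr, one_pow])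
    have htQ : t ∉ hp₀.Q := fun hQ => by
      obtain ⟨k, hk⟩ := hQ2 ⟨t, hQ⟩
      exact ht1 (h2odd t k (by simpa using congrArg Subtype.val hk) htr)
    -- an element with suitable determinant
    obtain ⟨a1, m1, hm1, hq1⟩ := Nat.exists_eq_two_pow_mul_odd (show q + 1 ≠ 0 by omega)
    obtain ⟨u, hu⟩ := hordexists (2 ^ a1) ((Dvd.intro m1 hq1.symm).trans hdvd1)
    have ha1 : 1 ≤ a1 := by
      by_contra h
      have : a1 = 0 := by omega
      subst this
      obtain ⟨k, rfl⟩ := hq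
      obtain ⟨l, rfl⟩ := hm1
      simp at hq1
      omega
    let D : GL2 := ⟨!![(u : F), 0; 0, 1], !![((u⁻¹ : Fˣ) : F), 0; 0, 1],
      by simp [Matrix.one_fin_two], by simp [Matrix.one_fin_two]⟩
    have huN : (u : F) * σ u = 1 := by
      rw [hσ, ← pow_succ', ← Units.val_pow_eq_pow_val, orderOf_dvd_iff_pow_eq_one.1 (hu ▸ Dvd.intro m1 hq1.symm),
        Units.val_one]
    have hDU : D ∈ U := by
      refine mem_uni.2 ?_
      ext x y; fin_cases x <;> fin_cases y <;> simp [D, Matrix.mul_apply, Fin.sum_univ_two, huN]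
    have hD : ∀ k : ℕ, (D ^ k).val = !![((u ^ k : Fˣ) : F), 0; 0, 1] := by
      intro k
      induction k with
      | zero => simp [Matrix.one_fin_two]
      | succ k ih => rw [pow_succ, Units.val_mul, ih]; simp [D, pow_succ]
    have hDp : IsPGroup 2 (Subgroup.zpowers (⟨D, hDU⟩ : U)) := by
      rintro ⟨y, j, rfl⟩
      refine ⟨a1, Subtype.ext ?_⟩
      show ((⟨D, hDU⟩ : U) ^ j) ^ 2 ^ a1 = 1
      rw [← zpow_natCast, ← _root_.zpow_mul, mul_comm, _root_.zpow_mul, zpow_natCast]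
      rw [show (⟨D, hDU⟩ : U) ^ 2 ^ a1 = 1 from Subtype.ext (Units.ext (by
        rw [SubmonoidClass.coe_pow, hD, ← hu, pow_orderOf_eq_one]; simp [Matrix.one_fin_two])), _root_.one_zpow]
    obtain ⟨A', hA'⟩ := hDp.exists_le_sylow
    obtain ⟨y, hy⟩ := MulAction.exists_smul_eq U A₀ A'
    have hD' : (⟨D, hDU⟩ : U) ∈ ((y • A₀ : Sylow 2 U) : Subgroup U) := hy ▸ hA' (Subgroup.mem_zpowers _)
    rw [Sylow.coe_subgroup_smul, Subgroup.mem_pointwise_smul_iff_inv_smul_mem] at hD'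
    have hεA : (y : GL2)⁻¹ * D * (y : GL2) ∈ A := ⟨_, hD', by simp [MulAut.smul_def]⟩
    refine eight_contra h2 hp₀ hAU hAT htU (by rw [← ht3, pow_succ, pow_two]) htQ htA hεA ?_
    rintro ⟨c, hcU, hc⟩
    have hdetD : ((y : GL2)⁻¹ * D * (y : GL2)).val.det = (u : F) := by
      rw [Units.val_mul, Units.val_mul, det_mul, det_mul, mul_right_comm, ← det_mul, ← Units.val_mul,
        inv_mul_cancel, Units.val_one, det_one, one_mul]
      simp [D]
    rw [hdetD] at hc
    have hc' : c * c = u := Units.ext (by rw [Units.val_mul]; exact hc.symm)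
    have hcq : c ^ (q + 1) = 1 := Units.ext (by
      rw [Units.val_pow_eq_pow_val, pow_succ', ← hσ]; exact scal_mem_uni.1 hcU)
    have h3 : u ^ (2 ^ (a1 - 1) * m1) = 1 := by
      rw [← hc', ← pow_two, ← pow_mul, ← mul_assoc, ← pow_succ', show a1 - 1 + 1 = a1 by omega, ← hq1, hcq]
    have h4 := orderOf_dvd_of_pow_eq_one h3
    rw [hu] at h4
    have h5 : 2 ^ a1 ∣ 2 ^ (a1 - 1) := (Nat.Coprime.pow_left a1 (Nat.coprime_two_left.2 hm1)).dvd_of_dvd_mul_right h4
    have h6 := (Nat.pow_dvd_pow_iff_le_right (by norm_num : 1 < 2)).1 h5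
    omega
  · push Not at hexp
    obtain ⟨x, hx, hx4⟩ := hexp
    obtain ⟨S, hS⟩ := hTp.exists_le_sylow
    obtain ⟨g₁, h₁, a, hp, hgS, hhS, hh, hle, ha, ha2, hcard', hmem⟩ := sylow_two_structure hodd S
    have ht₁ := tr_sq_of_tr_zero h2 (tr_zero_of_sq h2 hp.isq)
    have hgs := scal_of_tr_sq_ne ht₁
    have hcent : ∀ y ∈ (S : Subgroup G), (y * y) * (y * y) ≠ 1 → y ∈ cent g₁ := by
      intro y hy h4
      by_contra hne
      obtain ⟨-, hsq⟩ := sq_of_mem_normalizer ht₁ (hle hy) hne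
      exact h4 (by rw [hsq]; simp)
    have hxc := hcent x (hS hx) hx4
    have htx : t * x * t⁻¹ ∈ A.comap ι := by
      show ι (t * x * t⁻¹) ∈ A
      rw [map_mul, map_mul, map_inv]; exact htA _ hx
    have htxc := hcent _ (hS htx) (fun e => hx4 (by
      have : t * ((x * x) * (x * x)) * t⁻¹ = 1 := by rw [← e]; group
      exact conj_eq_one_iff.1 this))
    have hxs : ¬ Scal x := fun e => hx4 (by rcases (scal_iff _).1 e with rfl | rfl <;> simp)
    have htN : t ∈ Subgroup.normalizer (cent g₁ : Set G) := by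
      rw [Subgroup.mem_normalizer_iff]
      intro y
      have e1 := cent_eq hgs hxc hxs
      have e3 := cent_eq hgs htxc (not_scal_conj hxs t)
      conv_rhs => rw [← e3, cent_conj, show t⁻¹ * (t * y * t⁻¹) * t = y by group, e1]
    by_cases htc : t ∈ cent g₁
    swap
    · obtain ⟨-, hsq⟩ := sq_of_mem_normalizer ht₁ htN htc
      refine ht1 (h2odd t 2 ?_ htr)
      rw [show 2 ^ 2 = 2 * 2 from rfl, pow_mul, pow_two, pow_two, hsq]; simp
    obtain ⟨u, huT, huc⟩ : ∃ u ∈ A.comap ι, u ∉ cent g₁ := by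
      by_contra hcon
      push Not at hcon
      have := cent_comm hgs (hcon _ hjT) (hcon _ hiT)
      rw [hp₀.anti] at this
      exact neg_ne_self h2 _ this
    rcases normalizer_act ht₁ (hle (hS huT)) with ⟨h', -⟩ | ⟨-, hinv⟩
    · exact huc h'
    have h1 : t * t ∈ A.comap ι := by
      have e : t * u * t⁻¹ * u⁻¹ = t * t := by
        rw [show t * u * t⁻¹ * u⁻¹ = t * (u * t⁻¹ * u⁻¹) by group, hinv _ (inv_mem htc), inv_inv]
      rw [← e]
      refine mul_mem ?_ (inv_mem huT)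
      show ι (t * u * t⁻¹) ∈ A
      rw [map_mul, map_mul, map_inv]; exact htA _ huT
    obtain ⟨k, hk⟩ := hTp ⟨_, h1⟩
    have hk' : (t * t) ^ 2 ^ k = 1 := by simpa using congrArg Subtype.val hk
    refine ht1 (h2odd t (k + 1) ?_ htr)
    rw [pow_succ', pow_mul, pow_two, hk']

end Cfsg.Agent.Pronormal.Herm
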