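import Cfsg.Agent.Lib.Pronormal.SylowBase
import Cfsg.Agent.Lib.Pronormal.Criterion

/-!
# Sylow `2`-subgroups of `PSL(2 ^ w, q)`, `w ≥ 2`, `q` odd, are self-normalising
-/

set_option autoImplicit false

namespace Cfsg.Agent.Pronormal

open Matrix

variable {F : Type*} [Field F] [Fintype F]

theorem exists_strong (hodd : Odd (Fintype.card F)) (w : ℕ) :
    ∃ A : Subgroup (GL (Fin (2 ^ (w + 2))) F), Strong A := by
  have h2 := SL2.two_ne_zero' hodd
  have step : ∀ n : ℕ, Even n → 0 < n → (∃ A : Subgroup (GL (Fin n) F), Good A) →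
      ∃ A : Subgroup (GL (Fin (2 * n)) F), Strong A := by
    rintro n hn hn0 ⟨A, hA⟩
    refine ⟨_, strong_congr (finSumFinEquiv.trans (finCongr (two_mul n).symm))
      (strong_wr hA h2 (by rwa [Fintype.card_fin]) (by rwa [Fintype.card_fin]))⟩
  induction w with
  | zero => exact step 2 even_two two_pos (exists_good_two hodd)
  | succ w ih =>
    obtain ⟨A, hA⟩ := ih
    obtain ⟨B, hB⟩ := step _ (Nat.even_pow.2 ⟨even_two, by omega⟩) (Nat.two_pow_pos _) ⟨A, hA.toGood⟩
    have e : 2 * 2 ^ (w + 2) = 2 ^ (w + 1 + 2) := by rw [← pow_succ']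
    exact ⟨_, strong_congr (finCongr e) hB⟩

/-- In `PSL(2 ^ w, q)`, `w ≥ 2`, `q` odd, Sylow `2`-subgroups are self-normalising. -/
theorem normalizer_sylow_le (hodd : Odd (Fintype.card F)) {w : ℕ} (hw : 2 ≤ w)
    (S : Sylow 2 (Matrix.ProjectiveSpecialLinearGroup (Fin (2 ^ w)) F)) :
    Subgroup.normalizer (((S : Subgroup (Matrix.ProjectiveSpecialLinearGroup (Fin (2 ^ w)) F))) : Set (Matrix.ProjectiveSpecialLinearGroup (Fin (2 ^ w)) F)) ≤
      (S : Subgroup (Matrix.ProjectiveSpecialLinearGroup (Fin (2 ^ w)) F)) := by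
  classical
  haveI : Fact (Nat.Prime 2) := ⟨Nat.prime_two⟩
  obtain ⟨v, rfl⟩ : ∃ v, w = v + 2 := ⟨w - 2, by omega⟩
  obtain ⟨A, hA⟩ := exists_strong hodd v
  let SLd := Matrix.SpecialLinearGroup (Fin (2 ^ (v + 2))) F
  let π : SLd →* Matrix.ProjectiveSpecialLinearGroup (Fin (2 ^ (v + 2))) F := QuotientGroup.mk' _
  haveI : Finite (Matrix.ProjectiveSpecialLinearGroup (Fin (2 ^ (v + 2))) F) :=
    Finite.of_surjective π (QuotientGroup.mk'_surjective _)
  set T : Subgroup SLd := A.comap Matrix.SpecialLinearGroup.toGL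
  have hTp : IsPGroup 2 T := hA.pgroup.comap_of_injective _ Matrix.SpecialLinearGroup.toGL_injective
  have hTN : ∀ s : SLd, (∀ y ∈ T, s * y * s⁻¹ ∈ T) → s ∈ T := by
    intro s hs
    obtain ⟨a, ha, c, hc⟩ := hA.norm_one (Matrix.SpecialLinearGroup.toGL s) fun a ha had => by
      obtain ⟨y, rfl⟩ : ∃ y : SLd, Matrix.SpecialLinearGroup.toGL y = a := ⟨⟨a.val, had⟩, Units.ext rfl⟩
      rw [← map_inv, ← map_mul, ← map_mul]
      exact hs y ha
    refine Subgroup.mem_comap.2 ?_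
    rw [hc]
    refine mul_mem ha (hA.scal_mem c ?_)
    obtain ⟨k, hk⟩ := hA.pgroup ⟨a, ha⟩
    refine ⟨(v + 2) + k, ?_⟩
    have h1 : a.val.det * (c : F) ^ (2 ^ (v + 2)) = 1 := by
      have := congrArg (fun g : GL (Fin (2 ^ (v + 2))) F => g.val.det) hc
      simp only [Units.val_mul, det_mul, det_scal, Fintype.card_fin] at this
      rw [← this]; exact s.det_coe
    have h2 : a.val.det ^ 2 ^ k = 1 := by
      rw [← det_pow, ← Units.val_pow_eq_pow_val, show a ^ 2 ^ k = 1 by simpa using congrArg Subtype.val hk,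
        Units.val_one, det_one]
    apply Units.ext
    rw [Units.val_pow_eq_pow_val, pow_add, pow_mul, Units.val_one]
    calc ((c : F) ^ 2 ^ (v + 2)) ^ 2 ^ k = (a.val.det * (c : F) ^ 2 ^ (v + 2)) ^ 2 ^ k := by
          rw [mul_pow a.val.det, h2, one_mul]
      _ = 1 := by rw [h1, one_pow]
  have hker : π.ker ≤ T := by
    intro z hz
    rw [QuotientGroup.ker_mk'] at hz
    obtain ⟨c, hcn, hzc⟩ := Matrix.SpecialLinearGroup.mem_center_iff.1 hz
    rw [Fintype.card_fin] at hcn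
    have hc0 : c ≠ 0 := fun e => by
      rw [e, zero_pow (Nat.two_pow_pos _).ne'] at hcn; exact zero_ne_one hcn
    refine Subgroup.mem_comap.2 ?_
    rw [show Matrix.SpecialLinearGroup.toGL z = scal _ (Units.mk0 c hc0) from Units.ext (by
      rw [scal_val, Units.val_mk0]
      show z.1 = _
      rw [← hzc]
      simp [Matrix.scalar_apply, Matrix.smul_one_eq_diagonal])]
    exact hA.scal_mem _ ⟨v + 2, Units.ext (by simpa using hcn)⟩
  have hmapN : ∀ n, (∀ y ∈ T.map π, n * y * n⁻¹ ∈ T.map π) → n ∈ T.map π := by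
    intro n hn
    obtain ⟨s, rfl⟩ := QuotientGroup.mk'_surjective _ n
    refine Subgroup.mem_map_of_mem π (hTN s fun y hy => ?_)
    obtain ⟨z, hz, hze⟩ := Subgroup.mem_map.1 (hn _ (Subgroup.mem_map_of_mem π hy))
    have : z⁻¹ * (s * y * s⁻¹) ∈ T := hker (by
      rw [MonoidHom.mem_ker, map_mul, map_inv, hze, map_mul, map_mul, map_inv]; exact inv_mul_cancel _)
    have := mul_mem hz this
    rwa [mul_inv_cancel_left] at this
  obtain ⟨P, hP⟩ := (hTp.map π).exists_le_sylow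
  have hPT : (P : Subgroup (Matrix.ProjectiveSpecialLinearGroup (Fin (2 ^ (v + 2))) F)) = T.map π := by
    by_contra hne
    have hlt : (T.map π).subgroupOf P < ⊤ := by
      rw [lt_top_iff_ne_top, Ne, Subgroup.subgroupOf_eq_top]
      exact fun h => hne (le_antisymm h hP)
    haveI : Group.IsNilpotent P := P.isPGroup'.isNilpotent
    obtain ⟨y, hy, hy'⟩ := SetLike.exists_of_lt
      (Group.normalizerCondition_of_isNilpotent ((T.map π).subgroupOf P) hlt)
    refine hy' (Subgroup.mem_subgroupOf.2 (hmapN _ fun x hx => ?_))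
    exact Subgroup.mem_subgroupOf.1 ((Subgroup.mem_normalizer_iff.1 hy ⟨x, hP hx⟩).1 (Subgroup.mem_subgroupOf.2 hx))
  obtain ⟨g, hg⟩ := MulAction.exists_smul_eq (Matrix.ProjectiveSpecialLinearGroup (Fin (2 ^ (v + 2))) F) P S
  intro n hn
  have hS : ∀ x, x ∈ (S : Subgroup (Matrix.ProjectiveSpecialLinearGroup (Fin (2 ^ (v + 2))) F)) ↔ g⁻¹ * x * g ∈ T.map π := fun x => by
    rw [← hg, Sylow.coe_subgroup_smul, Subgroup.mem_pointwise_smul_iff_inv_smul_mem, hPT]
    simp [MulAut.smul_def]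
  rw [hS]
  refine hmapN _ fun y hy => ?_
  have h1 : g * y * g⁻¹ ∈ (S : Subgroup (Matrix.ProjectiveSpecialLinearGroup (Fin (2 ^ (v + 2))) F)) := by rw [hS]; simpa [mul_assoc] using hy
  have h2 := (hS _).1 ((Subgroup.mem_normalizer_iff.1 hn _).1 h1)
  convert h2 using 1
  group

end Cfsg.Agent.Pronormal
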