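import Mathlib

/-!
# Self-normalising Sylow `2`-subgroups of linear groups in dimension a power of `2`
-/

set_option autoImplicit false

namespace Cfsg.Agent.Pronormal

open Matrix

variable {F : Type*} [Field F] {α β : Type*} [Fintype α] [DecidableEq α] [Fintype β] [DecidableEq β]

/-- Scalar matrices. -/
noncomputable def scal (α : Type*) [Fintype α] [DecidableEq α] : Fˣ →* GL α F :=
  Units.map (algebraMap F (Matrix α α F)).toMonoidHom

theorem scal_val (c : Fˣ) : (scal α c : GL α F).val = (c : F) • (1 : Matrix α α F) :=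
  Algebra.algebraMap_eq_smul_one (c : F)

theorem scal_comm (c : Fˣ) (g : GL α F) : scal α c * g = g * scal α c :=
  Units.ext (by simp [scal_val])

theorem det_scal (c : Fˣ) : (scal α c : GL α F).val.det = (c : F) ^ Fintype.card α := by
  rw [scal_val, Matrix.det_smul, Matrix.det_one, mul_one]

/-- A `2`-subgroup with the properties used in the recursion. -/
structure Good (A : Subgroup (GL α F)) : Prop where
  pgroup : IsPGroup 2 A
  scal_mem : ∀ c : Fˣ, (∃ k : ℕ, c ^ 2 ^ k = 1) → scal α c ∈ A
  norm : ∀ g : GL α F, (∀ a ∈ A, g * a * g⁻¹ ∈ A) → ∃ a ∈ A, ∃ c : Fˣ, g = a * scal α c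
  commutant : ∀ M : Matrix α α F, (∀ a ∈ A, a.val.det = 1 → M * a.val = a.val * M) →
    ∃ c : F, M = c • 1

/-- The strong form: normalising the determinant-one part suffices. -/
structure Strong (A : Subgroup (GL α F)) : Prop extends Good A where
  norm_one : ∀ g : GL α F, (∀ a ∈ A, a.val.det = 1 → g * a * g⁻¹ ∈ A) → ∃ a ∈ A, ∃ c : Fˣ, g = a * scal α c

/-- Block diagonal pairs. -/
noncomputable def blockD : GL α F × GL α F →* GL (α ⊕ α) F :=
  MonoidHom.toHomUnits
    ({ toFun := fun p => fromBlocks p.1.val 0 0 p.2.val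
       map_one' := by simp [fromBlocks_one]
       map_mul' := fun p p' => by simp [fromBlocks_multiply] } :
      GL α F × GL α F →* Matrix (α ⊕ α) (α ⊕ α) F)

theorem blockD_val (p : GL α F × GL α F) : (blockD p).val = fromBlocks p.1.val 0 0 p.2.val := rfl

theorem blockD_inj {a b a' b' : GL α F} (h : blockD (a, b) = blockD (a', b')) : a = a' ∧ b = b' := by
  have := congrArg Units.val h
  rw [blockD_val, blockD_val, fromBlocks_inj] at this
  exact ⟨Units.ext this.1, Units.ext this.2.2.2⟩

/-- The swap of the two blocks. -/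
def blockS : GL (α ⊕ α) F :=
  ⟨fromBlocks 0 1 1 0, fromBlocks 0 1 1 0, by simp [fromBlocks_multiply, fromBlocks_one],
    by simp [fromBlocks_multiply, fromBlocks_one]⟩

theorem blockS_val : (blockS : GL (α ⊕ α) F).val = fromBlocks 0 1 1 0 := rfl

theorem blockS_sq : (blockS : GL (α ⊕ α) F) * blockS = 1 :=
  Units.ext (by simp [blockS_val, fromBlocks_multiply, fromBlocks_one])

theorem blockS_inv : (blockS : GL (α ⊕ α) F)⁻¹ = blockS := inv_eq_of_mul_eq_one_right blockS_sq

theorem blockS_D (a b : GL α F) : blockS * blockD (a, b) = blockD (b, a) * blockS :=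
  Units.ext (by simp [blockS_val, blockD_val, fromBlocks_multiply])

theorem det_blockD (a b : GL α F) : (blockD (a, b)).val.det = a.val.det * b.val.det := by
  rw [blockD_val, det_fromBlocks_zero₁₂]

theorem det_blockS (hα : Even (Fintype.card α)) : (blockS : GL (α ⊕ α) F).val.det = 1 := by
  have e : (fromBlocks 0 1 1 0 : Matrix (α ⊕ α) (α ⊕ α) F) =
      fromBlocks 1 1 0 1 * fromBlocks 1 0 (-1) 1 * fromBlocks 1 1 0 1 * fromBlocks (-1) 0 0 1 := by
    simp [fromBlocks_multiply]
  rw [blockS_val, e, det_mul, det_mul, det_mul, det_fromBlocks_zero₂₁, det_fromBlocks_zero₁₂,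
    det_fromBlocks_zero₁₂, det_neg, det_one, hα.neg_one_pow]
  simp

theorem blockD_scal (c : Fˣ) : blockD (scal α c, scal α c) = scal (α ⊕ α) c :=
  Units.ext (by rw [blockD_val, scal_val, scal_val, ← fromBlocks_one, fromBlocks_smul]; simp)

/-- The wreath product `A ≀ 2`. -/
noncomputable def wr (A : Subgroup (GL α F)) : Subgroup (GL (α ⊕ α) F) where
  carrier := {x | ∃ a ∈ A, ∃ b ∈ A, x = blockD (a, b) ∨ x = blockD (a, b) * blockS}
  one_mem' := ⟨1, one_mem _, 1, one_mem _, Or.inl (map_one blockD).symm⟩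
  mul_mem' := by
    rintro _ _ ⟨a, ha, b, hb, rfl | rfl⟩ ⟨a', ha', b', hb', rfl | rfl⟩
    · exact ⟨_, mul_mem ha ha', _, mul_mem hb hb', Or.inl (map_mul blockD (a, b) (a', b')).symm⟩
    · exact ⟨_, mul_mem ha ha', _, mul_mem hb hb', Or.inr (by
        rw [← mul_assoc, ← map_mul]; rfl)⟩
    · exact ⟨_, mul_mem ha hb', _, mul_mem hb ha', Or.inr (by
        rw [mul_assoc, blockS_D, ← mul_assoc, ← map_mul]; rfl)⟩
    · exact ⟨_, mul_mem ha hb', _, mul_mem hb ha', Or.inl (by
        rw [show blockD (a, b) * blockS * (blockD (a', b') * blockS) =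
          blockD (a, b) * (blockS * blockD (a', b')) * blockS by group, blockS_D, ← mul_assoc,
          mul_assoc (blockD (a, b) * blockD (b', a')), blockS_sq, mul_one, ← map_mul]; rfl)⟩
  inv_mem' := by
    rintro _ ⟨a, ha, b, hb, rfl | rfl⟩
    · exact ⟨_, inv_mem ha, _, inv_mem hb, Or.inl (map_inv blockD (a, b)).symm⟩
    · exact ⟨_, inv_mem hb, _, inv_mem ha, Or.inr (by
        rw [_root_.mul_inv_rev, blockS_inv, ← map_inv, Prod.inv_mk, blockS_D])⟩

theorem mem_wr {A : Subgroup (GL α F)} {x : GL (α ⊕ α) F} :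
    x ∈ wr A ↔ ∃ a ∈ A, ∃ b ∈ A, x = blockD (a, b) ∨ x = blockD (a, b) * blockS := Iff.rfl

theorem D_mem_wr {A : Subgroup (GL α F)} {a b : GL α F} (ha : a ∈ A) (hb : b ∈ A) :
    blockD (a, b) ∈ wr A := ⟨a, ha, b, hb, Or.inl rfl⟩

theorem S_mem_wr {A : Subgroup (GL α F)} : blockS ∈ wr A :=
  ⟨1, one_mem _, 1, one_mem _, Or.inr (by rw [show ((1 : GL α F), (1 : GL α F)) = 1 from rfl, map_one, one_mul])⟩

theorem mem_of_D_mem_wr [Nonempty α] {A : Subgroup (GL α F)} {a b : GL α F} (h : blockD (a, b) ∈ wr A) :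
    a ∈ A ∧ b ∈ A := by
  obtain ⟨a', ha', b', hb', e | e⟩ := h
  · obtain ⟨rfl, rfl⟩ := blockD_inj e
    exact ⟨ha', hb'⟩
  · have := congrArg Units.val e
    rw [Units.val_mul, blockD_val, blockD_val, blockS_val, fromBlocks_multiply] at this
    have h1 : a.val = 0 := by simpa using (fromBlocks_inj.1 this).1
    exact absurd h1 a.ne_zero

theorem isPGroup_wr {A : Subgroup (GL α F)} (hA : IsPGroup 2 A) : IsPGroup 2 (wr A) := by
  have key : ∀ a ∈ A, ∀ b ∈ A, ∃ k : ℕ, blockD (a, b) ^ 2 ^ k = 1 := by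
    intro a ha b hb
    obtain ⟨k, hk⟩ := hA ⟨a, ha⟩
    obtain ⟨l, hl⟩ := hA ⟨b, hb⟩
    refine ⟨k + l, ?_⟩
    have e1 : a ^ 2 ^ (k + l) = 1 := by
      rw [pow_add, pow_mul, show a ^ 2 ^ k = 1 by simpa using congrArg Subtype.val hk, one_pow]
    have e2 : b ^ 2 ^ (k + l) = 1 := by
      rw [add_comm, pow_add, pow_mul, show b ^ 2 ^ l = 1 by simpa using congrArg Subtype.val hl, one_pow]
    rw [← map_pow, Prod.pow_mk, e1, e2, show ((1 : GL α F), (1 : GL α F)) = 1 from rfl, map_one]
  rintro ⟨x, a, ha, b, hb, rfl | rfl⟩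
  · obtain ⟨k, hk⟩ := key a ha b hb
    exact ⟨k, Subtype.ext (by simpa using hk)⟩
  · obtain ⟨k, hk⟩ := key _ (mul_mem ha hb) _ (mul_mem hb ha)
    refine ⟨k + 1, Subtype.ext ?_⟩
    have e : (blockD (a, b) * blockS) ^ 2 = blockD (a * b, b * a) := by
      rw [pow_two, show blockD (a, b) * blockS * (blockD (a, b) * blockS) =
        blockD (a, b) * (blockS * blockD (a, b)) * blockS by group, blockS_D, ← mul_assoc,
        mul_assoc (blockD (a, b) * blockD (b, a)), blockS_sq, mul_one, ← map_mul]; rfl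
    rw [SubmonoidClass.coe_pow, pow_succ', pow_mul, e, hk]; rfl

variable [Finite F]

/-- The recursion step. -/
theorem strong_wr {A : Subgroup (GL α F)} (hA : Good A) (h2 : (2 : F) ≠ 0) (hev : Even (Fintype.card α))
    (hne : 0 < Fintype.card α) : Strong (wr A) := by
  classical
  haveI : Nonempty α := Fintype.card_pos_iff.1 hne
  haveI : Finite (GL α F) := inferInstance
  set n1 : GL α F := scal α (-1) with hn1
  have hn1A : n1 ∈ A := hA.scal_mem (-1) ⟨1, by simp⟩
  have hn1v : n1.val = -1 := by rw [hn1, scal_val]; simp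
  have hdet : n1.val.det = 1 := by rw [hn1v, det_neg, det_one, hev.neg_one_pow, mul_one]
  have hM0 : ∀ M : Matrix α α F, M = -M → M = 0 := fun M h => by
    ext i j
    have := congrFun (congrFun h i) j
    simp only [Matrix.neg_apply, Matrix.zero_apply] at this ⊢
    exact (mul_eq_zero.1 (show (2 : F) * M i j = 0 by linear_combination this)).resolve_left h2
  have hcomm : ∀ M : Matrix (α ⊕ α) (α ⊕ α) F,
      (∀ a ∈ wr A, a.val.det = 1 → M * a.val = a.val * M) → ∃ c : F, M = c • 1 := by
    intro M hM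
    have hL : ∀ a ∈ A, a.val.det = 1 →
        M.toBlocks₁₁ * a.val = a.val * M.toBlocks₁₁ ∧ M.toBlocks₁₂ = a.val * M.toBlocks₁₂ ∧
          M.toBlocks₂₁ * a.val = M.toBlocks₂₁ := by
      intro a ha had
      have := hM _ (D_mem_wr ha (one_mem A)) (by rw [det_blockD, had, Units.val_one, det_one, one_mul])
      rw [blockD_val, ← fromBlocks_toBlocks M, fromBlocks_multiply, fromBlocks_multiply] at this
      obtain ⟨e1, e2, e3, -⟩ := fromBlocks_inj.1 this
      exact ⟨by simpa using e1, by simpa using e2, by simpa using e3⟩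
    have hR : ∀ a ∈ A, a.val.det = 1 → M.toBlocks₂₂ * a.val = a.val * M.toBlocks₂₂ := by
      intro a ha had
      have := hM _ (D_mem_wr (one_mem A) ha) (by rw [det_blockD, had, Units.val_one, det_one, one_mul])
      rw [blockD_val, ← fromBlocks_toBlocks M, fromBlocks_multiply, fromBlocks_multiply] at this
      simpa using (fromBlocks_inj.1 this).2.2.2
    obtain ⟨x, hx⟩ := hA.commutant _ fun a ha had => (hL a ha had).1
    obtain ⟨y, hy⟩ := hA.commutant _ hR
    have hY : M.toBlocks₁₂ = 0 := hM0 _ (by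
      have := (hL n1 hn1A hdet).2.1
      rwa [hn1v, Matrix.neg_mul, one_mul] at this)
    have hZ : M.toBlocks₂₁ = 0 := hM0 _ (by
      have := (hL n1 hn1A hdet).2.2
      rw [hn1v, Matrix.mul_neg, mul_one] at this
      exact this.symm)
    have hxy : x • (1 : Matrix α α F) = y • 1 := by
      have := hM _ S_mem_wr (det_blockS hev)
      rw [blockS_val, ← fromBlocks_toBlocks M, fromBlocks_multiply, fromBlocks_multiply] at this
      have e := (fromBlocks_inj.1 this).2.1
      rw [hx, hy] at e
      simpa using e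
    refine ⟨x, ?_⟩
    conv_lhs => rw [← fromBlocks_toBlocks M, hx, hy, hY, hZ, ← hxy]
    rw [← fromBlocks_one, fromBlocks_smul]
    simp
  set z : GL (α ⊕ α) F := blockD (1, n1) with hz
  have hzv : z.val = fromBlocks 1 0 0 (-1) := by rw [hz, blockD_val, hn1v]; rfl
  have hzB : z ∈ wr A := D_mem_wr (one_mem A) hn1A
  have hz1 : z.val.det = 1 := by rw [hz, det_blockD, hdet, Units.val_one, det_one, one_mul]
  have hzcomm : ∀ y ∈ wr A, z.val * y.val = y.val * z.val ∨ z.val * y.val = -(y.val * z.val) := by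
    rintro _ ⟨a, -, b, -, rfl | rfl⟩
    · left; simp [hzv, blockD_val, fromBlocks_multiply]
    · right; simp [hzv, blockD_val, blockS_val, fromBlocks_multiply, fromBlocks_neg]
  have hnorm : ∀ g : GL (α ⊕ α) F, (∀ a ∈ wr A, a.val.det = 1 → g * a * g⁻¹ ∈ wr A) →
      ∃ a ∈ wr A, ∃ c : Fˣ, g = a * scal (α ⊕ α) c := by
    intro g hg
    have hdetB : ∀ g' : GL (α ⊕ α) F, ∀ a : GL (α ⊕ α) F, (g' * a * g'⁻¹).val.det = a.val.det := by
      intro g' a
      rw [Units.val_mul, Units.val_mul, det_mul, det_mul, mul_right_comm, ← det_mul, ← Units.val_mul,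
        mul_inv_cancel, Units.val_one, det_one, one_mul]
    have hginv : ∀ y ∈ wr A, y.val.det = 1 → g⁻¹ * y * g ∈ wr A := by
      intro y hy hyd
      let f : {a : GL (α ⊕ α) F // a ∈ wr A ∧ a.val.det = 1} →
          {a : GL (α ⊕ α) F // a ∈ wr A ∧ a.val.det = 1} :=
        fun a => ⟨g * a.1 * g⁻¹, hg a.1 a.2.1 a.2.2, by rw [hdetB]; exact a.2.2⟩
      have hf : Function.Injective f := fun a a' h => Subtype.ext (by simpa [f] using h)
      obtain ⟨⟨a, ha, had⟩, he⟩ := (Finite.injective_iff_surjective.1 hf) ⟨y, hy, hyd⟩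
      have he' : g * a * g⁻¹ = y := congrArg Subtype.val he
      rw [← he']; simpa [mul_assoc] using ha
    set x := g * z * g⁻¹ with hx
    have hxB : x ∈ wr A := hg z hzB hz1
    have hxcomm : ∀ y ∈ wr A, y.val.det = 1 → x.val * y.val = y.val * x.val ∨
        x.val * y.val = -(y.val * x.val) := by
      intro y hy hyd
      have e1 : x.val * y.val = g.val * (z.val * (g⁻¹ * y * g).val) * g⁻¹.val := by
        simp only [hx, Units.val_mul, mul_assoc, Units.mul_inv, mul_one]
      have e2 : y.val * x.val = g.val * ((g⁻¹ * y * g).val * z.val) * g⁻¹.val := by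
        simp only [hx, Units.val_mul, mul_assoc, Units.mul_inv_cancel_left]
      rcases hzcomm _ (hginv y hy hyd) with e | e
      · left; rw [e1, e2, e]
      · right; rw [e1, e2, e, Matrix.mul_neg, Matrix.neg_mul]
    have hnontriv : ∃ u ∈ A, u.val.det = 1 ∧ u.val ≠ 1 ∧ u.val ≠ -1 := by
      by_contra hcon
      push Not at hcon
      obtain ⟨i⟩ := (inferInstance : Nonempty α)
      obtain ⟨j, hj⟩ : ∃ j : α, j ≠ i := Fintype.exists_ne_of_one_lt_card (by
        obtain ⟨r, hr⟩ := hev; omega) i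
      obtain ⟨c, hc⟩ := hA.commutant (Matrix.single i i 1) fun u hu hud => by
        by_cases h1 : u.val = 1
        · rw [h1, one_mul, mul_one]
        · rw [hcon u hu hud h1, Matrix.mul_neg, Matrix.neg_mul, mul_one, one_mul]
      have e1 := congrFun (congrFun hc i) i
      have e2 := congrFun (congrFun hc j) j
      simp [hj, Ne.symm hj] at e1 e2
      exact one_ne_zero (e1.trans e2.symm)
    obtain ⟨a, ha, b, hb, hxe | hxe⟩ := hxB
    swap
    · exfalso
      obtain ⟨u, hu, hud, hu1, hu2⟩ := hnontriv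
      have := hxcomm _ (D_mem_wr hu (one_mem A)) (by rw [det_blockD, hud, Units.val_one, det_one, one_mul])
      rw [hxe, Units.val_mul, blockD_val, blockD_val, blockS_val, fromBlocks_multiply, fromBlocks_multiply,
        fromBlocks_multiply, fromBlocks_neg] at this
      rcases this with e | e
      · have e' := (fromBlocks_inj.1 e).2.1
        simp at e'
        exact hu1 (by
          have := congrArg (fun M : Matrix α α F => M * (a⁻¹).val) e'
          simpa [mul_assoc] using this.symm)
      · have e' := (fromBlocks_inj.1 e).2.1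
        simp at e'
        exact hu2 (by
          have := congrArg (fun M : Matrix α α F => -(M * (a⁻¹).val)) e'
          simpa [mul_assoc] using this.symm)
    have habs : ∀ (a b : GL α F), (∀ y ∈ A, y.val.det = 1 →
        (blockD (a, b)).val * (blockD (y, (1 : GL α F))).val = (blockD (y, (1 : GL α F))).val * (blockD (a, b)).val ∨
        (blockD (a, b)).val * (blockD (y, (1 : GL α F))).val = -((blockD (y, (1 : GL α F))).val * (blockD (a, b)).val)) →
        ∃ c : F, a.val = c • 1 := by
      intro a b h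
      refine hA.commutant _ fun y hy hyd => ?_
      have := h y hy hyd
      rw [blockD_val, blockD_val, fromBlocks_multiply, fromBlocks_multiply, fromBlocks_neg] at this
      rcases this with e | e
      · simpa using (fromBlocks_inj.1 e).1
      · have := (fromBlocks_inj.1 e).2.2.2
        simp at this
        exact absurd (hM0 _ this) b.ne_zero
    obtain ⟨ca, hca⟩ := habs a b fun y hy hyd => by
      have := hxcomm _ (D_mem_wr hy (one_mem A)) (by rw [det_blockD, hyd, Units.val_one, det_one, one_mul])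
      rwa [hxe] at this
    obtain ⟨cb, hcb⟩ := habs b a fun y hy hyd => by
      have := hxcomm _ (D_mem_wr (one_mem A) hy) (by rw [det_blockD, hyd, Units.val_one, det_one, one_mul])
      rw [hxe] at this
      have e3 : ∀ p r : GL α F, (blockD (p, r)).val = blockS.val * (blockD (r, p)).val * blockS.val := by
        intro p r
        simp [blockS_val, blockD_val, fromBlocks_multiply]
      have e4 : ∀ P Q : Matrix (α ⊕ α) (α ⊕ α) F,
          (blockS.val * P * blockS.val) * (blockS.val * Q * blockS.val) = blockS.val * (P * Q) * blockS.val := by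
        intro P Q
        have : (blockS : GL (α ⊕ α) F).val * blockS.val = 1 := by rw [← Units.val_mul, blockS_sq]; rfl
        calc _ = blockS.val * P * (blockS.val * blockS.val) * (Q * blockS.val) := by simp only [mul_assoc]
          _ = _ := by rw [this]; simp only [mul_assoc, one_mul, mul_one]
      rw [e3 b a, e3 y 1, e4, e4]
      rcases this with e | e
      · left; rw [e]
      · right; rw [e, Matrix.mul_neg, Matrix.neg_mul]
    have hσ := hxcomm _ S_mem_wr (det_blockS hev)
    rw [hxe, blockD_val, blockS_val, hca, hcb, fromBlocks_multiply, fromBlocks_multiply, fromBlocks_neg] at hσ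
    have hzne : ∀ c : F, z.val ≠ c • 1 := by
      intro c hc
      rw [hzv, ← fromBlocks_one, fromBlocks_smul] at hc
      obtain ⟨e1, -, -, e4⟩ := fromBlocks_inj.1 hc
      obtain ⟨i⟩ := (inferInstance : Nonempty α)
      have f1 := congrFun (congrFun e1 i) i
      have f4 := congrFun (congrFun e4 i) i
      simp at f1 f4
      exact h2 (by linear_combination f1 - f4)
    rcases hσ with e | e
    · exfalso
      have e' := (fromBlocks_inj.1 e).2.1
      simp at e'
      refine hzne ca ?_
      have hxv : x.val = ca • 1 := by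
        rw [hxe, blockD_val, hca, hcb, ← e', ← fromBlocks_one, fromBlocks_smul]; simp
      calc z.val = g⁻¹.val * x.val * g.val := by
            rw [← Units.val_mul, ← Units.val_mul, hx]; congr 1; group
        _ = ca • 1 := by rw [hxv]; simp
    have e' := (fromBlocks_inj.1 e).2.1
    simp at e'
    obtain ⟨i⟩ := (inferInstance : Nonempty α)
    have hcb' : cb = -ca := by
      have := congrFun (congrFun e' i) i
      simp at this
      linear_combination this
    have hxv : x.val = fromBlocks (ca • 1) 0 0 ((-ca) • 1) := by rw [hxe, blockD_val, hca, hcb, hcb']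
    have hsq : ca * ca = 1 := by
      have hzz : z * z = 1 := Units.ext (by simp [hzv, fromBlocks_multiply, fromBlocks_one])
      have : x * x = 1 := by
        rw [hx, show g * z * g⁻¹ * (g * z * g⁻¹) = g * (z * z) * g⁻¹ by group, hzz]; simp
      have := congrArg Units.val this
      rw [Units.val_mul, hxv, fromBlocks_multiply, Units.val_one, ← fromBlocks_one] at this
      have f := congrFun (congrFun (fromBlocks_inj.1 this).1 i) i
      simpa using f
    -- reduce to the case where `g` commutes with `z`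
    obtain ⟨e₀, he₀, hg0⟩ : ∃ e₀ ∈ wr A, (e₀ * g).val * z.val = z.val * (e₀ * g).val := by
      have hgz : g.val * z.val = x.val * g.val := by
        simp only [hx, Units.val_mul, mul_assoc, Units.inv_mul, mul_one]
      rcases mul_self_eq_one_iff.1 hsq with h | h
      · refine ⟨1, one_mem _, ?_⟩
        rw [one_mul, hgz, hxv, hzv, h]; simp
      · refine ⟨blockS, S_mem_wr, ?_⟩
        rw [Units.val_mul, mul_assoc, hgz, hxv, hzv, h, blockS_val, ← mul_assoc, ← mul_assoc]
        congr 1
        simp [fromBlocks_multiply]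
    set g' := e₀ * g with hg'
    have hdia : g'.val.toBlocks₁₂ = 0 ∧ g'.val.toBlocks₂₁ = 0 := by
      rw [hzv, ← fromBlocks_toBlocks g'.val, fromBlocks_multiply, fromBlocks_multiply] at hg0
      obtain ⟨-, f2, f3, -⟩ := fromBlocks_inj.1 hg0
      simp at f2 f3
      exact ⟨hM0 _ f2.symm, hM0 _ f3⟩
    have hg'e : g'.val = fromBlocks g'.val.toBlocks₁₁ 0 0 g'.val.toBlocks₂₂ := by
      conv_lhs => rw [← fromBlocks_toBlocks g'.val, hdia.1, hdia.2]
    have hdet' : g'.val.det ≠ 0 := fun h => by
      have := congrArg Matrix.det (Units.mul_inv g')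
      rw [det_mul, h, zero_mul, det_one] at this
      exact zero_ne_one this
    rw [hg'e, det_fromBlocks_zero₁₂] at hdet'
    obtain ⟨u₁, hu₁⟩ : IsUnit g'.val.toBlocks₁₁ :=
      (Matrix.isUnit_iff_isUnit_det _).2 (Ne.isUnit (left_ne_zero_of_mul hdet'))
    obtain ⟨u₂, hu₂⟩ : IsUnit g'.val.toBlocks₂₂ :=
      (Matrix.isUnit_iff_isUnit_det _).2 (Ne.isUnit (right_ne_zero_of_mul hdet'))
    have hg'D : g' = blockD (u₁, u₂) := Units.ext (by rw [blockD_val, hu₁, hu₂]; exact hg'e)
    have hg'N : ∀ y ∈ wr A, y.val.det = 1 → g' * y * g'⁻¹ ∈ wr A := by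
      intro y hy hyd
      rw [hg', show e₀ * g * y * (e₀ * g)⁻¹ = e₀ * (g * y * g⁻¹) * e₀⁻¹ by group]
      exact mul_mem (mul_mem he₀ (hg y hy hyd)) (inv_mem he₀)
    have hunorm : (∀ c ∈ A, u₁ * c * u₁⁻¹ ∈ A) ∧ (∀ c ∈ A, u₂ * c * u₂⁻¹ ∈ A) := by
      have key : ∀ c ∈ A, ∀ d ∈ A, c.val.det * d.val.det = 1 →
          u₁ * c * u₁⁻¹ ∈ A ∧ u₂ * d * u₂⁻¹ ∈ A := by
        intro c hc d hd hdd
        have := hg'N _ (D_mem_wr hc hd) (by rw [det_blockD, hdd])
        rw [hg'D, ← map_inv, ← map_mul, ← map_mul] at this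
        exact mem_of_D_mem_wr this
      have hdd : ∀ c : GL α F, c.val.det * (c⁻¹).val.det = 1 := fun c => by
        rw [← det_mul, Units.mul_inv, det_one]
      exact ⟨fun c hc => (key c hc _ (inv_mem hc) (hdd c)).1,
        fun c hc => (key _ (inv_mem hc) c hc (by rw [mul_comm]; exact hdd c)).2⟩
    obtain ⟨a₁, ha₁, c₁, rfl⟩ := hA.norm u₁ hunorm.1
    obtain ⟨a₂, ha₂, c₂, rfl⟩ := hA.norm u₂ hunorm.2
    have hcc : scal α (c₁ * c₂⁻¹) ∈ A := by
      have h1 : blockD (a₁ * scal α c₁, a₂ * scal α c₂) * blockS *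
          (blockD (a₁ * scal α c₁, a₂ * scal α c₂))⁻¹ ∈ wr A := by
        rw [← hg'D]; exact hg'N _ S_mem_wr (det_blockS hev)
      rw [← map_inv, mul_assoc, Prod.inv_mk, blockS_D, ← mul_assoc, ← map_mul] at h1
      have h2 := mul_mem h1 (inv_mem (S_mem_wr (A := A)))
      rw [mul_inv_cancel_right] at h2
      have h3 := (mem_of_D_mem_wr h2).1
      change a₁ * scal α c₁ * (a₂ * scal α c₂)⁻¹ ∈ A at h3
      have e : a₁ * scal α c₁ * (a₂ * scal α c₂)⁻¹ = a₁ * a₂⁻¹ * scal α (c₁ * c₂⁻¹) := by
        rw [_root_.mul_inv_rev, ← map_inv, mul_assoc, ← mul_assoc (scal α c₁), ← map_mul, scal_comm, mul_assoc]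
      rw [e] at h3
      exact (Subgroup.mul_mem_cancel_left A (mul_mem ha₁ (inv_mem ha₂))).1 h3
    refine ⟨e₀⁻¹ * blockD (a₁ * scal α (c₁ * c₂⁻¹), a₂),
      mul_mem (inv_mem he₀) (D_mem_wr (mul_mem ha₁ hcc) ha₂), c₂, ?_⟩
    rw [mul_assoc, eq_inv_mul_iff_mul_eq, ← hg', hg'D, ← blockD_scal, ← map_mul]
    congr 1
    refine Prod.ext ?_ rfl
    show a₁ * scal α c₁ = a₁ * scal α (c₁ * c₂⁻¹) * scal α c₂
    rw [mul_assoc, ← map_mul, inv_mul_cancel_right]
  exact {
    pgroup := isPGroup_wr hA.pgroup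
    scal_mem := fun c hc => blockD_scal (α := α) c ▸ D_mem_wr (hA.scal_mem c hc) (hA.scal_mem c hc)
    norm := fun g hg => hnorm g fun a ha _ => hg a ha
    commutant := hcomm
    norm_one := hnorm }

/-- Reindexing. -/
noncomputable def glCongr (e : α ≃ β) : GL α F ≃* GL β F :=
  Units.mapEquiv (Matrix.reindexAlgEquiv F F e).toMulEquiv

theorem glCongr_val (e : α ≃ β) (g : GL α F) : (glCongr e g).val = Matrix.reindex e e g.val := rfl

theorem glCongr_scal (e : α ≃ β) (c : Fˣ) : glCongr e (scal α c) = scal β c :=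
  Units.ext (by
    rw [glCongr_val, scal_val, scal_val]
    ext i j
    simp [Matrix.one_apply])

theorem det_glCongr (e : α ≃ β) (g : GL α F) : (glCongr e g).val.det = g.val.det := by
  rw [glCongr_val, det_reindex_self]

theorem strong_congr (e : α ≃ β) {A : Subgroup (GL α F)} (hA : Strong A) :
    Strong (A.map (glCongr (F := F) e).toMonoidHom) := by
  set φ := glCongr (F := F) e
  have hm : ∀ y, y ∈ A.map φ.toMonoidHom ↔ φ.symm y ∈ A := fun y => by
    constructor
    · rintro ⟨a, ha, rfl⟩; simpa using ha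
    · exact fun h => ⟨φ.symm y, h, by simp⟩
  have hd : ∀ y, (φ.symm y).val.det = y.val.det := fun y => by
    conv_rhs => rw [← φ.apply_symm_apply y, det_glCongr]
  have hn : ∀ g, (∀ a ∈ A.map φ.toMonoidHom, a.val.det = 1 → g * a * g⁻¹ ∈ A.map φ.toMonoidHom) →
      ∃ a ∈ A.map φ.toMonoidHom, ∃ c : Fˣ, g = a * scal β c := by
    intro g hg
    obtain ⟨a, ha, c, hc⟩ := hA.norm_one (φ.symm g) fun a ha had => by
      have := (hm _).1 (hg (φ a) ((hm _).2 (by simpa using ha)) (by rw [det_glCongr]; exact had))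
      simpa using this
    refine ⟨φ a, (hm _).2 (by simpa using ha), c, ?_⟩
    rw [← glCongr_scal e, ← map_mul, ← hc, φ.apply_symm_apply]
  exact {
    pgroup := hA.pgroup.map _
    scal_mem := fun c hc => (hm _).2 (by rw [← glCongr_scal e, φ.symm_apply_apply]; exact hA.scal_mem c hc)
    norm := fun g hg => hn g fun a ha _ => hg a ha
    commutant := fun M hM => by
      obtain ⟨c, hc⟩ := hA.commutant ((Matrix.reindexAlgEquiv F F e).symm M) fun a ha had => by
        have := hM (φ a) ((hm _).2 (by simpa using ha)) (by rw [det_glCongr]; exact had)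
        apply (Matrix.reindexAlgEquiv F F e).injective
        rw [map_mul, map_mul, AlgEquiv.apply_symm_apply]
        exact this
      refine ⟨c, ?_⟩
      have := congrArg (Matrix.reindexAlgEquiv F F e) hc
      rwa [AlgEquiv.apply_symm_apply, map_smul, map_one] at this
    norm_one := hn }

end Cfsg.Agent.Pronormal
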