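import Cfsg.Agent.Lib.Pronormal.SylowBaseHerm
import Cfsg.Agent.Lib.Pronormal.Criterion
import Cfsg.Prelude.Def_LieClassical

/-!
# Sylow `2`-subgroups of `PSU(2 ^ w, q)`, `w ≥ 2`, `q` odd, are self-normalising
-/

set_option autoImplicit false
set_option linter.unusedSectionVars false

namespace Cfsg.Agent.Pronormal.Herm

open Matrix Cfsg.Agent.Pronormal

variable {F : Type*} [Field F] [Fintype F]

theorem exists_strong_herm (σ : F →+* F) (q : ℕ) (hF : Fintype.card F = q ^ 2) (hq : Odd q)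
    (hσ : ∀ x, σ x = x ^ q) (w : ℕ) :
    ∃ A : Subgroup (GL (Fin (2 ^ (w + 2))) F), Strong σ A := by
  have h2 := SL2.two_ne_zero' (F := F) (hF ▸ hq.pow)
  have step : ∀ n : ℕ, Even n → 0 < n → (∃ A : Subgroup (GL (Fin n) F), Good σ A) →
      ∃ A : Subgroup (GL (Fin (2 * n)) F), Strong σ A := by
    rintro n hn hn0 ⟨A, hA⟩
    refine ⟨_, strong_congr (finSumFinEquiv.trans (finCongr (two_mul n).symm))
      (strong_wr hA h2 (by rwa [Fintype.card_fin]) (by rwa [Fintype.card_fin]))⟩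
  induction w with
  | zero => exact step 2 even_two two_pos (exists_good_two_herm σ q hF hq hσ)
  | succ w ih =>
    obtain ⟨A, hA⟩ := ih
    obtain ⟨B, hB⟩ := step _ (Nat.even_pow.2 ⟨even_two, by omega⟩) (Nat.two_pow_pos _) ⟨A, hA.toGood⟩
    have e : 2 * 2 ^ (w + 2) = 2 ^ (w + 1 + 2) := by rw [← pow_succ']
    exact ⟨_, strong_congr (finCongr e) hB⟩

theorem mem_SU_iff_uni {n q : ℕ} (σ : F →+* F) (hσ : ∀ x, σ x = x ^ q)
    (s : Matrix.SpecialLinearGroup (Fin n) F) :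
    s ∈ Cfsg.SU n F q ↔ Matrix.SpecialLinearGroup.toGL s ∈ uni σ (Fin n) := by
  have hform : ∀ u v : Fin n → F, Cfsg.hermForm n F q u v = u ⬝ᵥ (σ ∘ v) := fun u v => by
    simp [Cfsg.hermForm, dotProduct, hσ]
  have hmul : ∀ u v : Fin n → F,
      Cfsg.hermForm n F q (s.1 *ᵥ u) (s.1 *ᵥ v) = u ⬝ᵥ ((s.1ᵀ * s.1.map σ) *ᵥ (σ ∘ v)) := by
    intro u v
    rw [hform, ← Matrix.mulVec_mulVec, Matrix.dotProduct_mulVec u (s.1ᵀ), Matrix.vecMul_transpose]
    congr 1
    funext i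
    exact RingHom.map_mulVec σ _ _ i
  rw [mem_uni]
  constructor
  · intro h
    ext a b
    have h1 : Cfsg.hermForm n F q (s.1 *ᵥ Pi.single a 1) (s.1 *ᵥ Pi.single b 1) =
        Cfsg.hermForm n F q (Pi.single a 1) (Pi.single b 1) := h (Pi.single a 1) (Pi.single b 1)
    rw [hmul, hform] at h1
    have e : (σ ∘ (Pi.single b 1 : Fin n → F)) = Pi.single b 1 := by
      funext i; simp [Pi.single_apply, apply_ite σ]
    rw [e] at h1
    simpa [Matrix.mulVec_single, Matrix.one_apply, Pi.single_apply, eq_comm] using h1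
  · intro h u v
    show Cfsg.hermForm n F q (s.1 *ᵥ u) (s.1 *ᵥ v) = Cfsg.hermForm n F q u v
    rw [hmul, hform, show s.1ᵀ * s.1.map σ = 1 from h, Matrix.one_mulVec]

/-- In `PSU(2 ^ w, q)`, `w ≥ 2`, `q` odd, Sylow `2`-subgroups are self-normalising. -/
theorem normalizer_sylow_le (q : ℕ) (hF : Fintype.card F = q ^ 2) (hq : Odd q) (σ : F →+* F)
    (hσ : ∀ x, σ x = x ^ q) {w : ℕ} (hw : 2 ≤ w)
    (S : Sylow 2 (Cfsg.PSU (2 ^ w) F q)) :
    Subgroup.normalizer (((S : Subgroup (Cfsg.PSU (2 ^ w) F q))) : Set (Cfsg.PSU (2 ^ w) F q)) ≤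
      (S : Subgroup (Cfsg.PSU (2 ^ w) F q)) := by
  classical
  haveI : Fact (Nat.Prime 2) := ⟨Nat.prime_two⟩
  obtain ⟨v, rfl⟩ : ∃ v, w = v + 2 := ⟨w - 2, by omega⟩
  obtain ⟨A, hA⟩ := exists_strong_herm σ q hF hq hσ v
  let π : ↥(Cfsg.SU (2 ^ (v + 2)) F q) →* Cfsg.PSU (2 ^ (v + 2)) F q := QuotientGroup.mk' _
  let ι : ↥(Cfsg.SU (2 ^ (v + 2)) F q) →* GL (Fin (2 ^ (v + 2))) F :=
    Matrix.SpecialLinearGroup.toGL.comp (Cfsg.SU (2 ^ (v + 2)) F q).subtype
  have hιinj : Function.Injective ι := fun a b h =>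
    Subtype.ext (Matrix.SpecialLinearGroup.toGL_injective h)
  have hιU : ∀ s, ι s ∈ uni σ (Fin (2 ^ (v + 2))) := fun s => (mem_SU_iff_uni σ hσ s.1).1 s.2
  have hιsurj : ∀ a ∈ A, a.val.det = 1 → ∃ y, ι y = a := fun a ha had => by
    refine ⟨⟨⟨a.val, had⟩, (mem_SU_iff_uni σ hσ _).2 ?_⟩, Units.ext rfl⟩
    rw [show Matrix.SpecialLinearGroup.toGL (⟨a.val, had⟩ : Matrix.SpecialLinearGroup (Fin (2 ^ (v + 2))) F) = a from Units.ext rfl]
    exact hA.le_uni ha
  haveI : Finite (Cfsg.PSU (2 ^ (v + 2)) F q) := Finite.of_surjective π (QuotientGroup.mk'_surjective _)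
  set T : Subgroup ↥(Cfsg.SU (2 ^ (v + 2)) F q) := A.comap ι
  have hTp : IsPGroup 2 T := hA.pgroup.comap_of_injective _ hιinj
  have hscal : ∀ (c : Fˣ) (a : GL (Fin (2 ^ (v + 2))) F) (s : ↥(Cfsg.SU (2 ^ (v + 2)) F q)),
      a ∈ A → ι s = a * scal _ c → scal (Fin (2 ^ (v + 2))) c ∈ A := by
    intro c a s ha hc
    have hcU : scal (Fin (2 ^ (v + 2))) c ∈ uni σ (Fin (2 ^ (v + 2))) := by
      have := mul_mem (inv_mem (hA.le_uni ha)) (hιU s)
      rwa [hc, inv_mul_cancel_left] at this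
    refine hA.scal_mem c hcU ?_
    obtain ⟨k, hk⟩ := hA.pgroup ⟨a, ha⟩
    refine ⟨(v + 2) + k, ?_⟩
    have h1 : a.val.det * (c : F) ^ (2 ^ (v + 2)) = 1 := by
      have := congrArg (fun g : GL (Fin (2 ^ (v + 2))) F => g.val.det) hc
      simp only [Units.val_mul, det_mul, det_scal, Fintype.card_fin] at this
      rw [← this]; exact s.1.det_coe
    have h2 : a.val.det ^ 2 ^ k = 1 := by
      rw [← det_pow, ← Units.val_pow_eq_pow_val, show a ^ 2 ^ k = 1 by simpa using congrArg Subtype.val hk,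
        Units.val_one, det_one]
    apply Units.ext
    rw [Units.val_pow_eq_pow_val, pow_add, pow_mul, Units.val_one]
    calc ((c : F) ^ 2 ^ (v + 2)) ^ 2 ^ k = (a.val.det * (c : F) ^ 2 ^ (v + 2)) ^ 2 ^ k := by
          rw [mul_pow a.val.det, h2, one_mul]
      _ = 1 := by rw [h1, one_pow]
  have hTN : ∀ s, (∀ y ∈ T, s * y * s⁻¹ ∈ T) → s ∈ T := by
    intro s hs
    obtain ⟨a, ha, c, hc⟩ := hA.norm_one (ι s) (hιU s) fun a ha had => by
      obtain ⟨y, rfl⟩ := hιsurj a ha had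
      rw [← map_inv, ← map_mul, ← map_mul]
      exact hs y ha
    refine Subgroup.mem_comap.2 ?_
    rw [hc]
    exact mul_mem ha (hscal c a s ha hc)
  have hker : π.ker ≤ T := by
    intro z hz
    rw [QuotientGroup.ker_mk'] at hz
    obtain ⟨c, hc⟩ := hA.commutant (ι z).val fun a ha had => by
      obtain ⟨y, rfl⟩ := hιsurj a ha had
      rw [← Units.val_mul, ← Units.val_mul, ← map_mul, ← map_mul, Subgroup.mem_center_iff.1 hz y]
    have hc0 : c ≠ 0 := fun e => by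
      have h1 : (ι z).val.det = 1 := z.1.det_coe
      rw [hc, e, zero_smul, Matrix.det_zero] at h1
      exact zero_ne_one h1
    have hzc : ι z = scal _ (Units.mk0 c hc0) := Units.ext (by rw [scal_val, Units.val_mk0, hc])
    refine Subgroup.mem_comap.2 ?_
    have := mul_mem (one_mem A) (hscal (Units.mk0 c hc0) 1 z (one_mem A) (by rw [hzc, one_mul]))
    rw [hzc]
    rwa [one_mul] at this
  have hmapN : ∀ n, (∀ y ∈ T.map π, n * y * n⁻¹ ∈ T.map π) → n ∈ T.map π := by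
    intro n hn
    obtain ⟨s, rfl⟩ := QuotientGroup.mk'_surjective _ n
    refine Subgroup.mem_map_of_mem π (hTN s fun y hy => ?_)
    obtain ⟨z, hz, hze⟩ := Subgroup.mem_map.1 (hn _ (Subgroup.mem_map_of_mem π hy))
    have : z⁻¹ * (s * y * s⁻¹) ∈ T := hker (by
      rw [MonoidHom.mem_ker, map_mul, map_inv, hze, map_mul, map_mul, map_inv]; exact inv_mul_cancel _)
    have := mul_mem hz this
    rwa [mul_inv_cancel_left] at this
  obtain ⟨P, hP⟩ := (hTp.map π).exists_le_sylow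
  have hPT : (P : Subgroup (Cfsg.PSU (2 ^ (v + 2)) F q)) = T.map π := by
    by_contra hne
    have hlt : (T.map π).subgroupOf P < ⊤ := by
      rw [lt_top_iff_ne_top, Ne, Subgroup.subgroupOf_eq_top]
      exact fun h => hne (le_antisymm h hP)
    haveI : Group.IsNilpotent P := P.isPGroup'.isNilpotent
    obtain ⟨y, hy, hy'⟩ := SetLike.exists_of_lt
      (Group.normalizerCondition_of_isNilpotent ((T.map π).subgroupOf P) hlt)
    refine hy' (Subgroup.mem_subgroupOf.2 (hmapN _ fun x hx => ?_))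
    exact Subgroup.mem_subgroupOf.1 ((Subgroup.mem_normalizer_iff.1 hy ⟨x, hP hx⟩).1 (Subgroup.mem_subgroupOf.2 hx))
  obtain ⟨g, hg⟩ := MulAction.exists_smul_eq (Cfsg.PSU (2 ^ (v + 2)) F q) P S
  intro n hn
  have hS : ∀ x, x ∈ (S : Subgroup (Cfsg.PSU (2 ^ (v + 2)) F q)) ↔ g⁻¹ * x * g ∈ T.map π := fun x => by
    rw [← hg, Sylow.coe_subgroup_smul, Subgroup.mem_pointwise_smul_iff_inv_smul_mem, hPT]
    simp [MulAut.smul_def]
  rw [hS]
  refine hmapN _ fun y hy => ?_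
  have h1 : g * y * g⁻¹ ∈ (S : Subgroup (Cfsg.PSU (2 ^ (v + 2)) F q)) := by rw [hS]; simpa [mul_assoc] using hy
  have h2 := (hS _).1 ((Subgroup.mem_normalizer_iff.1 hn _).1 h1)
  convert h2 using 1
  group

end Cfsg.Agent.Pronormal.Herm
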